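import Cfsg.Agent.Lib.CosetEnum.Table

/-! Words for the presentation of 2.HS:2 on `x y z`, letters `x x⁻¹ y y⁻¹ z`. Generated file. -/

set_option autoImplicit false
set_option maxRecDepth 400000
set_option linter.all false

namespace CfsgLib.HNDouble

/-- The inverse table of the letters. -/
def ip : ℕ := 18364758544493060865

/-- The relators. -/
def rels : List (List ℕ) := [
  [2, 2, 2, 2, 2, 2],
  [0, 0, 2, 0, 0, 3],
  [1, 3, 0, 2, 1, 3, 0, 2, 1, 3, 0, 2],
  [1, 2, 2, 0, 2, 2, 2, 1, 2, 2, 0, 2, 2, 2, 1, 2, 2, 0, 2, 2, 2],
  [0, 2, 0, 2, 0, 2, 0, 2, 0, 2, 0, 2, 0, 2, 0, 2],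
  [0, 2, 0, 2, 2, 2, 0, 2, 0, 2, 2, 2, 0, 2, 0, 2, 2, 2, 0, 2, 0, 2, 2, 2],
  [4, 4],
  [4, 0, 4, 0],
  [4, 2, 1, 3, 3, 1, 3, 1, 3, 4, 2, 0, 2, 0, 2, 2, 0, 3, 1, 1],
  [4, 3, 1, 3, 1, 3, 3, 3, 4, 2, 2, 2, 0, 2, 0, 2, 0, 3, 1, 3, 1, 3, 3, 3, 4, 2, 2, 2, 0, 2, 0, 2, 0, 3, 1, 3, 1, 3, 3, 3, 4, 2, 2, 2, 0, 2, 0, 2, 0],
  [0, 1],
  [2, 3]]

/-- The relators with `x⁴`. -/
def rels4 : List (List ℕ) := rels ++ [[0, 0, 0, 0]]

/-- The subgroup acting on `⟨t⟩` by signs. -/
def subWords : List (List ℕ) := [
  [2],
  [1, 2, 0],
  [0, 0]]

/-- Codes of the images on the hundred points. -/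
def codes : List ℕ := [1986908811039331628533102894939094657451161387385253140887537803682119202886209458902814368804997945439173265644147630226897962879407463643714340798736983046780391463945745011870836857030413676799243238868050697404519333005949000862014902280, 1986908811039331628533102894939094657451161387385253140887537803682119202886209458902814368804997945439173265644147630226897962879407463643714340798736983046780391463945745011870836857030413676799243238868050697404519333005949000862014902280, 599719852623392943756599591462027719967511064803652080589806183013082202214851303170533439800391101842420476661338833943708027081286366322741819561817026459731191881908698423753057184948680657519816346664228385025740911938864406833957060615, 86503035977620519020787959854413280544021695713974755738759444886262648721576096175040967675198539330987196263190764086995891450355734230201132738962717409613205932054045775748314602035207799240803156923790956312870194520526638987464878890, 788744123953471525046411803233906566915543433956951177678589628535076392119312972019843202679289013134859768785061734565244910292635587220831937125565186971031227891126629349785188822966473408143100835963446537624915889899857253928230526720]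

end CfsgLib.HNDouble
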