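import Cfsg.Agent.Lib.CosetEnum.LetterCert
import Cfsg.Agent.Lib.HNDouble.CertData
import Cfsg.Agent.Lib.HNDouble.Data

/-! Coset enumeration of index 704: checks from fact 8000. Generated file. -/

set_option autoImplicit false
set_option maxRecDepth 400000
set_option linter.all false

namespace CfsgLib.HNDouble.Cert

open CfsgLib.CosetEnum

noncomputable def items8000 : List ℕ := [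
nat_lit 0x0,
nat_lit 0x0,
nat_lit 0x0,
nat_lit 0x0,
nat_lit 0x0,
nat_lit 0x0,
nat_lit 0x0,
nat_lit 0x0,
nat_lit 0x0,
nat_lit 0x0,
nat_lit 0x0,
nat_lit 0x0,
nat_lit 0x0,
nat_lit 0x0,
nat_lit 0x0,
nat_lit 0x0,
nat_lit 0x0,
nat_lit 0x0,
nat_lit 0x0,
nat_lit 0x0,
nat_lit 0x0,
nat_lit 0x0,
nat_lit 0x0,
nat_lit 0x0,
nat_lit 0x0,
nat_lit 0x0,
nat_lit 0x0,
nat_lit 0x0,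
nat_lit 0x0,
nat_lit 0x0,
nat_lit 0x0,
nat_lit 0x0,
nat_lit 0x0,
nat_lit 0x0,
nat_lit 0x0,
nat_lit 0x0,
nat_lit 0x0,
nat_lit 0x0,
nat_lit 0x0,
nat_lit 0x0,
nat_lit 0x0,
nat_lit 0x0,
nat_lit 0x0,
nat_lit 0x0,
nat_lit 0x0,
nat_lit 0x0,
nat_lit 0x0,
nat_lit 0x0,
nat_lit 0x0,
nat_lit 0x0,
nat_lit 0x0,
nat_lit 0x0,
nat_lit 0x0,
nat_lit 0x0,
nat_lit 0x0,
nat_lit 0x0,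
nat_lit 0x0,
nat_lit 0x0,
nat_lit 0x0,
nat_lit 0x0,
nat_lit 0x0,
nat_lit 0x0,
nat_lit 0x0,
nat_lit 0x0,
nat_lit 0x0,
nat_lit 0x0,
nat_lit 0x0,
nat_lit 0x0,
nat_lit 0x0,
nat_lit 0x0,
nat_lit 0x0,
nat_lit 0x0,
nat_lit 0x0,
nat_lit 0x0,
nat_lit 0x0,
nat_lit 0x0,
nat_lit 0x0,
nat_lit 0x0,
nat_lit 0x0,
nat_lit 0x0,
nat_lit 0x0,
nat_lit 0x0,
nat_lit 0x0,
nat_lit 0x0,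
nat_lit 0x0,
nat_lit 0x0,
nat_lit 0x0,
nat_lit 0x0,
nat_lit 0x0,
nat_lit 0x0,
nat_lit 0x0,
nat_lit 0x0,
nat_lit 0x0,
nat_lit 0x0,
nat_lit 0x0,
nat_lit 0x0,
nat_lit 0x0,
nat_lit 0x0,
nat_lit 0x0,
nat_lit 0x0,
nat_lit 0x0,
nat_lit 0x0,
nat_lit 0x0,
nat_lit 0x0,
nat_lit 0x0,
nat_lit 0x0,
nat_lit 0x0,
nat_lit 0x0,
nat_lit 0x0,
nat_lit 0x0,
nat_lit 0x0,
nat_lit 0x0,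
nat_lit 0x0,
nat_lit 0x0,
nat_lit 0x0,
nat_lit 0x0,
nat_lit 0x0,
nat_lit 0x0,
nat_lit 0x0,
nat_lit 0x0,
nat_lit 0x0,
nat_lit 0x0,
nat_lit 0x0,
nat_lit 0x0,
nat_lit 0x0,
nat_lit 0x0,
nat_lit 0x0,
nat_lit 0x0,
nat_lit 0x0,
nat_lit 0x0,
nat_lit 0x0,
nat_lit 0x0,
nat_lit 0x0,
nat_lit 0x0,
nat_lit 0x0,
nat_lit 0x0,
nat_lit 0x0,
nat_lit 0x0,
nat_lit 0x0,
nat_lit 0x0,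
nat_lit 0x0,
nat_lit 0x0,
nat_lit 0x0,
nat_lit 0x0,
nat_lit 0x0,
nat_lit 0x0,
nat_lit 0x0,
nat_lit 0x0,
nat_lit 0x0,
nat_lit 0x0,
nat_lit 0x0,
nat_lit 0x0,
nat_lit 0x0,
nat_lit 0x0,
nat_lit 0x0,
nat_lit 0x0,
nat_lit 0x0,
nat_lit 0x0,
nat_lit 0x0,
nat_lit 0x0,
nat_lit 0x0,
nat_lit 0x0,
nat_lit 0x0,
nat_lit 0x0,
nat_lit 0x0,
nat_lit 0x0,
nat_lit 0x0,
nat_lit 0x0,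
nat_lit 0x0,
nat_lit 0x0,
nat_lit 0x0,
nat_lit 0x0,
nat_lit 0x0,
nat_lit 0x0,
nat_lit 0x0,
nat_lit 0x0,
nat_lit 0x0,
nat_lit 0x0,
nat_lit 0x0,
nat_lit 0x0,
nat_lit 0x0,
nat_lit 0x0,
nat_lit 0x0,
nat_lit 0x0,
nat_lit 0x0,
nat_lit 0x0,
nat_lit 0x0,
nat_lit 0x0,
nat_lit 0x0,
nat_lit 0x0,
nat_lit 0x0,
nat_lit 0x0,
nat_lit 0x0,
nat_lit 0x0,
nat_lit 0x0,
nat_lit 0x0,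
nat_lit 0x0,
nat_lit 0x0,
nat_lit 0x0,
nat_lit 0x0,
nat_lit 0x0,
nat_lit 0x0,
nat_lit 0x0,
nat_lit 0x0,
nat_lit 0x0,
nat_lit 0x0,
nat_lit 0x0,
nat_lit 0x0,
nat_lit 0x0,
nat_lit 0x0,
nat_lit 0x0,
nat_lit 0x0,
nat_lit 0x0,
nat_lit 0x0,
nat_lit 0x0,
nat_lit 0x0,
nat_lit 0x0,
nat_lit 0x0,
nat_lit 0x0,
nat_lit 0x0,
nat_lit 0x0,
nat_lit 0x0,
nat_lit 0x0,
nat_lit 0x0,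
nat_lit 0x0,
nat_lit 0x0,
nat_lit 0x0,
nat_lit 0x0,
nat_lit 0x0,
nat_lit 0x0,
nat_lit 0x0,
nat_lit 0x0,
nat_lit 0x0,
nat_lit 0x0,
nat_lit 0x0,
nat_lit 0x0,
nat_lit 0x0,
nat_lit 0x0,
nat_lit 0x0,
nat_lit 0x0,
nat_lit 0x0,
nat_lit 0x0,
nat_lit 0x0,
nat_lit 0x0,
nat_lit 0x0,
nat_lit 0x0,
nat_lit 0x0,
nat_lit 0x0,
nat_lit 0x0,
nat_lit 0x0,
nat_lit 0x0,
nat_lit 0x0,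
nat_lit 0x0,
nat_lit 0x0,
nat_lit 0x0,
nat_lit 0x0,
nat_lit 0x0,
nat_lit 0x0,
nat_lit 0x0,
nat_lit 0x0,
nat_lit 0x0,
nat_lit 0x0,
nat_lit 0x0,
nat_lit 0x0,
nat_lit 0x0,
nat_lit 0x0,
nat_lit 0x0,
nat_lit 0x0,
nat_lit 0x0,
nat_lit 0x0,
nat_lit 0x0,
nat_lit 0x0,
nat_lit 0x0,
nat_lit 0x0,
nat_lit 0x0,
nat_lit 0x0,
nat_lit 0x0,
nat_lit 0x0,
nat_lit 0x0,
nat_lit 0x0,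
nat_lit 0x0,
nat_lit 0x0,
nat_lit 0x0,
nat_lit 0x0,
nat_lit 0x0,
nat_lit 0x0,
nat_lit 0x0,
nat_lit 0x0,
nat_lit 0x0,
nat_lit 0x0,
nat_lit 0x0,
nat_lit 0x0,
nat_lit 0x0,
nat_lit 0x0,
nat_lit 0x0,
nat_lit 0x0,
nat_lit 0x0,
nat_lit 0x0,
nat_lit 0x0,
nat_lit 0x0,
nat_lit 0x0,
nat_lit 0x0,
nat_lit 0x0,
nat_lit 0x0,
nat_lit 0x0,
nat_lit 0x0,
nat_lit 0x0,
nat_lit 0x0,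
nat_lit 0x0,
nat_lit 0x0,
nat_lit 0x0,
nat_lit 0x0,
nat_lit 0x0,
nat_lit 0x0,
nat_lit 0x0,
nat_lit 0x0,
nat_lit 0x0,
nat_lit 0x0,
nat_lit 0x0,
nat_lit 0x0,
nat_lit 0x0,
nat_lit 0x0,
nat_lit 0x0,
nat_lit 0x0,
nat_lit 0x0,
nat_lit 0x0,
nat_lit 0x0,
nat_lit 0x0,
nat_lit 0x0,
nat_lit 0x0,
nat_lit 0x0,
nat_lit 0x0,
nat_lit 0x0,
nat_lit 0x0,
nat_lit 0x0,
nat_lit 0x0,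
nat_lit 0x0,
nat_lit 0x0,
nat_lit 0x0,
nat_lit 0x0,
nat_lit 0x0,
nat_lit 0x0,
nat_lit 0x0,
nat_lit 0x0,
nat_lit 0x0,
nat_lit 0x0,
nat_lit 0x0,
nat_lit 0x0,
nat_lit 0x0,
nat_lit 0x0,
nat_lit 0x0,
nat_lit 0x0,
nat_lit 0x0,
nat_lit 0x0,
nat_lit 0x0,
nat_lit 0x0,
nat_lit 0x0,
nat_lit 0x0,
nat_lit 0x0,
nat_lit 0x0,
nat_lit 0x0,
nat_lit 0x0,
nat_lit 0x0,
nat_lit 0x0,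
nat_lit 0x0,
nat_lit 0x0,
nat_lit 0x0,
nat_lit 0x0,
nat_lit 0x0,
nat_lit 0x0,
nat_lit 0x0,
nat_lit 0x0,
nat_lit 0x0,
nat_lit 0x0,
nat_lit 0x0,
nat_lit 0x0,
nat_lit 0x0,
nat_lit 0x0,
nat_lit 0x0,
nat_lit 0x0,
nat_lit 0x0,
nat_lit 0x0,
nat_lit 0x0,
nat_lit 0x0,
nat_lit 0x0,
nat_lit 0x0,
nat_lit 0x0,
nat_lit 0x0,
nat_lit 0x0,
nat_lit 0x0,
nat_lit 0x0,
nat_lit 0x0,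
nat_lit 0x0,
nat_lit 0x0,
nat_lit 0x0,
nat_lit 0x0,
nat_lit 0x0,
nat_lit 0x0,
nat_lit 0x0,
nat_lit 0x0,
nat_lit 0x0,
nat_lit 0x0,
nat_lit 0x0,
nat_lit 0x0,
nat_lit 0x0,
nat_lit 0x0,
nat_lit 0x0,
nat_lit 0x0,
nat_lit 0x0,
nat_lit 0x0,
nat_lit 0x0,
nat_lit 0x0,
nat_lit 0x0,
nat_lit 0x0,
nat_lit 0x0,
nat_lit 0x0,
nat_lit 0x0,
nat_lit 0x0,
nat_lit 0x0,
nat_lit 0x0,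
nat_lit 0x0,
nat_lit 0x0,
nat_lit 0x0,
nat_lit 0x0,
nat_lit 0x0,
nat_lit 0x0,
nat_lit 0x0,
nat_lit 0x0,
nat_lit 0x0,
nat_lit 0x0,
nat_lit 0x0,
nat_lit 0x0,
nat_lit 0x0,
nat_lit 0x0,
nat_lit 0x0,
nat_lit 0x0,
nat_lit 0x0,
nat_lit 0x0,
nat_lit 0x0,
nat_lit 0x0,
nat_lit 0x0,
nat_lit 0x0,
nat_lit 0x0,
nat_lit 0x0,
nat_lit 0x0,
nat_lit 0x0,
nat_lit 0x0,
nat_lit 0x0,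
nat_lit 0x0,
nat_lit 0x0,
nat_lit 0x0,
nat_lit 0x0,
nat_lit 0x0,
nat_lit 0x0,
nat_lit 0x0,
nat_lit 0x0,
nat_lit 0x0,
nat_lit 0x0,
nat_lit 0x0,
nat_lit 0x0,
nat_lit 0x0,
nat_lit 0x0,
nat_lit 0x0,
nat_lit 0x0,
nat_lit 0x0,
nat_lit 0x0,
nat_lit 0x0,
nat_lit 0x0,
nat_lit 0x0,
nat_lit 0x0,
nat_lit 0x0,
nat_lit 0x0,
nat_lit 0x0,
nat_lit 0x0,
nat_lit 0x0,
nat_lit 0x0,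
nat_lit 0x0,
nat_lit 0x0,
nat_lit 0x0,
nat_lit 0x0,
nat_lit 0x0,
nat_lit 0x0,
nat_lit 0x0,
nat_lit 0x0,
nat_lit 0x0,
nat_lit 0x0,
nat_lit 0x0,
nat_lit 0x0,
nat_lit 0x0,
nat_lit 0x0,
nat_lit 0x0,
nat_lit 0x0,
nat_lit 0x0,
nat_lit 0x0,
nat_lit 0x0,
nat_lit 0x0,
nat_lit 0x0,
nat_lit 0x0,
nat_lit 0x0,
nat_lit 0x0]

theorem ok8000 : checkFacts facts ip words 256 subs 18473 items8000 8000 = true := by decide +kernel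

theorem len8000 : Nat.beq items8000.length 500 = true := by decide +kernel

noncomputable def items8500 : List ℕ := [
nat_lit 0x0,
nat_lit 0x0,
nat_lit 0x0,
nat_lit 0x0,
nat_lit 0x0,
nat_lit 0x0,
nat_lit 0x0,
nat_lit 0x0,
nat_lit 0x0,
nat_lit 0x0,
nat_lit 0x0,
nat_lit 0x0,
nat_lit 0x0,
nat_lit 0x0,
nat_lit 0x0,
nat_lit 0x0,
nat_lit 0x0,
nat_lit 0x0,
nat_lit 0x0,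
nat_lit 0x0,
nat_lit 0x0,
nat_lit 0x0,
nat_lit 0x0,
nat_lit 0x0,
nat_lit 0x0,
nat_lit 0x0,
nat_lit 0x0,
nat_lit 0x0,
nat_lit 0x0,
nat_lit 0x0,
nat_lit 0x0,
nat_lit 0x0,
nat_lit 0x0,
nat_lit 0x0,
nat_lit 0x0,
nat_lit 0x0,
nat_lit 0x0,
nat_lit 0x0,
nat_lit 0x0,
nat_lit 0x0,
nat_lit 0x0,
nat_lit 0x0,
nat_lit 0x0,
nat_lit 0x0,
nat_lit 0x0,
nat_lit 0x0,
nat_lit 0x0,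
nat_lit 0x0,
nat_lit 0x0,
nat_lit 0x0,
nat_lit 0x0,
nat_lit 0x0,
nat_lit 0x0,
nat_lit 0x0,
nat_lit 0x0,
nat_lit 0x0,
nat_lit 0x0,
nat_lit 0x0,
nat_lit 0x0,
nat_lit 0x0,
nat_lit 0x0,
nat_lit 0x0,
nat_lit 0x0,
nat_lit 0x0,
nat_lit 0x0,
nat_lit 0x0,
nat_lit 0x0,
nat_lit 0x0,
nat_lit 0x0,
nat_lit 0x0,
nat_lit 0x0,
nat_lit 0x0,
nat_lit 0x0,
nat_lit 0x0,
nat_lit 0x0,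
nat_lit 0x0,
nat_lit 0x0,
nat_lit 0x0,
nat_lit 0x0,
nat_lit 0x0,
nat_lit 0x0,
nat_lit 0x0,
nat_lit 0x0,
nat_lit 0x0,
nat_lit 0x0,
nat_lit 0x0,
nat_lit 0x0,
nat_lit 0x0,
nat_lit 0x0,
nat_lit 0x0,
nat_lit 0x0,
nat_lit 0x0,
nat_lit 0x0,
nat_lit 0x0,
nat_lit 0x0,
nat_lit 0x0,
nat_lit 0x0,
nat_lit 0x0,
nat_lit 0x0,
nat_lit 0x0,
nat_lit 0x0,
nat_lit 0x0,
nat_lit 0x0,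
nat_lit 0x0,
nat_lit 0x0,
nat_lit 0x0,
nat_lit 0x0,
nat_lit 0x0,
nat_lit 0x0,
nat_lit 0x0,
nat_lit 0x0,
nat_lit 0x0,
nat_lit 0x0,
nat_lit 0x0,
nat_lit 0x0,
nat_lit 0x0,
nat_lit 0x0,
nat_lit 0x0,
nat_lit 0x0,
nat_lit 0x0,
nat_lit 0x0,
nat_lit 0x0,
nat_lit 0x0,
nat_lit 0x0,
nat_lit 0x0,
nat_lit 0x0,
nat_lit 0x0,
nat_lit 0x0,
nat_lit 0x0,
nat_lit 0x0,
nat_lit 0x0,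
nat_lit 0x0,
nat_lit 0x0,
nat_lit 0x0,
nat_lit 0x0,
nat_lit 0x0,
nat_lit 0x0,
nat_lit 0x0,
nat_lit 0x0,
nat_lit 0x0,
nat_lit 0x0,
nat_lit 0x0,
nat_lit 0x0,
nat_lit 0x0,
nat_lit 0x0,
nat_lit 0x0,
nat_lit 0x0,
nat_lit 0x0,
nat_lit 0x0,
nat_lit 0x0,
nat_lit 0x0,
nat_lit 0x0,
nat_lit 0x0,
nat_lit 0x0,
nat_lit 0x0,
nat_lit 0x0,
nat_lit 0x0,
nat_lit 0x0,
nat_lit 0x0,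
nat_lit 0x0,
nat_lit 0x0,
nat_lit 0x0,
nat_lit 0x0,
nat_lit 0x0,
nat_lit 0x0,
nat_lit 0x0,
nat_lit 0x0,
nat_lit 0x0,
nat_lit 0x0,
nat_lit 0x0,
nat_lit 0x0,
nat_lit 0x0,
nat_lit 0x0,
nat_lit 0x0,
nat_lit 0x0,
nat_lit 0x0,
nat_lit 0x0,
nat_lit 0x0,
nat_lit 0x0,
nat_lit 0x0,
nat_lit 0x0,
nat_lit 0x0,
nat_lit 0x0,
nat_lit 0x0,
nat_lit 0x0,
nat_lit 0x0,
nat_lit 0x0,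
nat_lit 0x0,
nat_lit 0x0,
nat_lit 0x0,
nat_lit 0x0,
nat_lit 0x0,
nat_lit 0x0,
nat_lit 0x0,
nat_lit 0x0,
nat_lit 0x0,
nat_lit 0x0,
nat_lit 0x0,
nat_lit 0x0,
nat_lit 0x0,
nat_lit 0x0,
nat_lit 0x0,
nat_lit 0x0,
nat_lit 0x0,
nat_lit 0x0,
nat_lit 0x0,
nat_lit 0x0,
nat_lit 0x0,
nat_lit 0x0,
nat_lit 0x0,
nat_lit 0x0,
nat_lit 0x0,
nat_lit 0x0,
nat_lit 0x0,
nat_lit 0x0,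
nat_lit 0x0,
nat_lit 0x0,
nat_lit 0x0,
nat_lit 0x0,
nat_lit 0x0,
nat_lit 0x0,
nat_lit 0x0,
nat_lit 0x0,
nat_lit 0x0,
nat_lit 0x0,
nat_lit 0x0,
nat_lit 0x0,
nat_lit 0x0,
nat_lit 0x0,
nat_lit 0x0,
nat_lit 0x0,
nat_lit 0x0,
nat_lit 0x0,
nat_lit 0x0,
nat_lit 0x0,
nat_lit 0x0,
nat_lit 0x0,
nat_lit 0x0,
nat_lit 0x0,
nat_lit 0x0,
nat_lit 0x0,
nat_lit 0x0,
nat_lit 0x0,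
nat_lit 0x0,
nat_lit 0x0,
nat_lit 0x0,
nat_lit 0x0,
nat_lit 0x0,
nat_lit 0x0,
nat_lit 0x0,
nat_lit 0x0,
nat_lit 0x0,
nat_lit 0x0,
nat_lit 0x0,
nat_lit 0x0,
nat_lit 0x0,
nat_lit 0x0,
nat_lit 0x0,
nat_lit 0x0,
nat_lit 0x0,
nat_lit 0x0,
nat_lit 0x0,
nat_lit 0x0,
nat_lit 0x0,
nat_lit 0x0,
nat_lit 0x0,
nat_lit 0x0,
nat_lit 0x0,
nat_lit 0x0,
nat_lit 0x0,
nat_lit 0x0,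
nat_lit 0x0,
nat_lit 0x0,
nat_lit 0x0,
nat_lit 0x0,
nat_lit 0x0,
nat_lit 0x0,
nat_lit 0x0,
nat_lit 0x0,
nat_lit 0x0,
nat_lit 0x0,
nat_lit 0x0,
nat_lit 0x0,
nat_lit 0x0,
nat_lit 0x0,
nat_lit 0x0,
nat_lit 0x0,
nat_lit 0x0,
nat_lit 0x0,
nat_lit 0x0,
nat_lit 0x0,
nat_lit 0x0,
nat_lit 0x0,
nat_lit 0x0,
nat_lit 0x0,
nat_lit 0x0,
nat_lit 0x0,
nat_lit 0x0,
nat_lit 0x0,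
nat_lit 0x0,
nat_lit 0x0,
nat_lit 0x0,
nat_lit 0x0,
nat_lit 0x0,
nat_lit 0x0,
nat_lit 0x0,
nat_lit 0x0,
nat_lit 0x0,
nat_lit 0x0,
nat_lit 0x0,
nat_lit 0x0,
nat_lit 0x0,
nat_lit 0x0,
nat_lit 0x0,
nat_lit 0x0,
nat_lit 0x0,
nat_lit 0x0,
nat_lit 0x0,
nat_lit 0x0,
nat_lit 0x0,
nat_lit 0x0,
nat_lit 0x0,
nat_lit 0x0,
nat_lit 0x0,
nat_lit 0x0,
nat_lit 0x0,
nat_lit 0x0,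
nat_lit 0x0,
nat_lit 0x0,
nat_lit 0x0,
nat_lit 0x0,
nat_lit 0x0,
nat_lit 0x0,
nat_lit 0x0,
nat_lit 0x0,
nat_lit 0x0,
nat_lit 0x0,
nat_lit 0x0,
nat_lit 0x0,
nat_lit 0x0,
nat_lit 0x0,
nat_lit 0x0,
nat_lit 0x0,
nat_lit 0x0,
nat_lit 0x0,
nat_lit 0x0,
nat_lit 0x0,
nat_lit 0x0,
nat_lit 0x0,
nat_lit 0x0,
nat_lit 0x0,
nat_lit 0x0,
nat_lit 0x0,
nat_lit 0x0,
nat_lit 0x0,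
nat_lit 0x0,
nat_lit 0x0,
nat_lit 0x0,
nat_lit 0x0,
nat_lit 0x0,
nat_lit 0x0,
nat_lit 0x0,
nat_lit 0x0,
nat_lit 0x0,
nat_lit 0x0,
nat_lit 0x0,
nat_lit 0x0,
nat_lit 0x0,
nat_lit 0x0,
nat_lit 0x0,
nat_lit 0x0,
nat_lit 0x0,
nat_lit 0x0,
nat_lit 0x0,
nat_lit 0x0,
nat_lit 0x0,
nat_lit 0x0,
nat_lit 0x0,
nat_lit 0x0,
nat_lit 0x0,
nat_lit 0x0,
nat_lit 0x0,
nat_lit 0x0,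
nat_lit 0x0,
nat_lit 0x0,
nat_lit 0x0,
nat_lit 0x0,
nat_lit 0x0,
nat_lit 0x0,
nat_lit 0x0,
nat_lit 0x0,
nat_lit 0x0,
nat_lit 0x0,
nat_lit 0x0,
nat_lit 0x0,
nat_lit 0x0,
nat_lit 0x0,
nat_lit 0x0,
nat_lit 0x0,
nat_lit 0x0,
nat_lit 0x0,
nat_lit 0x0,
nat_lit 0x0,
nat_lit 0x0,
nat_lit 0x0,
nat_lit 0x0,
nat_lit 0x0,
nat_lit 0x0,
nat_lit 0x0,
nat_lit 0x0,
nat_lit 0x0,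
nat_lit 0x0,
nat_lit 0x0,
nat_lit 0x0,
nat_lit 0x0,
nat_lit 0x0,
nat_lit 0x0,
nat_lit 0x0,
nat_lit 0x0,
nat_lit 0x0,
nat_lit 0x0,
nat_lit 0x0,
nat_lit 0x0,
nat_lit 0x0,
nat_lit 0x0,
nat_lit 0x0,
nat_lit 0x0,
nat_lit 0x0,
nat_lit 0x0,
nat_lit 0x0,
nat_lit 0x0,
nat_lit 0x0,
nat_lit 0x0,
nat_lit 0x0,
nat_lit 0x0,
nat_lit 0x0,
nat_lit 0x0,
nat_lit 0x0,
nat_lit 0x0,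
nat_lit 0x0,
nat_lit 0x0,
nat_lit 0x0,
nat_lit 0x0,
nat_lit 0x0,
nat_lit 0x0,
nat_lit 0x0,
nat_lit 0x0,
nat_lit 0x0,
nat_lit 0x0,
nat_lit 0x0,
nat_lit 0x0,
nat_lit 0x0,
nat_lit 0x0,
nat_lit 0x0,
nat_lit 0x0,
nat_lit 0x0,
nat_lit 0x0,
nat_lit 0x0,
nat_lit 0x0,
nat_lit 0x0,
nat_lit 0x0,
nat_lit 0x0,
nat_lit 0x0,
nat_lit 0x0,
nat_lit 0x0,
nat_lit 0x0,
nat_lit 0x0,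
nat_lit 0x0,
nat_lit 0x0,
nat_lit 0x0,
nat_lit 0x0,
nat_lit 0x0,
nat_lit 0x0,
nat_lit 0x0,
nat_lit 0x0,
nat_lit 0x0,
nat_lit 0x0,
nat_lit 0x0,
nat_lit 0x0,
nat_lit 0x0,
nat_lit 0x0,
nat_lit 0x0,
nat_lit 0x0,
nat_lit 0x0,
nat_lit 0x0,
nat_lit 0x0,
nat_lit 0x0,
nat_lit 0x0,
nat_lit 0x0,
nat_lit 0x0,
nat_lit 0x0,
nat_lit 0x0,
nat_lit 0x0,
nat_lit 0x0,
nat_lit 0x0,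
nat_lit 0x0,
nat_lit 0x0,
nat_lit 0x0,
nat_lit 0x0,
nat_lit 0x0]

theorem ok8500 : checkFacts facts ip words 256 subs 18473 items8500 8500 = true := by decide +kernel

theorem len8500 : Nat.beq items8500.length 500 = true := by decide +kernel

noncomputable def items9000 : List ℕ := [
nat_lit 0x0,
nat_lit 0x0,
nat_lit 0x0,
nat_lit 0x0,
nat_lit 0x0,
nat_lit 0x0,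
nat_lit 0x0,
nat_lit 0x0,
nat_lit 0x0,
nat_lit 0x0,
nat_lit 0x0,
nat_lit 0x0,
nat_lit 0x0,
nat_lit 0x0,
nat_lit 0x0,
nat_lit 0x0,
nat_lit 0x0,
nat_lit 0x0,
nat_lit 0x0,
nat_lit 0x0,
nat_lit 0x0,
nat_lit 0x0,
nat_lit 0x0,
nat_lit 0x0,
nat_lit 0x0,
nat_lit 0x0,
nat_lit 0x0,
nat_lit 0x0,
nat_lit 0x0,
nat_lit 0x0,
nat_lit 0x0,
nat_lit 0x0,
nat_lit 0x0,
nat_lit 0x0,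
nat_lit 0x0,
nat_lit 0x0,
nat_lit 0x0,
nat_lit 0x0,
nat_lit 0x0,
nat_lit 0x0,
nat_lit 0x0,
nat_lit 0x0,
nat_lit 0x0,
nat_lit 0x0,
nat_lit 0x0,
nat_lit 0x0,
nat_lit 0x0,
nat_lit 0x0,
nat_lit 0x0,
nat_lit 0x0,
nat_lit 0x0,
nat_lit 0x0,
nat_lit 0x0,
nat_lit 0x0,
nat_lit 0x0,
nat_lit 0x0,
nat_lit 0x0,
nat_lit 0x0,
nat_lit 0x0,
nat_lit 0x0,
nat_lit 0x0,
nat_lit 0x0,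
nat_lit 0x0,
nat_lit 0x0,
nat_lit 0x0,
nat_lit 0x0,
nat_lit 0x0,
nat_lit 0x0,
nat_lit 0x0,
nat_lit 0x0,
nat_lit 0x0,
nat_lit 0x0,
nat_lit 0x0,
nat_lit 0x0,
nat_lit 0x0,
nat_lit 0x0,
nat_lit 0x0,
nat_lit 0x0,
nat_lit 0x0,
nat_lit 0x0,
nat_lit 0x0,
nat_lit 0x0,
nat_lit 0x0,
nat_lit 0x0,
nat_lit 0x0,
nat_lit 0x0,
nat_lit 0x0,
nat_lit 0x0,
nat_lit 0x0,
nat_lit 0x0,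
nat_lit 0x0,
nat_lit 0x0,
nat_lit 0x0,
nat_lit 0x0,
nat_lit 0x0,
nat_lit 0x0,
nat_lit 0x0,
nat_lit 0x0,
nat_lit 0x0,
nat_lit 0x0,
nat_lit 0x0,
nat_lit 0x0,
nat_lit 0x0,
nat_lit 0x0,
nat_lit 0x0,
nat_lit 0x0,
nat_lit 0x0,
nat_lit 0x0,
nat_lit 0x0,
nat_lit 0x0,
nat_lit 0x0,
nat_lit 0x0,
nat_lit 0x0,
nat_lit 0x0,
nat_lit 0x0,
nat_lit 0x0,
nat_lit 0x0,
nat_lit 0x0,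
nat_lit 0x0,
nat_lit 0x0,
nat_lit 0x0,
nat_lit 0x0,
nat_lit 0x0,
nat_lit 0x0,
nat_lit 0x0,
nat_lit 0x0,
nat_lit 0x0,
nat_lit 0x0,
nat_lit 0x0,
nat_lit 0x0,
nat_lit 0x0,
nat_lit 0x0,
nat_lit 0x0,
nat_lit 0x0,
nat_lit 0x0,
nat_lit 0x0,
nat_lit 0x0,
nat_lit 0x0,
nat_lit 0x0,
nat_lit 0x0,
nat_lit 0x0,
nat_lit 0x0,
nat_lit 0x0,
nat_lit 0x0,
nat_lit 0x0,
nat_lit 0x0,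
nat_lit 0x0,
nat_lit 0x0,
nat_lit 0x0,
nat_lit 0x0,
nat_lit 0x0,
nat_lit 0x0,
nat_lit 0x0,
nat_lit 0x0,
nat_lit 0x0,
nat_lit 0x0,
nat_lit 0x0,
nat_lit 0x0,
nat_lit 0x0,
nat_lit 0x0,
nat_lit 0x0,
nat_lit 0x0,
nat_lit 0x0,
nat_lit 0x0,
nat_lit 0x0,
nat_lit 0x0,
nat_lit 0x0,
nat_lit 0x0,
nat_lit 0x0,
nat_lit 0x0,
nat_lit 0x0,
nat_lit 0x0,
nat_lit 0x0,
nat_lit 0x0,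
nat_lit 0x0,
nat_lit 0x0,
nat_lit 0x0,
nat_lit 0x0,
nat_lit 0x0,
nat_lit 0x0,
nat_lit 0x0,
nat_lit 0x0,
nat_lit 0x0,
nat_lit 0x0,
nat_lit 0x0,
nat_lit 0x0,
nat_lit 0x0,
nat_lit 0x0,
nat_lit 0x0,
nat_lit 0x0,
nat_lit 0x0,
nat_lit 0x0,
nat_lit 0x0,
nat_lit 0x0,
nat_lit 0x0,
nat_lit 0x0,
nat_lit 0x0,
nat_lit 0x0,
nat_lit 0x0,
nat_lit 0x0,
nat_lit 0x0,
nat_lit 0x0,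
nat_lit 0x0,
nat_lit 0x0,
nat_lit 0x0,
nat_lit 0x0,
nat_lit 0x0,
nat_lit 0x0,
nat_lit 0x0,
nat_lit 0x0,
nat_lit 0x0,
nat_lit 0x0,
nat_lit 0x0,
nat_lit 0x0,
nat_lit 0x0,
nat_lit 0x0,
nat_lit 0x0,
nat_lit 0x0,
nat_lit 0x0,
nat_lit 0x0,
nat_lit 0x0,
nat_lit 0x0,
nat_lit 0x0,
nat_lit 0x0,
nat_lit 0x0,
nat_lit 0x0,
nat_lit 0x0,
nat_lit 0x0,
nat_lit 0x0,
nat_lit 0x0,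
nat_lit 0x0,
nat_lit 0x0,
nat_lit 0x0,
nat_lit 0x0,
nat_lit 0x0,
nat_lit 0x0,
nat_lit 0x0,
nat_lit 0x0,
nat_lit 0x0,
nat_lit 0x0,
nat_lit 0x0,
nat_lit 0x0,
nat_lit 0x0,
nat_lit 0x0,
nat_lit 0x0,
nat_lit 0x0,
nat_lit 0x0,
nat_lit 0x0,
nat_lit 0x0,
nat_lit 0x0,
nat_lit 0x0,
nat_lit 0x0,
nat_lit 0x0,
nat_lit 0x0,
nat_lit 0x0,
nat_lit 0x0,
nat_lit 0x0,
nat_lit 0x0,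
nat_lit 0x0,
nat_lit 0x0,
nat_lit 0x0,
nat_lit 0x0,
nat_lit 0x0,
nat_lit 0x0,
nat_lit 0x0,
nat_lit 0x0,
nat_lit 0x0,
nat_lit 0x0,
nat_lit 0x0,
nat_lit 0x0,
nat_lit 0x0,
nat_lit 0x0,
nat_lit 0x0,
nat_lit 0x0,
nat_lit 0x0,
nat_lit 0x0,
nat_lit 0x0,
nat_lit 0x0,
nat_lit 0x0,
nat_lit 0x0,
nat_lit 0x0,
nat_lit 0x0,
nat_lit 0x0,
nat_lit 0x0,
nat_lit 0x0,
nat_lit 0x0,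
nat_lit 0x0,
nat_lit 0x0,
nat_lit 0x0,
nat_lit 0x0,
nat_lit 0x0,
nat_lit 0x0,
nat_lit 0x0,
nat_lit 0x0,
nat_lit 0x0,
nat_lit 0x0,
nat_lit 0x0,
nat_lit 0x0,
nat_lit 0x0,
nat_lit 0x0,
nat_lit 0x0,
nat_lit 0x0,
nat_lit 0x0,
nat_lit 0x0,
nat_lit 0x0,
nat_lit 0x0,
nat_lit 0x0,
nat_lit 0x0,
nat_lit 0x0,
nat_lit 0x0,
nat_lit 0x0,
nat_lit 0x0,
nat_lit 0x0,
nat_lit 0x0,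
nat_lit 0x0,
nat_lit 0x0,
nat_lit 0x0,
nat_lit 0x0,
nat_lit 0x0,
nat_lit 0x0,
nat_lit 0x0,
nat_lit 0x0,
nat_lit 0x0,
nat_lit 0x0,
nat_lit 0x0,
nat_lit 0x0,
nat_lit 0x0,
nat_lit 0x0,
nat_lit 0x0,
nat_lit 0x0,
nat_lit 0x0,
nat_lit 0x0,
nat_lit 0x0,
nat_lit 0x0,
nat_lit 0x0,
nat_lit 0x0,
nat_lit 0x0,
nat_lit 0x0,
nat_lit 0x0,
nat_lit 0x0,
nat_lit 0x0,
nat_lit 0x0,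
nat_lit 0x0,
nat_lit 0x0,
nat_lit 0x0,
nat_lit 0x0,
nat_lit 0x0,
nat_lit 0x0,
nat_lit 0x0,
nat_lit 0x0,
nat_lit 0x0,
nat_lit 0x0,
nat_lit 0x0,
nat_lit 0x0,
nat_lit 0x0,
nat_lit 0x0,
nat_lit 0x0,
nat_lit 0x0,
nat_lit 0x0,
nat_lit 0x0,
nat_lit 0x0,
nat_lit 0x0,
nat_lit 0x0,
nat_lit 0x0,
nat_lit 0x0,
nat_lit 0x0,
nat_lit 0x0,
nat_lit 0x0,
nat_lit 0x0,
nat_lit 0x0,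
nat_lit 0x0,
nat_lit 0x0,
nat_lit 0x0,
nat_lit 0x0,
nat_lit 0x0,
nat_lit 0x0,
nat_lit 0x0,
nat_lit 0x0,
nat_lit 0x0,
nat_lit 0x0,
nat_lit 0x0,
nat_lit 0x0,
nat_lit 0x0,
nat_lit 0x0,
nat_lit 0x0,
nat_lit 0x0,
nat_lit 0x0,
nat_lit 0x0,
nat_lit 0x0,
nat_lit 0x0,
nat_lit 0x0,
nat_lit 0x0,
nat_lit 0x0,
nat_lit 0x0,
nat_lit 0x0,
nat_lit 0x0,
nat_lit 0x0,
nat_lit 0x0,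
nat_lit 0x0,
nat_lit 0x0,
nat_lit 0x0,
nat_lit 0x0,
nat_lit 0x0,
nat_lit 0x0,
nat_lit 0x0,
nat_lit 0x0,
nat_lit 0x0,
nat_lit 0x0,
nat_lit 0x0,
nat_lit 0x0,
nat_lit 0x0,
nat_lit 0x0,
nat_lit 0x0,
nat_lit 0x0,
nat_lit 0x0,
nat_lit 0x0,
nat_lit 0x0,
nat_lit 0x0,
nat_lit 0x0,
nat_lit 0x0,
nat_lit 0x0,
nat_lit 0x0,
nat_lit 0x0,
nat_lit 0x0,
nat_lit 0x0,
nat_lit 0x0,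
nat_lit 0x0,
nat_lit 0x0,
nat_lit 0x0,
nat_lit 0x0,
nat_lit 0x0,
nat_lit 0x0,
nat_lit 0x0,
nat_lit 0x0,
nat_lit 0x0,
nat_lit 0x0,
nat_lit 0x0,
nat_lit 0x0,
nat_lit 0x0,
nat_lit 0x0,
nat_lit 0x0,
nat_lit 0x0,
nat_lit 0x0,
nat_lit 0x0,
nat_lit 0x0,
nat_lit 0x0,
nat_lit 0x0,
nat_lit 0x0,
nat_lit 0x0,
nat_lit 0x0,
nat_lit 0x0,
nat_lit 0x0,
nat_lit 0x0,
nat_lit 0x0,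
nat_lit 0x0,
nat_lit 0x0,
nat_lit 0x0,
nat_lit 0x0,
nat_lit 0x0,
nat_lit 0x0,
nat_lit 0x0,
nat_lit 0x0,
nat_lit 0x0,
nat_lit 0x0,
nat_lit 0x0,
nat_lit 0x0,
nat_lit 0x0,
nat_lit 0x0,
nat_lit 0x0,
nat_lit 0x0,
nat_lit 0x0,
nat_lit 0x0,
nat_lit 0x0,
nat_lit 0x0,
nat_lit 0x0,
nat_lit 0x0,
nat_lit 0x0,
nat_lit 0x0,
nat_lit 0x0,
nat_lit 0x0,
nat_lit 0x0,
nat_lit 0x0,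
nat_lit 0x0,
nat_lit 0x0,
nat_lit 0x0,
nat_lit 0x0,
nat_lit 0x0,
nat_lit 0x0,
nat_lit 0x0,
nat_lit 0x0,
nat_lit 0x0,
nat_lit 0x0,
nat_lit 0x0,
nat_lit 0x0,
nat_lit 0x0,
nat_lit 0x0,
nat_lit 0x0,
nat_lit 0x0,
nat_lit 0x0,
nat_lit 0x0]

theorem ok9000 : checkFacts facts ip words 256 subs 18473 items9000 9000 = true := by decide +kernel

theorem len9000 : Nat.beq items9000.length 500 = true := by decide +kernel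

noncomputable def items9500 : List ℕ := [
nat_lit 0x0,
nat_lit 0x0,
nat_lit 0x0,
nat_lit 0x0,
nat_lit 0x0,
nat_lit 0x0,
nat_lit 0x0,
nat_lit 0x0,
nat_lit 0x0,
nat_lit 0x0,
nat_lit 0x0,
nat_lit 0x0,
nat_lit 0x0,
nat_lit 0x0,
nat_lit 0x0,
nat_lit 0x0,
nat_lit 0x0,
nat_lit 0x0,
nat_lit 0x0,
nat_lit 0x0,
nat_lit 0x0,
nat_lit 0x0,
nat_lit 0x0,
nat_lit 0x0,
nat_lit 0x0,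
nat_lit 0x0,
nat_lit 0x0,
nat_lit 0x0,
nat_lit 0x0,
nat_lit 0x0,
nat_lit 0x0,
nat_lit 0x0,
nat_lit 0x0,
nat_lit 0x0,
nat_lit 0x0,
nat_lit 0x0,
nat_lit 0x0,
nat_lit 0x0,
nat_lit 0x0,
nat_lit 0x0,
nat_lit 0x0,
nat_lit 0x0,
nat_lit 0x0,
nat_lit 0x0,
nat_lit 0x0,
nat_lit 0x0,
nat_lit 0x0,
nat_lit 0x0,
nat_lit 0x0,
nat_lit 0x0,
nat_lit 0x0,
nat_lit 0x0,
nat_lit 0x0,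
nat_lit 0x0,
nat_lit 0x0,
nat_lit 0x0,
nat_lit 0x0,
nat_lit 0x0,
nat_lit 0x0,
nat_lit 0x0,
nat_lit 0x0,
nat_lit 0x0,
nat_lit 0x0,
nat_lit 0x0,
nat_lit 0x0,
nat_lit 0x0,
nat_lit 0x0,
nat_lit 0x0,
nat_lit 0x0,
nat_lit 0x0,
nat_lit 0x0,
nat_lit 0x0,
nat_lit 0x0,
nat_lit 0x0,
nat_lit 0x0,
nat_lit 0x0,
nat_lit 0x0,
nat_lit 0x0,
nat_lit 0x0,
nat_lit 0x0,
nat_lit 0x0,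
nat_lit 0x0,
nat_lit 0x0,
nat_lit 0x0,
nat_lit 0x0,
nat_lit 0x0,
nat_lit 0x0,
nat_lit 0x0,
nat_lit 0x0,
nat_lit 0x0,
nat_lit 0x0,
nat_lit 0x0,
nat_lit 0x0,
nat_lit 0x0,
nat_lit 0x0,
nat_lit 0x0,
nat_lit 0x0,
nat_lit 0x0,
nat_lit 0x0,
nat_lit 0x0,
nat_lit 0x0,
nat_lit 0x0,
nat_lit 0x0,
nat_lit 0x0,
nat_lit 0x0,
nat_lit 0x0,
nat_lit 0x0,
nat_lit 0x0,
nat_lit 0x0,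
nat_lit 0x0,
nat_lit 0x0,
nat_lit 0x0,
nat_lit 0x0,
nat_lit 0x0,
nat_lit 0x0,
nat_lit 0x0,
nat_lit 0x0,
nat_lit 0x0,
nat_lit 0x0,
nat_lit 0x0,
nat_lit 0x0,
nat_lit 0x0,
nat_lit 0x0,
nat_lit 0x0,
nat_lit 0x0,
nat_lit 0x0,
nat_lit 0x0,
nat_lit 0x0,
nat_lit 0x0,
nat_lit 0x0,
nat_lit 0x0,
nat_lit 0x0,
nat_lit 0x0,
nat_lit 0x0,
nat_lit 0x0,
nat_lit 0x0,
nat_lit 0x0,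
nat_lit 0x0,
nat_lit 0x0,
nat_lit 0x0,
nat_lit 0x0,
nat_lit 0x0,
nat_lit 0x0,
nat_lit 0x0,
nat_lit 0x0,
nat_lit 0x0,
nat_lit 0x0,
nat_lit 0x0,
nat_lit 0x0,
nat_lit 0x0,
nat_lit 0x0,
nat_lit 0x0,
nat_lit 0x0,
nat_lit 0x0,
nat_lit 0x0,
nat_lit 0x0,
nat_lit 0x0,
nat_lit 0x0,
nat_lit 0x0,
nat_lit 0x0,
nat_lit 0x0,
nat_lit 0x0,
nat_lit 0x0,
nat_lit 0x0,
nat_lit 0x0,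
nat_lit 0x0,
nat_lit 0x0,
nat_lit 0x0,
nat_lit 0x0,
nat_lit 0x0,
nat_lit 0x0,
nat_lit 0x0,
nat_lit 0x0,
nat_lit 0x0,
nat_lit 0x0,
nat_lit 0x0,
nat_lit 0x0,
nat_lit 0x0,
nat_lit 0x0,
nat_lit 0x0,
nat_lit 0x0,
nat_lit 0x0,
nat_lit 0x0,
nat_lit 0x0,
nat_lit 0x0,
nat_lit 0x0,
nat_lit 0x0,
nat_lit 0x0,
nat_lit 0x0,
nat_lit 0x0,
nat_lit 0x0,
nat_lit 0x0,
nat_lit 0x0,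
nat_lit 0x0,
nat_lit 0x0,
nat_lit 0x0,
nat_lit 0x0,
nat_lit 0x0,
nat_lit 0x0,
nat_lit 0x0,
nat_lit 0x0,
nat_lit 0x0,
nat_lit 0x0,
nat_lit 0x0,
nat_lit 0x0,
nat_lit 0x0,
nat_lit 0x0,
nat_lit 0x0,
nat_lit 0x0,
nat_lit 0x0,
nat_lit 0x0,
nat_lit 0x0,
nat_lit 0x0,
nat_lit 0x0,
nat_lit 0x0,
nat_lit 0x0,
nat_lit 0x0,
nat_lit 0x0,
nat_lit 0x0,
nat_lit 0x0,
nat_lit 0x0,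
nat_lit 0x0,
nat_lit 0x0,
nat_lit 0x0,
nat_lit 0x0,
nat_lit 0x0,
nat_lit 0x0,
nat_lit 0x0,
nat_lit 0x0,
nat_lit 0x0,
nat_lit 0x0,
nat_lit 0x0,
nat_lit 0x0,
nat_lit 0x0,
nat_lit 0x0,
nat_lit 0x0,
nat_lit 0x0,
nat_lit 0x0,
nat_lit 0x0,
nat_lit 0x0,
nat_lit 0x0,
nat_lit 0x0,
nat_lit 0x0,
nat_lit 0x0,
nat_lit 0x0,
nat_lit 0x0,
nat_lit 0x0,
nat_lit 0x0,
nat_lit 0x0,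
nat_lit 0x0,
nat_lit 0x0,
nat_lit 0x0,
nat_lit 0x0,
nat_lit 0x0,
nat_lit 0x0,
nat_lit 0x0,
nat_lit 0x0,
nat_lit 0x0,
nat_lit 0x0,
nat_lit 0x0,
nat_lit 0x0,
nat_lit 0x0,
nat_lit 0x0,
nat_lit 0x0,
nat_lit 0x0,
nat_lit 0x0,
nat_lit 0x0,
nat_lit 0x0,
nat_lit 0x0,
nat_lit 0x0,
nat_lit 0x0,
nat_lit 0x0,
nat_lit 0x0,
nat_lit 0x0,
nat_lit 0x0,
nat_lit 0x0,
nat_lit 0x0,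
nat_lit 0x0,
nat_lit 0x0,
nat_lit 0x0,
nat_lit 0x0,
nat_lit 0x0,
nat_lit 0x0,
nat_lit 0x0,
nat_lit 0x0,
nat_lit 0x0,
nat_lit 0x0,
nat_lit 0x0,
nat_lit 0x0,
nat_lit 0x0,
nat_lit 0x0,
nat_lit 0x0,
nat_lit 0x0,
nat_lit 0x0,
nat_lit 0x0,
nat_lit 0x0,
nat_lit 0x0,
nat_lit 0x0,
nat_lit 0x0,
nat_lit 0x0,
nat_lit 0x0,
nat_lit 0x0,
nat_lit 0x0,
nat_lit 0x0,
nat_lit 0x0,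
nat_lit 0x0,
nat_lit 0x0,
nat_lit 0x0,
nat_lit 0x0,
nat_lit 0x0,
nat_lit 0x0,
nat_lit 0x0,
nat_lit 0x0,
nat_lit 0x0,
nat_lit 0x0,
nat_lit 0x0,
nat_lit 0x0,
nat_lit 0x0,
nat_lit 0x0,
nat_lit 0x0,
nat_lit 0x0,
nat_lit 0x0,
nat_lit 0x0,
nat_lit 0x0,
nat_lit 0x0,
nat_lit 0x0,
nat_lit 0x0,
nat_lit 0x0,
nat_lit 0x0,
nat_lit 0x0,
nat_lit 0x0,
nat_lit 0x0,
nat_lit 0x0,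
nat_lit 0x0,
nat_lit 0x0,
nat_lit 0x0,
nat_lit 0x0,
nat_lit 0x0,
nat_lit 0x0,
nat_lit 0x0,
nat_lit 0x0,
nat_lit 0x0,
nat_lit 0x0,
nat_lit 0x0,
nat_lit 0x0,
nat_lit 0x0,
nat_lit 0x0,
nat_lit 0x0,
nat_lit 0x0,
nat_lit 0x0,
nat_lit 0x0,
nat_lit 0x0,
nat_lit 0x0,
nat_lit 0x0,
nat_lit 0x0,
nat_lit 0x0,
nat_lit 0x0,
nat_lit 0x0,
nat_lit 0x0,
nat_lit 0x0,
nat_lit 0x0,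
nat_lit 0x0,
nat_lit 0x0,
nat_lit 0x0,
nat_lit 0x0,
nat_lit 0x0,
nat_lit 0x0,
nat_lit 0x0,
nat_lit 0x0,
nat_lit 0x0,
nat_lit 0x0,
nat_lit 0x0,
nat_lit 0x0,
nat_lit 0x0,
nat_lit 0x0,
nat_lit 0x0,
nat_lit 0x0,
nat_lit 0x0,
nat_lit 0x0,
nat_lit 0x0,
nat_lit 0x0,
nat_lit 0x0,
nat_lit 0x0,
nat_lit 0x0,
nat_lit 0x0,
nat_lit 0x0,
nat_lit 0x0,
nat_lit 0x0,
nat_lit 0x0,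
nat_lit 0x0,
nat_lit 0x0,
nat_lit 0x0,
nat_lit 0x0,
nat_lit 0x0,
nat_lit 0x0,
nat_lit 0x0,
nat_lit 0x0,
nat_lit 0x0,
nat_lit 0x0,
nat_lit 0x0,
nat_lit 0x0,
nat_lit 0x0,
nat_lit 0x0,
nat_lit 0x0,
nat_lit 0x0,
nat_lit 0x0,
nat_lit 0x0,
nat_lit 0x0,
nat_lit 0x0,
nat_lit 0x0,
nat_lit 0x0,
nat_lit 0x0,
nat_lit 0x0,
nat_lit 0x0,
nat_lit 0x0,
nat_lit 0x0,
nat_lit 0x0,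
nat_lit 0x0,
nat_lit 0x0,
nat_lit 0x0,
nat_lit 0x0,
nat_lit 0x0,
nat_lit 0x0,
nat_lit 0x0,
nat_lit 0x0,
nat_lit 0x0,
nat_lit 0x0,
nat_lit 0x0,
nat_lit 0x0,
nat_lit 0x0,
nat_lit 0x0,
nat_lit 0x0,
nat_lit 0x0,
nat_lit 0x0,
nat_lit 0x0,
nat_lit 0x0,
nat_lit 0x0,
nat_lit 0x0,
nat_lit 0x0,
nat_lit 0x0,
nat_lit 0x0,
nat_lit 0x0,
nat_lit 0x0,
nat_lit 0x0,
nat_lit 0x0,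
nat_lit 0x0,
nat_lit 0x0,
nat_lit 0x0,
nat_lit 0x0,
nat_lit 0x0,
nat_lit 0x0,
nat_lit 0x0,
nat_lit 0x0,
nat_lit 0x0,
nat_lit 0x0,
nat_lit 0x0,
nat_lit 0x0,
nat_lit 0x0,
nat_lit 0x0,
nat_lit 0x0,
nat_lit 0x0,
nat_lit 0x0,
nat_lit 0x0,
nat_lit 0x0,
nat_lit 0x0,
nat_lit 0x0,
nat_lit 0x0,
nat_lit 0x0,
nat_lit 0x0,
nat_lit 0x0,
nat_lit 0x0,
nat_lit 0x0,
nat_lit 0x0,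
nat_lit 0x0,
nat_lit 0x0,
nat_lit 0x0,
nat_lit 0x0,
nat_lit 0x0,
nat_lit 0x0,
nat_lit 0x0,
nat_lit 0x0,
nat_lit 0x0,
nat_lit 0x0,
nat_lit 0x0,
nat_lit 0x0,
nat_lit 0x0,
nat_lit 0x0,
nat_lit 0x0,
nat_lit 0x0,
nat_lit 0x0,
nat_lit 0x0,
nat_lit 0x0,
nat_lit 0x0,
nat_lit 0x0,
nat_lit 0x0,
nat_lit 0x0,
nat_lit 0x0,
nat_lit 0x0,
nat_lit 0x0,
nat_lit 0x0]

theorem ok9500 : checkFacts facts ip words 256 subs 18473 items9500 9500 = true := by decide +kernel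

theorem len9500 : Nat.beq items9500.length 500 = true := by decide +kernel

noncomputable def items10000 : List ℕ := [
nat_lit 0x0,
nat_lit 0x0,
nat_lit 0x0,
nat_lit 0x0,
nat_lit 0x0,
nat_lit 0x0,
nat_lit 0x0,
nat_lit 0x0,
nat_lit 0x0,
nat_lit 0x0,
nat_lit 0x0,
nat_lit 0x0,
nat_lit 0x0,
nat_lit 0x0,
nat_lit 0x0,
nat_lit 0x0,
nat_lit 0x0,
nat_lit 0x0,
nat_lit 0x0,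
nat_lit 0x0,
nat_lit 0x0,
nat_lit 0x0,
nat_lit 0x0,
nat_lit 0x0,
nat_lit 0x0,
nat_lit 0x0,
nat_lit 0x0,
nat_lit 0x0,
nat_lit 0x0,
nat_lit 0x0,
nat_lit 0x0,
nat_lit 0x0,
nat_lit 0x0,
nat_lit 0x0,
nat_lit 0x0,
nat_lit 0x0,
nat_lit 0x0,
nat_lit 0x0,
nat_lit 0x0,
nat_lit 0x0,
nat_lit 0x0,
nat_lit 0x0,
nat_lit 0x0,
nat_lit 0x0,
nat_lit 0x0,
nat_lit 0x0,
nat_lit 0x0,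
nat_lit 0x0,
nat_lit 0x0,
nat_lit 0x0,
nat_lit 0x0,
nat_lit 0x0,
nat_lit 0x0,
nat_lit 0x0,
nat_lit 0x0,
nat_lit 0x0,
nat_lit 0x0,
nat_lit 0x0,
nat_lit 0x0,
nat_lit 0x0,
nat_lit 0x0,
nat_lit 0x0,
nat_lit 0x0,
nat_lit 0x0,
nat_lit 0x0,
nat_lit 0x0,
nat_lit 0x0,
nat_lit 0x0,
nat_lit 0x0,
nat_lit 0x0,
nat_lit 0x0,
nat_lit 0x0,
nat_lit 0x0,
nat_lit 0x0,
nat_lit 0x0,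
nat_lit 0x0,
nat_lit 0x0,
nat_lit 0x0,
nat_lit 0x0,
nat_lit 0x0,
nat_lit 0x0,
nat_lit 0x0,
nat_lit 0x0,
nat_lit 0x0,
nat_lit 0x0,
nat_lit 0x0,
nat_lit 0x0,
nat_lit 0x0,
nat_lit 0x0,
nat_lit 0x0,
nat_lit 0x0,
nat_lit 0x0,
nat_lit 0x0,
nat_lit 0x0,
nat_lit 0x0,
nat_lit 0x0,
nat_lit 0x0,
nat_lit 0x0,
nat_lit 0x0,
nat_lit 0x0,
nat_lit 0x0,
nat_lit 0x0,
nat_lit 0x0,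
nat_lit 0x0,
nat_lit 0x0,
nat_lit 0x0,
nat_lit 0x0,
nat_lit 0x0,
nat_lit 0x0,
nat_lit 0x0,
nat_lit 0x0,
nat_lit 0x0,
nat_lit 0x0,
nat_lit 0x0,
nat_lit 0x0,
nat_lit 0x0,
nat_lit 0x0,
nat_lit 0x0,
nat_lit 0x0,
nat_lit 0x0,
nat_lit 0x0,
nat_lit 0x0,
nat_lit 0x0,
nat_lit 0x0,
nat_lit 0x0,
nat_lit 0x0,
nat_lit 0x0,
nat_lit 0x0,
nat_lit 0x0,
nat_lit 0x0,
nat_lit 0x0,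
nat_lit 0x0,
nat_lit 0x0,
nat_lit 0x0,
nat_lit 0x0,
nat_lit 0x0,
nat_lit 0x0,
nat_lit 0x0,
nat_lit 0x0,
nat_lit 0x0,
nat_lit 0x0,
nat_lit 0x0,
nat_lit 0x0,
nat_lit 0x0,
nat_lit 0x0,
nat_lit 0x0,
nat_lit 0x0,
nat_lit 0x0,
nat_lit 0x0,
nat_lit 0x0,
nat_lit 0x0,
nat_lit 0x0,
nat_lit 0x0,
nat_lit 0x0,
nat_lit 0x0,
nat_lit 0x0,
nat_lit 0x0,
nat_lit 0x0,
nat_lit 0x0,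
nat_lit 0x0,
nat_lit 0x0,
nat_lit 0x0,
nat_lit 0x0,
nat_lit 0x0,
nat_lit 0x0,
nat_lit 0x0,
nat_lit 0x0,
nat_lit 0x0,
nat_lit 0x0,
nat_lit 0x0,
nat_lit 0x0,
nat_lit 0x0,
nat_lit 0x0,
nat_lit 0x0,
nat_lit 0x0,
nat_lit 0x0,
nat_lit 0x0,
nat_lit 0x0,
nat_lit 0x0,
nat_lit 0x0,
nat_lit 0x0,
nat_lit 0x0,
nat_lit 0x0,
nat_lit 0x0,
nat_lit 0x0,
nat_lit 0x0,
nat_lit 0x0,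
nat_lit 0x0,
nat_lit 0x0,
nat_lit 0x0,
nat_lit 0x0,
nat_lit 0x0,
nat_lit 0x0,
nat_lit 0x0,
nat_lit 0x0,
nat_lit 0x0,
nat_lit 0x0,
nat_lit 0x0,
nat_lit 0x0,
nat_lit 0x0,
nat_lit 0x0,
nat_lit 0x0,
nat_lit 0x0,
nat_lit 0x0,
nat_lit 0x0,
nat_lit 0x0,
nat_lit 0x0,
nat_lit 0x0,
nat_lit 0x0,
nat_lit 0x0,
nat_lit 0x0,
nat_lit 0x0,
nat_lit 0x0,
nat_lit 0x0,
nat_lit 0x0,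
nat_lit 0x0,
nat_lit 0x0,
nat_lit 0x0,
nat_lit 0x0,
nat_lit 0x0,
nat_lit 0x0,
nat_lit 0x0,
nat_lit 0x0,
nat_lit 0x0,
nat_lit 0x0,
nat_lit 0x0,
nat_lit 0x0,
nat_lit 0x0,
nat_lit 0x0,
nat_lit 0x0,
nat_lit 0x0,
nat_lit 0x0,
nat_lit 0x0,
nat_lit 0x0,
nat_lit 0x0,
nat_lit 0x0,
nat_lit 0x0,
nat_lit 0x0,
nat_lit 0x0,
nat_lit 0x0,
nat_lit 0x0,
nat_lit 0x0,
nat_lit 0x0,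
nat_lit 0x0,
nat_lit 0x0,
nat_lit 0x0,
nat_lit 0x0,
nat_lit 0x0,
nat_lit 0x0,
nat_lit 0x0,
nat_lit 0x0,
nat_lit 0x0,
nat_lit 0x0,
nat_lit 0x0,
nat_lit 0x0,
nat_lit 0x0,
nat_lit 0x0,
nat_lit 0x0,
nat_lit 0x0,
nat_lit 0x0,
nat_lit 0x0,
nat_lit 0x0,
nat_lit 0x0,
nat_lit 0x0,
nat_lit 0x0,
nat_lit 0x0,
nat_lit 0x0,
nat_lit 0x0,
nat_lit 0x0,
nat_lit 0x0,
nat_lit 0x0,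
nat_lit 0x0,
nat_lit 0x0,
nat_lit 0x0,
nat_lit 0x0,
nat_lit 0x0,
nat_lit 0x0,
nat_lit 0x0,
nat_lit 0x0,
nat_lit 0x0,
nat_lit 0x0,
nat_lit 0x0,
nat_lit 0x0,
nat_lit 0x0,
nat_lit 0x0,
nat_lit 0x0,
nat_lit 0x0,
nat_lit 0x0,
nat_lit 0x0,
nat_lit 0x0,
nat_lit 0x0,
nat_lit 0x0,
nat_lit 0x0,
nat_lit 0x0,
nat_lit 0x0,
nat_lit 0x0,
nat_lit 0x0,
nat_lit 0x0,
nat_lit 0x0,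
nat_lit 0x0,
nat_lit 0x0,
nat_lit 0x0,
nat_lit 0x0,
nat_lit 0x0,
nat_lit 0x0,
nat_lit 0x0,
nat_lit 0x0,
nat_lit 0x0,
nat_lit 0x0,
nat_lit 0x0,
nat_lit 0x0,
nat_lit 0x0,
nat_lit 0x0,
nat_lit 0x0,
nat_lit 0x0,
nat_lit 0x0,
nat_lit 0x0,
nat_lit 0x0,
nat_lit 0x0,
nat_lit 0x0,
nat_lit 0x0,
nat_lit 0x0,
nat_lit 0x0,
nat_lit 0x0,
nat_lit 0x0,
nat_lit 0x0,
nat_lit 0x0,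
nat_lit 0x0,
nat_lit 0x0,
nat_lit 0x0,
nat_lit 0x0,
nat_lit 0x0,
nat_lit 0x0,
nat_lit 0x0,
nat_lit 0x0,
nat_lit 0x0,
nat_lit 0x0,
nat_lit 0x0,
nat_lit 0x0,
nat_lit 0x0,
nat_lit 0x0,
nat_lit 0x0,
nat_lit 0x0,
nat_lit 0x0,
nat_lit 0x0,
nat_lit 0x0,
nat_lit 0x0,
nat_lit 0x0,
nat_lit 0x0,
nat_lit 0x0,
nat_lit 0x0,
nat_lit 0x0,
nat_lit 0x0,
nat_lit 0x0,
nat_lit 0x0,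
nat_lit 0x0,
nat_lit 0x0,
nat_lit 0x0,
nat_lit 0x0,
nat_lit 0x0,
nat_lit 0x0,
nat_lit 0x0,
nat_lit 0x0,
nat_lit 0x0,
nat_lit 0x0,
nat_lit 0x0,
nat_lit 0x0,
nat_lit 0x0,
nat_lit 0x0,
nat_lit 0x0,
nat_lit 0x0,
nat_lit 0x0,
nat_lit 0x0,
nat_lit 0x0,
nat_lit 0x0,
nat_lit 0x0,
nat_lit 0x0,
nat_lit 0x0,
nat_lit 0x0,
nat_lit 0x0,
nat_lit 0x0,
nat_lit 0x0,
nat_lit 0x0,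
nat_lit 0x0,
nat_lit 0x0,
nat_lit 0x0,
nat_lit 0x0,
nat_lit 0x0,
nat_lit 0x0,
nat_lit 0x0,
nat_lit 0x0,
nat_lit 0x0,
nat_lit 0x0,
nat_lit 0x0,
nat_lit 0x0,
nat_lit 0x0,
nat_lit 0x0,
nat_lit 0x0,
nat_lit 0x0,
nat_lit 0x0,
nat_lit 0x0,
nat_lit 0x0,
nat_lit 0x0,
nat_lit 0x0,
nat_lit 0x0,
nat_lit 0x0,
nat_lit 0x0,
nat_lit 0x0,
nat_lit 0x0,
nat_lit 0x0,
nat_lit 0x0,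
nat_lit 0x0,
nat_lit 0x0,
nat_lit 0x0,
nat_lit 0x0,
nat_lit 0x0,
nat_lit 0x0,
nat_lit 0x0,
nat_lit 0x0,
nat_lit 0x0,
nat_lit 0x0,
nat_lit 0x0,
nat_lit 0x0,
nat_lit 0x0,
nat_lit 0x0,
nat_lit 0x0,
nat_lit 0x0,
nat_lit 0x0,
nat_lit 0x0,
nat_lit 0x0,
nat_lit 0x0,
nat_lit 0x0,
nat_lit 0x0,
nat_lit 0x0,
nat_lit 0x0,
nat_lit 0x0,
nat_lit 0x0,
nat_lit 0x0,
nat_lit 0x0,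
nat_lit 0x0,
nat_lit 0x0,
nat_lit 0x0,
nat_lit 0x0,
nat_lit 0x0,
nat_lit 0x0,
nat_lit 0x0,
nat_lit 0x0,
nat_lit 0x0,
nat_lit 0x0,
nat_lit 0x0,
nat_lit 0x0,
nat_lit 0x0,
nat_lit 0x0,
nat_lit 0x0,
nat_lit 0x0,
nat_lit 0x0,
nat_lit 0x0,
nat_lit 0x0,
nat_lit 0x0,
nat_lit 0x0,
nat_lit 0x0,
nat_lit 0x0,
nat_lit 0x0,
nat_lit 0x0,
nat_lit 0x0,
nat_lit 0x0,
nat_lit 0x0,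
nat_lit 0x0,
nat_lit 0x0,
nat_lit 0x0,
nat_lit 0x0,
nat_lit 0x0,
nat_lit 0x0,
nat_lit 0x0,
nat_lit 0x0,
nat_lit 0x0,
nat_lit 0x0,
nat_lit 0x0,
nat_lit 0x0,
nat_lit 0x0,
nat_lit 0x0,
nat_lit 0x0,
nat_lit 0x0,
nat_lit 0x0,
nat_lit 0x0,
nat_lit 0x0,
nat_lit 0x0,
nat_lit 0x0,
nat_lit 0x0,
nat_lit 0x0,
nat_lit 0x0,
nat_lit 0x0,
nat_lit 0x0,
nat_lit 0x0,
nat_lit 0x0,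
nat_lit 0x0,
nat_lit 0x0,
nat_lit 0x0,
nat_lit 0x0,
nat_lit 0x0]

theorem ok10000 : checkFacts facts ip words 256 subs 18473 items10000 10000 = true := by decide +kernel

theorem len10000 : Nat.beq items10000.length 500 = true := by decide +kernel

noncomputable def items10500 : List ℕ := [
nat_lit 0x0,
nat_lit 0x0,
nat_lit 0x0,
nat_lit 0x0,
nat_lit 0x0,
nat_lit 0x0,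
nat_lit 0x0,
nat_lit 0x0,
nat_lit 0x0,
nat_lit 0x0,
nat_lit 0x0,
nat_lit 0x0,
nat_lit 0x0,
nat_lit 0x0,
nat_lit 0x0,
nat_lit 0x0,
nat_lit 0x0,
nat_lit 0x0,
nat_lit 0x0,
nat_lit 0x0,
nat_lit 0x0,
nat_lit 0x0,
nat_lit 0x0,
nat_lit 0x0,
nat_lit 0x0,
nat_lit 0x0,
nat_lit 0x0,
nat_lit 0x0,
nat_lit 0x0,
nat_lit 0x0,
nat_lit 0x0,
nat_lit 0x0,
nat_lit 0x0,
nat_lit 0x0,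
nat_lit 0x0,
nat_lit 0x0,
nat_lit 0x0,
nat_lit 0x0,
nat_lit 0x0,
nat_lit 0x0,
nat_lit 0x0,
nat_lit 0x0,
nat_lit 0x0,
nat_lit 0x0,
nat_lit 0x0,
nat_lit 0x0,
nat_lit 0x0,
nat_lit 0x0,
nat_lit 0x0,
nat_lit 0x0,
nat_lit 0x0,
nat_lit 0x0,
nat_lit 0x0,
nat_lit 0x0,
nat_lit 0x0,
nat_lit 0x0,
nat_lit 0x0,
nat_lit 0x0,
nat_lit 0x0,
nat_lit 0x0,
nat_lit 0x0,
nat_lit 0x0,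
nat_lit 0x0,
nat_lit 0x0,
nat_lit 0x0,
nat_lit 0x0,
nat_lit 0x0,
nat_lit 0x0,
nat_lit 0x0,
nat_lit 0x0,
nat_lit 0x0,
nat_lit 0x0,
nat_lit 0x0,
nat_lit 0x0,
nat_lit 0x0,
nat_lit 0x0,
nat_lit 0x0,
nat_lit 0x0,
nat_lit 0x0,
nat_lit 0x0,
nat_lit 0x0,
nat_lit 0x0,
nat_lit 0x0,
nat_lit 0x0,
nat_lit 0x0,
nat_lit 0x0,
nat_lit 0x0,
nat_lit 0x0,
nat_lit 0x0,
nat_lit 0x0,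
nat_lit 0x0,
nat_lit 0x0,
nat_lit 0x0,
nat_lit 0x0,
nat_lit 0x0,
nat_lit 0x0,
nat_lit 0x0,
nat_lit 0x0,
nat_lit 0x0,
nat_lit 0x0,
nat_lit 0x0,
nat_lit 0x0,
nat_lit 0x0,
nat_lit 0x0,
nat_lit 0x0,
nat_lit 0x0,
nat_lit 0x0,
nat_lit 0x0,
nat_lit 0x0,
nat_lit 0x0,
nat_lit 0x0,
nat_lit 0x0,
nat_lit 0x0,
nat_lit 0x0,
nat_lit 0x0,
nat_lit 0x0,
nat_lit 0x0,
nat_lit 0x0,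
nat_lit 0x0,
nat_lit 0x0,
nat_lit 0x0,
nat_lit 0x0,
nat_lit 0x0,
nat_lit 0x0,
nat_lit 0x0,
nat_lit 0x0,
nat_lit 0x0,
nat_lit 0x0,
nat_lit 0x0,
nat_lit 0x0,
nat_lit 0x0,
nat_lit 0x0,
nat_lit 0x0,
nat_lit 0x0,
nat_lit 0x0,
nat_lit 0x0,
nat_lit 0x0,
nat_lit 0x0,
nat_lit 0x0,
nat_lit 0x0,
nat_lit 0x0,
nat_lit 0x0,
nat_lit 0x0,
nat_lit 0x0,
nat_lit 0x0,
nat_lit 0x0,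
nat_lit 0x0,
nat_lit 0x0,
nat_lit 0x0,
nat_lit 0x0,
nat_lit 0x0,
nat_lit 0x0,
nat_lit 0x0,
nat_lit 0x0,
nat_lit 0x0,
nat_lit 0x0,
nat_lit 0x0,
nat_lit 0x0,
nat_lit 0x0,
nat_lit 0x0,
nat_lit 0x0,
nat_lit 0x0,
nat_lit 0x0,
nat_lit 0x0,
nat_lit 0x0,
nat_lit 0x0,
nat_lit 0x0,
nat_lit 0x0,
nat_lit 0x0,
nat_lit 0x0,
nat_lit 0x0,
nat_lit 0x0,
nat_lit 0x0,
nat_lit 0x0,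
nat_lit 0x0,
nat_lit 0x0,
nat_lit 0x0,
nat_lit 0x0,
nat_lit 0x0,
nat_lit 0x0,
nat_lit 0x0,
nat_lit 0x0,
nat_lit 0x0,
nat_lit 0x0,
nat_lit 0x0,
nat_lit 0x0,
nat_lit 0x0,
nat_lit 0x0,
nat_lit 0x0,
nat_lit 0x0,
nat_lit 0x0,
nat_lit 0x0,
nat_lit 0x0,
nat_lit 0x0,
nat_lit 0x0,
nat_lit 0x0,
nat_lit 0x0,
nat_lit 0x0,
nat_lit 0x0,
nat_lit 0x0,
nat_lit 0x0,
nat_lit 0x0,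
nat_lit 0x0,
nat_lit 0x0,
nat_lit 0x0,
nat_lit 0x0,
nat_lit 0x0,
nat_lit 0x0,
nat_lit 0x0,
nat_lit 0x0,
nat_lit 0x0,
nat_lit 0x0,
nat_lit 0x0,
nat_lit 0x0,
nat_lit 0x0,
nat_lit 0x0,
nat_lit 0x0,
nat_lit 0x0,
nat_lit 0x0,
nat_lit 0x0,
nat_lit 0x0,
nat_lit 0x0,
nat_lit 0x0,
nat_lit 0x0,
nat_lit 0x0,
nat_lit 0x0,
nat_lit 0x0,
nat_lit 0x0,
nat_lit 0x0,
nat_lit 0x0,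
nat_lit 0x0,
nat_lit 0x0,
nat_lit 0x0,
nat_lit 0x0,
nat_lit 0x0,
nat_lit 0x0,
nat_lit 0x0,
nat_lit 0x0,
nat_lit 0x0,
nat_lit 0x0,
nat_lit 0x0,
nat_lit 0x0,
nat_lit 0x0,
nat_lit 0x0,
nat_lit 0x0,
nat_lit 0x0,
nat_lit 0x0,
nat_lit 0x0,
nat_lit 0x0,
nat_lit 0x0,
nat_lit 0x0,
nat_lit 0x0,
nat_lit 0x0,
nat_lit 0x0,
nat_lit 0x0,
nat_lit 0x0,
nat_lit 0x0,
nat_lit 0x0,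
nat_lit 0x0,
nat_lit 0x0,
nat_lit 0x0,
nat_lit 0x0,
nat_lit 0x0,
nat_lit 0x0,
nat_lit 0x0,
nat_lit 0x0,
nat_lit 0x0,
nat_lit 0x0,
nat_lit 0x0,
nat_lit 0x0,
nat_lit 0x0,
nat_lit 0x0,
nat_lit 0x0,
nat_lit 0x0,
nat_lit 0x0,
nat_lit 0x0,
nat_lit 0x0,
nat_lit 0x0,
nat_lit 0x0,
nat_lit 0x0,
nat_lit 0x0,
nat_lit 0x0,
nat_lit 0x0,
nat_lit 0x0,
nat_lit 0x0,
nat_lit 0x0,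
nat_lit 0x0,
nat_lit 0x0,
nat_lit 0x0,
nat_lit 0x0,
nat_lit 0x0,
nat_lit 0x0,
nat_lit 0x0,
nat_lit 0x0,
nat_lit 0x0,
nat_lit 0x0,
nat_lit 0x0,
nat_lit 0x0,
nat_lit 0x0,
nat_lit 0x0,
nat_lit 0x0,
nat_lit 0x0,
nat_lit 0x0,
nat_lit 0x0,
nat_lit 0x0,
nat_lit 0x0,
nat_lit 0x0,
nat_lit 0x0,
nat_lit 0x0,
nat_lit 0x0,
nat_lit 0x0,
nat_lit 0x0,
nat_lit 0x0,
nat_lit 0x0,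
nat_lit 0x0,
nat_lit 0x0,
nat_lit 0x0,
nat_lit 0x0,
nat_lit 0x0,
nat_lit 0x0,
nat_lit 0x0,
nat_lit 0x0,
nat_lit 0x0,
nat_lit 0x0,
nat_lit 0x0,
nat_lit 0x0,
nat_lit 0x0,
nat_lit 0x0,
nat_lit 0x0,
nat_lit 0x0,
nat_lit 0x0,
nat_lit 0x0,
nat_lit 0x0,
nat_lit 0x0,
nat_lit 0x0,
nat_lit 0x0,
nat_lit 0x0,
nat_lit 0x0,
nat_lit 0x0,
nat_lit 0x0,
nat_lit 0x0,
nat_lit 0x0,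
nat_lit 0x0,
nat_lit 0x0,
nat_lit 0x0,
nat_lit 0x0,
nat_lit 0x0,
nat_lit 0x0,
nat_lit 0x0,
nat_lit 0x0,
nat_lit 0x0,
nat_lit 0x0,
nat_lit 0x0,
nat_lit 0x0,
nat_lit 0x0,
nat_lit 0x0,
nat_lit 0x0,
nat_lit 0x0,
nat_lit 0x0,
nat_lit 0x0,
nat_lit 0x0,
nat_lit 0x0,
nat_lit 0x0,
nat_lit 0x0,
nat_lit 0x0,
nat_lit 0x0,
nat_lit 0x0,
nat_lit 0x0,
nat_lit 0x0,
nat_lit 0x0,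
nat_lit 0x0,
nat_lit 0x0,
nat_lit 0x0,
nat_lit 0x0,
nat_lit 0x0,
nat_lit 0x0,
nat_lit 0x0,
nat_lit 0x0,
nat_lit 0x0,
nat_lit 0x0,
nat_lit 0x0,
nat_lit 0x0,
nat_lit 0x0,
nat_lit 0x0,
nat_lit 0x0,
nat_lit 0x0,
nat_lit 0x0,
nat_lit 0x0,
nat_lit 0x0,
nat_lit 0x0,
nat_lit 0x0,
nat_lit 0x0,
nat_lit 0x0,
nat_lit 0x0,
nat_lit 0x0,
nat_lit 0x0,
nat_lit 0x0,
nat_lit 0x0,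
nat_lit 0x0,
nat_lit 0x0,
nat_lit 0x0,
nat_lit 0x0,
nat_lit 0x0,
nat_lit 0x0,
nat_lit 0x0,
nat_lit 0x0,
nat_lit 0x0,
nat_lit 0x0,
nat_lit 0x0,
nat_lit 0x0,
nat_lit 0x0,
nat_lit 0x0,
nat_lit 0x0,
nat_lit 0x0,
nat_lit 0x0,
nat_lit 0x0,
nat_lit 0x0,
nat_lit 0x0,
nat_lit 0x0,
nat_lit 0x0,
nat_lit 0x0,
nat_lit 0x0,
nat_lit 0x0,
nat_lit 0x0,
nat_lit 0x0,
nat_lit 0x0,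
nat_lit 0x0,
nat_lit 0x0,
nat_lit 0x0,
nat_lit 0x0,
nat_lit 0x0,
nat_lit 0x0,
nat_lit 0x0,
nat_lit 0x0,
nat_lit 0x0,
nat_lit 0x0,
nat_lit 0x0,
nat_lit 0x0,
nat_lit 0x0,
nat_lit 0x0,
nat_lit 0x0,
nat_lit 0x0,
nat_lit 0x0,
nat_lit 0x0,
nat_lit 0x0,
nat_lit 0x0,
nat_lit 0x0,
nat_lit 0x0,
nat_lit 0x0,
nat_lit 0x0,
nat_lit 0x0,
nat_lit 0x0,
nat_lit 0x0,
nat_lit 0x0,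
nat_lit 0x0,
nat_lit 0x0,
nat_lit 0x0,
nat_lit 0x0,
nat_lit 0x0,
nat_lit 0x0,
nat_lit 0x0,
nat_lit 0x0,
nat_lit 0x0,
nat_lit 0x0,
nat_lit 0x0,
nat_lit 0x0,
nat_lit 0x0,
nat_lit 0x0,
nat_lit 0x0,
nat_lit 0x0,
nat_lit 0x0,
nat_lit 0x0,
nat_lit 0x0,
nat_lit 0x0,
nat_lit 0x0,
nat_lit 0x0,
nat_lit 0x0,
nat_lit 0x0,
nat_lit 0x0,
nat_lit 0x0,
nat_lit 0x0,
nat_lit 0x0,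
nat_lit 0x0,
nat_lit 0x0,
nat_lit 0x0,
nat_lit 0x0,
nat_lit 0x0,
nat_lit 0x0,
nat_lit 0x0,
nat_lit 0x0,
nat_lit 0x0,
nat_lit 0x0,
nat_lit 0x0,
nat_lit 0x0,
nat_lit 0x0,
nat_lit 0x0,
nat_lit 0x0,
nat_lit 0x0,
nat_lit 0x0,
nat_lit 0x0]

theorem ok10500 : checkFacts facts ip words 256 subs 18473 items10500 10500 = true := by decide +kernel

theorem len10500 : Nat.beq items10500.length 500 = true := by decide +kernel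

noncomputable def items11000 : List ℕ := [
nat_lit 0x0,
nat_lit 0x0,
nat_lit 0x0,
nat_lit 0x0,
nat_lit 0x0,
nat_lit 0x0,
nat_lit 0x0,
nat_lit 0x0,
nat_lit 0x0,
nat_lit 0x0,
nat_lit 0x0,
nat_lit 0x0,
nat_lit 0x0,
nat_lit 0x0,
nat_lit 0x0,
nat_lit 0x0,
nat_lit 0x0,
nat_lit 0x0,
nat_lit 0x0,
nat_lit 0x0,
nat_lit 0x0,
nat_lit 0x0,
nat_lit 0x0,
nat_lit 0x0,
nat_lit 0x0,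
nat_lit 0x0,
nat_lit 0x0,
nat_lit 0x0,
nat_lit 0x0,
nat_lit 0x0,
nat_lit 0x0,
nat_lit 0x0,
nat_lit 0x0,
nat_lit 0x0,
nat_lit 0x0,
nat_lit 0x0,
nat_lit 0x0,
nat_lit 0x0,
nat_lit 0x0,
nat_lit 0x0,
nat_lit 0x0,
nat_lit 0x0,
nat_lit 0x0,
nat_lit 0x0,
nat_lit 0x0,
nat_lit 0x0,
nat_lit 0x0,
nat_lit 0x0,
nat_lit 0x0,
nat_lit 0x0,
nat_lit 0x0,
nat_lit 0x0,
nat_lit 0x0,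
nat_lit 0x0,
nat_lit 0x0,
nat_lit 0x0,
nat_lit 0x0,
nat_lit 0x0,
nat_lit 0x0,
nat_lit 0x0,
nat_lit 0x0,
nat_lit 0x0,
nat_lit 0x0,
nat_lit 0x0,
nat_lit 0x0,
nat_lit 0x0,
nat_lit 0x0,
nat_lit 0x0,
nat_lit 0x0,
nat_lit 0x0,
nat_lit 0x0,
nat_lit 0x0,
nat_lit 0x0,
nat_lit 0x0,
nat_lit 0x0,
nat_lit 0x0,
nat_lit 0x0,
nat_lit 0x0,
nat_lit 0x0,
nat_lit 0x0,
nat_lit 0x0,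
nat_lit 0x0,
nat_lit 0x0,
nat_lit 0x0,
nat_lit 0x0,
nat_lit 0x0,
nat_lit 0x0,
nat_lit 0x0,
nat_lit 0x0,
nat_lit 0x0,
nat_lit 0x0,
nat_lit 0x0,
nat_lit 0x0,
nat_lit 0x0,
nat_lit 0x0,
nat_lit 0x0,
nat_lit 0x0,
nat_lit 0x0,
nat_lit 0x0,
nat_lit 0x0,
nat_lit 0x0,
nat_lit 0x0,
nat_lit 0x0,
nat_lit 0x0,
nat_lit 0x0,
nat_lit 0x0,
nat_lit 0x0,
nat_lit 0x0,
nat_lit 0x0,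
nat_lit 0x0,
nat_lit 0x0,
nat_lit 0x0,
nat_lit 0x0,
nat_lit 0x0,
nat_lit 0x0,
nat_lit 0x0,
nat_lit 0x0,
nat_lit 0x0,
nat_lit 0x0,
nat_lit 0x0,
nat_lit 0x0,
nat_lit 0x0,
nat_lit 0x0,
nat_lit 0x0,
nat_lit 0x0,
nat_lit 0x0,
nat_lit 0x0,
nat_lit 0x0,
nat_lit 0x0,
nat_lit 0x0,
nat_lit 0x0,
nat_lit 0x0,
nat_lit 0x0,
nat_lit 0x0,
nat_lit 0x0,
nat_lit 0x0,
nat_lit 0x0,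
nat_lit 0x0,
nat_lit 0x0,
nat_lit 0x0,
nat_lit 0x0,
nat_lit 0x0,
nat_lit 0x0,
nat_lit 0x0,
nat_lit 0x0,
nat_lit 0x0,
nat_lit 0x0,
nat_lit 0x0,
nat_lit 0x0,
nat_lit 0x0,
nat_lit 0x0,
nat_lit 0x0,
nat_lit 0x0,
nat_lit 0x0,
nat_lit 0x0,
nat_lit 0x0,
nat_lit 0x0,
nat_lit 0x0,
nat_lit 0x0,
nat_lit 0x0,
nat_lit 0x0,
nat_lit 0x0,
nat_lit 0x0,
nat_lit 0x0,
nat_lit 0x0,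
nat_lit 0x0,
nat_lit 0x0,
nat_lit 0x0,
nat_lit 0x0,
nat_lit 0x0,
nat_lit 0x0,
nat_lit 0x0,
nat_lit 0x0,
nat_lit 0x0,
nat_lit 0x0,
nat_lit 0x0,
nat_lit 0x0,
nat_lit 0x0,
nat_lit 0x0,
nat_lit 0x0,
nat_lit 0x0,
nat_lit 0x0,
nat_lit 0x0,
nat_lit 0x0,
nat_lit 0x0,
nat_lit 0x0,
nat_lit 0x0,
nat_lit 0x0,
nat_lit 0x0,
nat_lit 0x0,
nat_lit 0x0,
nat_lit 0x0,
nat_lit 0x0,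
nat_lit 0x0,
nat_lit 0x0,
nat_lit 0x0,
nat_lit 0x0,
nat_lit 0x0,
nat_lit 0x0,
nat_lit 0x0,
nat_lit 0x0,
nat_lit 0x0,
nat_lit 0x0,
nat_lit 0x0,
nat_lit 0x0,
nat_lit 0x0,
nat_lit 0x0,
nat_lit 0x0,
nat_lit 0x0,
nat_lit 0x0,
nat_lit 0x0,
nat_lit 0x0,
nat_lit 0x0,
nat_lit 0x0,
nat_lit 0x0,
nat_lit 0x0,
nat_lit 0x0,
nat_lit 0x0,
nat_lit 0x0,
nat_lit 0x0,
nat_lit 0x0,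
nat_lit 0x0,
nat_lit 0x0,
nat_lit 0x0,
nat_lit 0x0,
nat_lit 0x0,
nat_lit 0x0,
nat_lit 0x0,
nat_lit 0x0,
nat_lit 0x0,
nat_lit 0x0,
nat_lit 0x0,
nat_lit 0x0,
nat_lit 0x0,
nat_lit 0x0,
nat_lit 0x0,
nat_lit 0x0,
nat_lit 0x0,
nat_lit 0x0,
nat_lit 0x0,
nat_lit 0x0,
nat_lit 0x0,
nat_lit 0x0,
nat_lit 0x0,
nat_lit 0x0,
nat_lit 0x0,
nat_lit 0x0,
nat_lit 0x0,
nat_lit 0x0,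
nat_lit 0x0,
nat_lit 0x0,
nat_lit 0x0,
nat_lit 0x0,
nat_lit 0x0,
nat_lit 0x0,
nat_lit 0x0,
nat_lit 0x0,
nat_lit 0x0,
nat_lit 0x0,
nat_lit 0x0,
nat_lit 0x0,
nat_lit 0x0,
nat_lit 0x0,
nat_lit 0x0,
nat_lit 0x0,
nat_lit 0x0,
nat_lit 0x0,
nat_lit 0x0,
nat_lit 0x0,
nat_lit 0x0,
nat_lit 0x0,
nat_lit 0x0,
nat_lit 0x0,
nat_lit 0x0,
nat_lit 0x0,
nat_lit 0x0,
nat_lit 0x0,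
nat_lit 0x0,
nat_lit 0x0,
nat_lit 0x0,
nat_lit 0x0,
nat_lit 0x0,
nat_lit 0x0,
nat_lit 0x0,
nat_lit 0x0,
nat_lit 0x0,
nat_lit 0x0,
nat_lit 0x0,
nat_lit 0x0,
nat_lit 0x0,
nat_lit 0x0,
nat_lit 0x0,
nat_lit 0x0,
nat_lit 0x0,
nat_lit 0x0,
nat_lit 0x0,
nat_lit 0x0,
nat_lit 0x0,
nat_lit 0x0,
nat_lit 0x0,
nat_lit 0x0,
nat_lit 0x0,
nat_lit 0x0,
nat_lit 0x0,
nat_lit 0x0,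
nat_lit 0x0,
nat_lit 0x0,
nat_lit 0x0,
nat_lit 0x0,
nat_lit 0x0,
nat_lit 0x0,
nat_lit 0x0,
nat_lit 0x0,
nat_lit 0x0,
nat_lit 0x0,
nat_lit 0x0,
nat_lit 0x0,
nat_lit 0x0,
nat_lit 0x0,
nat_lit 0x0,
nat_lit 0x0,
nat_lit 0x0,
nat_lit 0x0,
nat_lit 0x0,
nat_lit 0x0,
nat_lit 0x0,
nat_lit 0x0,
nat_lit 0x0,
nat_lit 0x0,
nat_lit 0x0,
nat_lit 0x0,
nat_lit 0x0,
nat_lit 0x0,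
nat_lit 0x0,
nat_lit 0x0,
nat_lit 0x0,
nat_lit 0x0,
nat_lit 0x0,
nat_lit 0x0,
nat_lit 0x0,
nat_lit 0x0,
nat_lit 0x0,
nat_lit 0x0,
nat_lit 0x0,
nat_lit 0x0,
nat_lit 0x0,
nat_lit 0x0,
nat_lit 0x0,
nat_lit 0x0,
nat_lit 0x0,
nat_lit 0x0,
nat_lit 0x0,
nat_lit 0x0,
nat_lit 0x0,
nat_lit 0x0,
nat_lit 0x0,
nat_lit 0x0,
nat_lit 0x0,
nat_lit 0x0,
nat_lit 0x0,
nat_lit 0x0,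
nat_lit 0x0,
nat_lit 0x0,
nat_lit 0x0,
nat_lit 0x0,
nat_lit 0x0,
nat_lit 0x0,
nat_lit 0x0,
nat_lit 0x0,
nat_lit 0x0,
nat_lit 0x0,
nat_lit 0x0,
nat_lit 0x0,
nat_lit 0x0,
nat_lit 0x0,
nat_lit 0x0,
nat_lit 0x0,
nat_lit 0x0,
nat_lit 0x0,
nat_lit 0x0,
nat_lit 0x0,
nat_lit 0x0,
nat_lit 0x0,
nat_lit 0x0,
nat_lit 0x0,
nat_lit 0x0,
nat_lit 0x0,
nat_lit 0x0,
nat_lit 0x0,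
nat_lit 0x0,
nat_lit 0x0,
nat_lit 0x0,
nat_lit 0x0,
nat_lit 0x0,
nat_lit 0x0,
nat_lit 0x0,
nat_lit 0x0,
nat_lit 0x0,
nat_lit 0x0,
nat_lit 0x0,
nat_lit 0x0,
nat_lit 0x0,
nat_lit 0x0,
nat_lit 0x0,
nat_lit 0x0,
nat_lit 0x0,
nat_lit 0x0,
nat_lit 0x0,
nat_lit 0x0,
nat_lit 0x0,
nat_lit 0x0,
nat_lit 0x0,
nat_lit 0x0,
nat_lit 0x0,
nat_lit 0x0,
nat_lit 0x0,
nat_lit 0x0,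
nat_lit 0x0,
nat_lit 0x0,
nat_lit 0x0,
nat_lit 0x0,
nat_lit 0x0,
nat_lit 0x0,
nat_lit 0x0,
nat_lit 0x0,
nat_lit 0x0,
nat_lit 0x0,
nat_lit 0x0,
nat_lit 0x0,
nat_lit 0x0,
nat_lit 0x0,
nat_lit 0x0,
nat_lit 0x0,
nat_lit 0x0,
nat_lit 0x0,
nat_lit 0x0,
nat_lit 0x0,
nat_lit 0x0,
nat_lit 0x0,
nat_lit 0x0,
nat_lit 0x0,
nat_lit 0x0,
nat_lit 0x0,
nat_lit 0x0,
nat_lit 0x0,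
nat_lit 0x0,
nat_lit 0x0,
nat_lit 0x0,
nat_lit 0x0,
nat_lit 0x0,
nat_lit 0x0,
nat_lit 0x0,
nat_lit 0x0,
nat_lit 0x0,
nat_lit 0x0,
nat_lit 0x0,
nat_lit 0x0,
nat_lit 0x0,
nat_lit 0x0,
nat_lit 0x0,
nat_lit 0x0,
nat_lit 0x0,
nat_lit 0x0,
nat_lit 0x0,
nat_lit 0x0,
nat_lit 0x0,
nat_lit 0x0,
nat_lit 0x0,
nat_lit 0x0,
nat_lit 0x0,
nat_lit 0x0,
nat_lit 0x0,
nat_lit 0x0,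
nat_lit 0x0,
nat_lit 0x0,
nat_lit 0x0,
nat_lit 0x0,
nat_lit 0x0,
nat_lit 0x0,
nat_lit 0x0,
nat_lit 0x0,
nat_lit 0x0,
nat_lit 0x0,
nat_lit 0x0,
nat_lit 0x0,
nat_lit 0x0,
nat_lit 0x0,
nat_lit 0x0,
nat_lit 0x0,
nat_lit 0x0,
nat_lit 0x0,
nat_lit 0x0,
nat_lit 0x0,
nat_lit 0x0,
nat_lit 0x0,
nat_lit 0x0,
nat_lit 0x0,
nat_lit 0x0,
nat_lit 0x0,
nat_lit 0x0]

theorem ok11000 : checkFacts facts ip words 256 subs 18473 items11000 11000 = true := by decide +kernel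

theorem len11000 : Nat.beq items11000.length 500 = true := by decide +kernel

noncomputable def items11500 : List ℕ := [
nat_lit 0x0,
nat_lit 0x0,
nat_lit 0x0,
nat_lit 0x0,
nat_lit 0x0,
nat_lit 0x0,
nat_lit 0x0,
nat_lit 0x0,
nat_lit 0x0,
nat_lit 0x0,
nat_lit 0x0,
nat_lit 0x0,
nat_lit 0x0,
nat_lit 0x0,
nat_lit 0x0,
nat_lit 0x0,
nat_lit 0x0,
nat_lit 0x0,
nat_lit 0x0,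
nat_lit 0x0,
nat_lit 0x0,
nat_lit 0x0,
nat_lit 0x0,
nat_lit 0x0,
nat_lit 0x0,
nat_lit 0x0,
nat_lit 0x0,
nat_lit 0x0,
nat_lit 0x0,
nat_lit 0x0,
nat_lit 0x0,
nat_lit 0x0,
nat_lit 0x0,
nat_lit 0x0,
nat_lit 0x0,
nat_lit 0x0,
nat_lit 0x0,
nat_lit 0x0,
nat_lit 0x0,
nat_lit 0x0,
nat_lit 0x0,
nat_lit 0x0,
nat_lit 0x0,
nat_lit 0x0,
nat_lit 0x0,
nat_lit 0x0,
nat_lit 0x0,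
nat_lit 0x0,
nat_lit 0x0,
nat_lit 0x0,
nat_lit 0x0,
nat_lit 0x0,
nat_lit 0x0,
nat_lit 0x0,
nat_lit 0x0,
nat_lit 0x0,
nat_lit 0x0,
nat_lit 0x0,
nat_lit 0x0,
nat_lit 0x0,
nat_lit 0x0,
nat_lit 0x0,
nat_lit 0x0,
nat_lit 0x0,
nat_lit 0x0,
nat_lit 0x0,
nat_lit 0x0,
nat_lit 0x0,
nat_lit 0x0,
nat_lit 0x0,
nat_lit 0x0,
nat_lit 0x0,
nat_lit 0x0,
nat_lit 0x0,
nat_lit 0x0,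
nat_lit 0x0,
nat_lit 0x0,
nat_lit 0x0,
nat_lit 0x0,
nat_lit 0x0,
nat_lit 0x0,
nat_lit 0x0,
nat_lit 0x0,
nat_lit 0x0,
nat_lit 0x0,
nat_lit 0x0,
nat_lit 0x0,
nat_lit 0x0,
nat_lit 0x0,
nat_lit 0x0,
nat_lit 0x0,
nat_lit 0x0,
nat_lit 0x0,
nat_lit 0x0,
nat_lit 0x0,
nat_lit 0x0,
nat_lit 0x0,
nat_lit 0x0,
nat_lit 0x0,
nat_lit 0x0,
nat_lit 0x0,
nat_lit 0x0,
nat_lit 0x0,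
nat_lit 0x0,
nat_lit 0x0,
nat_lit 0x0,
nat_lit 0x0,
nat_lit 0x0,
nat_lit 0x0,
nat_lit 0x0,
nat_lit 0x0,
nat_lit 0x0,
nat_lit 0x0,
nat_lit 0x0,
nat_lit 0x0,
nat_lit 0x0,
nat_lit 0x0,
nat_lit 0x0,
nat_lit 0x0,
nat_lit 0x0,
nat_lit 0x0,
nat_lit 0x0,
nat_lit 0x0,
nat_lit 0x0,
nat_lit 0x0,
nat_lit 0x0,
nat_lit 0x0,
nat_lit 0x0,
nat_lit 0x0,
nat_lit 0x0,
nat_lit 0x0,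
nat_lit 0x0,
nat_lit 0x0,
nat_lit 0x0,
nat_lit 0x0,
nat_lit 0x0,
nat_lit 0x0,
nat_lit 0x0,
nat_lit 0x0,
nat_lit 0x0,
nat_lit 0x0,
nat_lit 0x0,
nat_lit 0x0,
nat_lit 0x0,
nat_lit 0x0,
nat_lit 0x0,
nat_lit 0x0,
nat_lit 0x0,
nat_lit 0x0,
nat_lit 0x0,
nat_lit 0x0,
nat_lit 0x0,
nat_lit 0x0,
nat_lit 0x0,
nat_lit 0x0,
nat_lit 0x0,
nat_lit 0x0,
nat_lit 0x0,
nat_lit 0x0,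
nat_lit 0x0,
nat_lit 0x0,
nat_lit 0x0,
nat_lit 0x0,
nat_lit 0x0,
nat_lit 0x0,
nat_lit 0x0,
nat_lit 0x0,
nat_lit 0x0,
nat_lit 0x0,
nat_lit 0x0,
nat_lit 0x0,
nat_lit 0x0,
nat_lit 0x0,
nat_lit 0x0,
nat_lit 0x0,
nat_lit 0x0,
nat_lit 0x0,
nat_lit 0x0,
nat_lit 0x0,
nat_lit 0x0,
nat_lit 0x0,
nat_lit 0x0,
nat_lit 0x0,
nat_lit 0x0,
nat_lit 0x0,
nat_lit 0x0,
nat_lit 0x0,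
nat_lit 0x0,
nat_lit 0x0,
nat_lit 0x0,
nat_lit 0x0,
nat_lit 0x0,
nat_lit 0x0,
nat_lit 0x0,
nat_lit 0x0,
nat_lit 0x0,
nat_lit 0x0,
nat_lit 0x0,
nat_lit 0x0,
nat_lit 0x0,
nat_lit 0x0,
nat_lit 0x0,
nat_lit 0x0,
nat_lit 0x0,
nat_lit 0x0,
nat_lit 0x0,
nat_lit 0x0,
nat_lit 0x0,
nat_lit 0x0,
nat_lit 0x0,
nat_lit 0x0,
nat_lit 0x0,
nat_lit 0x0,
nat_lit 0x0,
nat_lit 0x0,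
nat_lit 0x0,
nat_lit 0x0,
nat_lit 0x0,
nat_lit 0x0,
nat_lit 0x0,
nat_lit 0x0,
nat_lit 0x0,
nat_lit 0x0,
nat_lit 0x0,
nat_lit 0x0,
nat_lit 0x0,
nat_lit 0x0,
nat_lit 0x0,
nat_lit 0x0,
nat_lit 0x0,
nat_lit 0x0,
nat_lit 0x0,
nat_lit 0x0,
nat_lit 0x0,
nat_lit 0x0,
nat_lit 0x0,
nat_lit 0x0,
nat_lit 0x0,
nat_lit 0x0,
nat_lit 0x0,
nat_lit 0x0,
nat_lit 0x0,
nat_lit 0x0,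
nat_lit 0x0,
nat_lit 0x0,
nat_lit 0x0,
nat_lit 0x0,
nat_lit 0x0,
nat_lit 0x0,
nat_lit 0x0,
nat_lit 0x0,
nat_lit 0x0,
nat_lit 0x0,
nat_lit 0x0,
nat_lit 0x0,
nat_lit 0x0,
nat_lit 0x0,
nat_lit 0x0,
nat_lit 0x0,
nat_lit 0x0,
nat_lit 0x0,
nat_lit 0x0,
nat_lit 0x0,
nat_lit 0x0,
nat_lit 0x0,
nat_lit 0x0,
nat_lit 0x0,
nat_lit 0x0,
nat_lit 0x0,
nat_lit 0x0,
nat_lit 0x0,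
nat_lit 0x0,
nat_lit 0x0,
nat_lit 0x0,
nat_lit 0x0,
nat_lit 0x0,
nat_lit 0x0,
nat_lit 0x0,
nat_lit 0x0,
nat_lit 0x0,
nat_lit 0x0,
nat_lit 0x0,
nat_lit 0x0,
nat_lit 0x0,
nat_lit 0x0,
nat_lit 0x0,
nat_lit 0x0,
nat_lit 0x0,
nat_lit 0x0,
nat_lit 0x0,
nat_lit 0x0,
nat_lit 0x0,
nat_lit 0x0,
nat_lit 0x0,
nat_lit 0x0,
nat_lit 0x0,
nat_lit 0x0,
nat_lit 0x0,
nat_lit 0x0,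
nat_lit 0x0,
nat_lit 0x0,
nat_lit 0x0,
nat_lit 0x0,
nat_lit 0x0,
nat_lit 0x0,
nat_lit 0x0,
nat_lit 0x0,
nat_lit 0x0,
nat_lit 0x0,
nat_lit 0x0,
nat_lit 0x0,
nat_lit 0x0,
nat_lit 0x0,
nat_lit 0x0,
nat_lit 0x0,
nat_lit 0x0,
nat_lit 0x0,
nat_lit 0x0,
nat_lit 0x0,
nat_lit 0x0,
nat_lit 0x0,
nat_lit 0x0,
nat_lit 0x0,
nat_lit 0x0,
nat_lit 0x0,
nat_lit 0x0,
nat_lit 0x0,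
nat_lit 0x0,
nat_lit 0x0,
nat_lit 0x0,
nat_lit 0x0,
nat_lit 0x0,
nat_lit 0x0,
nat_lit 0x0,
nat_lit 0x0,
nat_lit 0x0,
nat_lit 0x0,
nat_lit 0x0,
nat_lit 0x0,
nat_lit 0x0,
nat_lit 0x0,
nat_lit 0x0,
nat_lit 0x0,
nat_lit 0x0,
nat_lit 0x0,
nat_lit 0x0,
nat_lit 0x0,
nat_lit 0x0,
nat_lit 0x0,
nat_lit 0x0,
nat_lit 0x0,
nat_lit 0x0,
nat_lit 0x0,
nat_lit 0x0,
nat_lit 0x0,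
nat_lit 0x0,
nat_lit 0x0,
nat_lit 0x0,
nat_lit 0x0,
nat_lit 0x0,
nat_lit 0x0,
nat_lit 0x0,
nat_lit 0x0,
nat_lit 0x0,
nat_lit 0x0,
nat_lit 0x0,
nat_lit 0x0,
nat_lit 0x0,
nat_lit 0x0,
nat_lit 0x0,
nat_lit 0x0,
nat_lit 0x0,
nat_lit 0x0,
nat_lit 0x0,
nat_lit 0x0,
nat_lit 0x0,
nat_lit 0x0,
nat_lit 0x0,
nat_lit 0x0,
nat_lit 0x0,
nat_lit 0x0,
nat_lit 0x0,
nat_lit 0x0,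
nat_lit 0x0,
nat_lit 0x0,
nat_lit 0x0,
nat_lit 0x0,
nat_lit 0x0,
nat_lit 0x0,
nat_lit 0x0,
nat_lit 0x0,
nat_lit 0x0,
nat_lit 0x0,
nat_lit 0x0,
nat_lit 0x0,
nat_lit 0x0,
nat_lit 0x0,
nat_lit 0x0,
nat_lit 0x0,
nat_lit 0x0,
nat_lit 0x0,
nat_lit 0x0,
nat_lit 0x0,
nat_lit 0x0,
nat_lit 0x0,
nat_lit 0x0,
nat_lit 0x0,
nat_lit 0x0,
nat_lit 0x0,
nat_lit 0x0,
nat_lit 0x0,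
nat_lit 0x0,
nat_lit 0x0,
nat_lit 0x0,
nat_lit 0x0,
nat_lit 0x0,
nat_lit 0x0,
nat_lit 0x0,
nat_lit 0x0,
nat_lit 0x0,
nat_lit 0x0,
nat_lit 0x0,
nat_lit 0x0,
nat_lit 0x0,
nat_lit 0x0,
nat_lit 0x0,
nat_lit 0x0,
nat_lit 0x0,
nat_lit 0x0,
nat_lit 0x0,
nat_lit 0x0,
nat_lit 0x0,
nat_lit 0x0,
nat_lit 0x0,
nat_lit 0x0,
nat_lit 0x0,
nat_lit 0x0,
nat_lit 0x0,
nat_lit 0x0,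
nat_lit 0x0,
nat_lit 0x0,
nat_lit 0x0,
nat_lit 0x0,
nat_lit 0x0,
nat_lit 0x0,
nat_lit 0x0,
nat_lit 0x0,
nat_lit 0x0,
nat_lit 0x0,
nat_lit 0x0,
nat_lit 0x0,
nat_lit 0x0,
nat_lit 0x0,
nat_lit 0x0,
nat_lit 0x0,
nat_lit 0x0,
nat_lit 0x0,
nat_lit 0x0,
nat_lit 0x0,
nat_lit 0x0,
nat_lit 0x0,
nat_lit 0x0,
nat_lit 0x0,
nat_lit 0x0,
nat_lit 0x0,
nat_lit 0x0,
nat_lit 0x0,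
nat_lit 0x0,
nat_lit 0x0,
nat_lit 0x0,
nat_lit 0x0,
nat_lit 0x0,
nat_lit 0x0,
nat_lit 0x0,
nat_lit 0x0,
nat_lit 0x0,
nat_lit 0x0,
nat_lit 0x0,
nat_lit 0x0,
nat_lit 0x0,
nat_lit 0x0,
nat_lit 0x0,
nat_lit 0x0,
nat_lit 0x0,
nat_lit 0x0,
nat_lit 0x0,
nat_lit 0x0,
nat_lit 0x0,
nat_lit 0x0,
nat_lit 0x0,
nat_lit 0x0,
nat_lit 0x0,
nat_lit 0x0,
nat_lit 0x0,
nat_lit 0x0,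
nat_lit 0x0,
nat_lit 0x0,
nat_lit 0x0,
nat_lit 0x0,
nat_lit 0x0]

theorem ok11500 : checkFacts facts ip words 256 subs 18473 items11500 11500 = true := by decide +kernel

theorem len11500 : Nat.beq items11500.length 500 = true := by decide +kernel

noncomputable def items12000 : List ℕ := [
nat_lit 0x0,
nat_lit 0x0,
nat_lit 0x0,
nat_lit 0x0,
nat_lit 0x0,
nat_lit 0x0,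
nat_lit 0x0,
nat_lit 0x0,
nat_lit 0x0,
nat_lit 0x0,
nat_lit 0x0,
nat_lit 0x0,
nat_lit 0x0,
nat_lit 0x0,
nat_lit 0x0,
nat_lit 0x0,
nat_lit 0x0,
nat_lit 0x0,
nat_lit 0x0,
nat_lit 0x0,
nat_lit 0x0,
nat_lit 0x0,
nat_lit 0x0,
nat_lit 0x0,
nat_lit 0x0,
nat_lit 0x0,
nat_lit 0x0,
nat_lit 0x0,
nat_lit 0x0,
nat_lit 0x0,
nat_lit 0x0,
nat_lit 0x0,
nat_lit 0x0,
nat_lit 0x0,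
nat_lit 0x0,
nat_lit 0x0,
nat_lit 0x0,
nat_lit 0x0,
nat_lit 0x0,
nat_lit 0x0,
nat_lit 0x0,
nat_lit 0x0,
nat_lit 0x0,
nat_lit 0x0,
nat_lit 0x0,
nat_lit 0x0,
nat_lit 0x0,
nat_lit 0x0,
nat_lit 0x0,
nat_lit 0x0,
nat_lit 0x0,
nat_lit 0x0,
nat_lit 0x0,
nat_lit 0x0,
nat_lit 0x0,
nat_lit 0x0,
nat_lit 0x0,
nat_lit 0x0,
nat_lit 0x0,
nat_lit 0x0,
nat_lit 0x0,
nat_lit 0x0,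
nat_lit 0x0,
nat_lit 0x0,
nat_lit 0x0,
nat_lit 0x0,
nat_lit 0x0,
nat_lit 0x0,
nat_lit 0x0,
nat_lit 0x0,
nat_lit 0x0,
nat_lit 0x0,
nat_lit 0x0,
nat_lit 0x0,
nat_lit 0x0,
nat_lit 0x0,
nat_lit 0x0,
nat_lit 0x0,
nat_lit 0x0,
nat_lit 0x0,
nat_lit 0x0,
nat_lit 0x0,
nat_lit 0x0,
nat_lit 0x0,
nat_lit 0x0,
nat_lit 0x0,
nat_lit 0x0,
nat_lit 0x0,
nat_lit 0x0,
nat_lit 0x0,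
nat_lit 0x0,
nat_lit 0x0,
nat_lit 0x0,
nat_lit 0x0,
nat_lit 0x0,
nat_lit 0x0,
nat_lit 0x0,
nat_lit 0x0,
nat_lit 0x0,
nat_lit 0x0,
nat_lit 0x0,
nat_lit 0x0,
nat_lit 0x0,
nat_lit 0x0,
nat_lit 0x0,
nat_lit 0x0,
nat_lit 0x0,
nat_lit 0x0,
nat_lit 0x0,
nat_lit 0x0,
nat_lit 0x0,
nat_lit 0x0,
nat_lit 0x0,
nat_lit 0x0,
nat_lit 0x0,
nat_lit 0x0,
nat_lit 0x0,
nat_lit 0x0,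
nat_lit 0x0,
nat_lit 0x0,
nat_lit 0x0,
nat_lit 0x0,
nat_lit 0x0,
nat_lit 0x0,
nat_lit 0x0,
nat_lit 0x0,
nat_lit 0x0,
nat_lit 0x0,
nat_lit 0x0,
nat_lit 0x0,
nat_lit 0x0,
nat_lit 0x0,
nat_lit 0x0,
nat_lit 0x0,
nat_lit 0x0,
nat_lit 0x0,
nat_lit 0x0,
nat_lit 0x0,
nat_lit 0x0,
nat_lit 0x0,
nat_lit 0x0,
nat_lit 0x0,
nat_lit 0x0,
nat_lit 0x0,
nat_lit 0x0,
nat_lit 0x0,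
nat_lit 0x0,
nat_lit 0x0,
nat_lit 0x0,
nat_lit 0x0,
nat_lit 0x0,
nat_lit 0x0,
nat_lit 0x0,
nat_lit 0x0,
nat_lit 0x0,
nat_lit 0x0,
nat_lit 0x0,
nat_lit 0x0,
nat_lit 0x0,
nat_lit 0x0,
nat_lit 0x0,
nat_lit 0x0,
nat_lit 0x0,
nat_lit 0x0,
nat_lit 0x0,
nat_lit 0x0,
nat_lit 0x0,
nat_lit 0x0,
nat_lit 0x0,
nat_lit 0x0,
nat_lit 0x0,
nat_lit 0x0,
nat_lit 0x0,
nat_lit 0x0,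
nat_lit 0x0,
nat_lit 0x0,
nat_lit 0x0,
nat_lit 0x0,
nat_lit 0x0,
nat_lit 0x0,
nat_lit 0x0,
nat_lit 0x0,
nat_lit 0x0,
nat_lit 0x0,
nat_lit 0x0,
nat_lit 0x0,
nat_lit 0x0,
nat_lit 0x0,
nat_lit 0x0,
nat_lit 0x0,
nat_lit 0x0,
nat_lit 0x0,
nat_lit 0x0,
nat_lit 0x0,
nat_lit 0x0,
nat_lit 0x0,
nat_lit 0x0,
nat_lit 0x0,
nat_lit 0x0,
nat_lit 0x0,
nat_lit 0x0,
nat_lit 0x0,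
nat_lit 0x0,
nat_lit 0x0,
nat_lit 0x0,
nat_lit 0x0,
nat_lit 0x0,
nat_lit 0x0,
nat_lit 0x0,
nat_lit 0x0,
nat_lit 0x0,
nat_lit 0x0,
nat_lit 0x0,
nat_lit 0x0,
nat_lit 0x0,
nat_lit 0x0,
nat_lit 0x0,
nat_lit 0x0,
nat_lit 0x0,
nat_lit 0x0,
nat_lit 0x0,
nat_lit 0x0,
nat_lit 0x0,
nat_lit 0x0,
nat_lit 0x0,
nat_lit 0x0,
nat_lit 0x0,
nat_lit 0x0,
nat_lit 0x0,
nat_lit 0x0,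
nat_lit 0x0,
nat_lit 0x0,
nat_lit 0x0,
nat_lit 0x0,
nat_lit 0x0,
nat_lit 0x0,
nat_lit 0x0,
nat_lit 0x0,
nat_lit 0x0,
nat_lit 0x0,
nat_lit 0x0,
nat_lit 0x0,
nat_lit 0x0,
nat_lit 0x0,
nat_lit 0x0,
nat_lit 0x0,
nat_lit 0x0,
nat_lit 0x0,
nat_lit 0x0,
nat_lit 0x0,
nat_lit 0x0,
nat_lit 0x0,
nat_lit 0x0,
nat_lit 0x0,
nat_lit 0x0,
nat_lit 0x0,
nat_lit 0x0,
nat_lit 0x0,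
nat_lit 0x0,
nat_lit 0x0,
nat_lit 0x0,
nat_lit 0x0,
nat_lit 0x0,
nat_lit 0x0,
nat_lit 0x0,
nat_lit 0x0,
nat_lit 0x0,
nat_lit 0x0,
nat_lit 0x0,
nat_lit 0x0,
nat_lit 0x0,
nat_lit 0x0,
nat_lit 0x0,
nat_lit 0x0,
nat_lit 0x0,
nat_lit 0x0,
nat_lit 0x0,
nat_lit 0x0,
nat_lit 0x0,
nat_lit 0x0,
nat_lit 0x0,
nat_lit 0x0,
nat_lit 0x0,
nat_lit 0x0,
nat_lit 0x0,
nat_lit 0x0,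
nat_lit 0x0,
nat_lit 0x0,
nat_lit 0x0,
nat_lit 0x0,
nat_lit 0x0,
nat_lit 0x0,
nat_lit 0x0,
nat_lit 0x0,
nat_lit 0x0,
nat_lit 0x0,
nat_lit 0x0,
nat_lit 0x0,
nat_lit 0x0,
nat_lit 0x0,
nat_lit 0x0,
nat_lit 0x0,
nat_lit 0x0,
nat_lit 0x0,
nat_lit 0x0,
nat_lit 0x0,
nat_lit 0x0,
nat_lit 0x0,
nat_lit 0x0,
nat_lit 0x0,
nat_lit 0x0,
nat_lit 0x0,
nat_lit 0x0,
nat_lit 0x0,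
nat_lit 0x0,
nat_lit 0x0,
nat_lit 0x0,
nat_lit 0x0,
nat_lit 0x0,
nat_lit 0x0,
nat_lit 0x0,
nat_lit 0x0,
nat_lit 0x0,
nat_lit 0x0,
nat_lit 0x0,
nat_lit 0x0,
nat_lit 0x0,
nat_lit 0x0,
nat_lit 0x0,
nat_lit 0x0,
nat_lit 0x0,
nat_lit 0x0,
nat_lit 0x0,
nat_lit 0x0,
nat_lit 0x0,
nat_lit 0x0,
nat_lit 0x0,
nat_lit 0x0,
nat_lit 0x0,
nat_lit 0x0,
nat_lit 0x0,
nat_lit 0x0,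
nat_lit 0x0,
nat_lit 0x0,
nat_lit 0x0,
nat_lit 0x0,
nat_lit 0x0,
nat_lit 0x0,
nat_lit 0x0,
nat_lit 0x0,
nat_lit 0x0,
nat_lit 0x0,
nat_lit 0x0,
nat_lit 0x0,
nat_lit 0x0,
nat_lit 0x0,
nat_lit 0x0,
nat_lit 0x0,
nat_lit 0x0,
nat_lit 0x0,
nat_lit 0x0,
nat_lit 0x0,
nat_lit 0x0,
nat_lit 0x0,
nat_lit 0x0,
nat_lit 0x0,
nat_lit 0x0,
nat_lit 0x0,
nat_lit 0x0,
nat_lit 0x0,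
nat_lit 0x0,
nat_lit 0x0,
nat_lit 0x0,
nat_lit 0x0,
nat_lit 0x0,
nat_lit 0x0,
nat_lit 0x0,
nat_lit 0x0,
nat_lit 0x0,
nat_lit 0x0,
nat_lit 0x0,
nat_lit 0x0,
nat_lit 0x0,
nat_lit 0x0,
nat_lit 0x0,
nat_lit 0x0,
nat_lit 0x0,
nat_lit 0x0,
nat_lit 0x0,
nat_lit 0x0,
nat_lit 0x0,
nat_lit 0x0,
nat_lit 0x0,
nat_lit 0x0,
nat_lit 0x0,
nat_lit 0x0,
nat_lit 0x0,
nat_lit 0x0,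
nat_lit 0x0,
nat_lit 0x0,
nat_lit 0x0,
nat_lit 0x0,
nat_lit 0x0,
nat_lit 0x0,
nat_lit 0x0,
nat_lit 0x0,
nat_lit 0x0,
nat_lit 0x0,
nat_lit 0x0,
nat_lit 0x0,
nat_lit 0x0,
nat_lit 0x0,
nat_lit 0x0,
nat_lit 0x0,
nat_lit 0x0,
nat_lit 0x0,
nat_lit 0x0,
nat_lit 0x0,
nat_lit 0x0,
nat_lit 0x0,
nat_lit 0x0,
nat_lit 0x0,
nat_lit 0x0,
nat_lit 0x0,
nat_lit 0x0,
nat_lit 0x0,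
nat_lit 0x0,
nat_lit 0x0,
nat_lit 0x0,
nat_lit 0x0,
nat_lit 0x0,
nat_lit 0x0,
nat_lit 0x0,
nat_lit 0x0,
nat_lit 0x0,
nat_lit 0x0,
nat_lit 0x0,
nat_lit 0x0,
nat_lit 0x0,
nat_lit 0x0,
nat_lit 0x0,
nat_lit 0x0,
nat_lit 0x0,
nat_lit 0x0,
nat_lit 0x0,
nat_lit 0x0,
nat_lit 0x0,
nat_lit 0x0,
nat_lit 0x0,
nat_lit 0x0,
nat_lit 0x0,
nat_lit 0x0,
nat_lit 0x0,
nat_lit 0x0,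
nat_lit 0x0,
nat_lit 0x0,
nat_lit 0x0,
nat_lit 0x0,
nat_lit 0x0,
nat_lit 0x0,
nat_lit 0x0,
nat_lit 0x0,
nat_lit 0x0,
nat_lit 0x0,
nat_lit 0x0,
nat_lit 0x0,
nat_lit 0x0,
nat_lit 0x0,
nat_lit 0x0,
nat_lit 0x0,
nat_lit 0x0,
nat_lit 0x0,
nat_lit 0x0,
nat_lit 0x0,
nat_lit 0x0,
nat_lit 0x0,
nat_lit 0x0,
nat_lit 0x0,
nat_lit 0x0,
nat_lit 0x0,
nat_lit 0x0,
nat_lit 0x0,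
nat_lit 0x0,
nat_lit 0x0,
nat_lit 0x0,
nat_lit 0x0,
nat_lit 0x0,
nat_lit 0x0,
nat_lit 0x0,
nat_lit 0x0,
nat_lit 0x0,
nat_lit 0x0,
nat_lit 0x0,
nat_lit 0x0,
nat_lit 0x0,
nat_lit 0x0,
nat_lit 0x0,
nat_lit 0x0,
nat_lit 0x0,
nat_lit 0x0]

theorem ok12000 : checkFacts facts ip words 256 subs 18473 items12000 12000 = true := by decide +kernel

theorem len12000 : Nat.beq items12000.length 500 = true := by decide +kernel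

noncomputable def items12500 : List ℕ := [
nat_lit 0x0,
nat_lit 0x0,
nat_lit 0x0,
nat_lit 0x0,
nat_lit 0x0,
nat_lit 0x0,
nat_lit 0x0,
nat_lit 0x0,
nat_lit 0x0,
nat_lit 0x0,
nat_lit 0x0,
nat_lit 0x0,
nat_lit 0x0,
nat_lit 0x0,
nat_lit 0x0,
nat_lit 0x0,
nat_lit 0x0,
nat_lit 0x0,
nat_lit 0x0,
nat_lit 0x0,
nat_lit 0x0,
nat_lit 0x0,
nat_lit 0x0,
nat_lit 0x0,
nat_lit 0x0,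
nat_lit 0x0,
nat_lit 0x0,
nat_lit 0x0,
nat_lit 0x0,
nat_lit 0x0,
nat_lit 0x0,
nat_lit 0x0,
nat_lit 0x0,
nat_lit 0x0,
nat_lit 0x0,
nat_lit 0x0,
nat_lit 0x0,
nat_lit 0x0,
nat_lit 0x0,
nat_lit 0x0,
nat_lit 0x0,
nat_lit 0x0,
nat_lit 0x0,
nat_lit 0x0,
nat_lit 0x0,
nat_lit 0x0,
nat_lit 0x0,
nat_lit 0x0,
nat_lit 0x0,
nat_lit 0x0,
nat_lit 0x0,
nat_lit 0x0,
nat_lit 0x0,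
nat_lit 0x0,
nat_lit 0x0,
nat_lit 0x0,
nat_lit 0x0,
nat_lit 0x0,
nat_lit 0x0,
nat_lit 0x0,
nat_lit 0x0,
nat_lit 0x0,
nat_lit 0x0,
nat_lit 0x0,
nat_lit 0x0,
nat_lit 0x0,
nat_lit 0x0,
nat_lit 0x0,
nat_lit 0x0,
nat_lit 0x0,
nat_lit 0x0,
nat_lit 0x0,
nat_lit 0x0,
nat_lit 0x0,
nat_lit 0x0,
nat_lit 0x0,
nat_lit 0x0,
nat_lit 0x0,
nat_lit 0x0,
nat_lit 0x0,
nat_lit 0x0,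
nat_lit 0x0,
nat_lit 0x0,
nat_lit 0x0,
nat_lit 0x0,
nat_lit 0x0,
nat_lit 0x0,
nat_lit 0x0,
nat_lit 0x0,
nat_lit 0x0,
nat_lit 0x0,
nat_lit 0x0,
nat_lit 0x0,
nat_lit 0x0,
nat_lit 0x0,
nat_lit 0x0,
nat_lit 0x0,
nat_lit 0x0,
nat_lit 0x0,
nat_lit 0x0,
nat_lit 0x0,
nat_lit 0x0,
nat_lit 0x0,
nat_lit 0x0,
nat_lit 0x0,
nat_lit 0x0,
nat_lit 0x0,
nat_lit 0x0,
nat_lit 0x0,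
nat_lit 0x0,
nat_lit 0x0,
nat_lit 0x0,
nat_lit 0x0,
nat_lit 0x0,
nat_lit 0x0,
nat_lit 0x0,
nat_lit 0x0,
nat_lit 0x0,
nat_lit 0x0,
nat_lit 0x0,
nat_lit 0x0,
nat_lit 0x0,
nat_lit 0x0,
nat_lit 0x0,
nat_lit 0x0,
nat_lit 0x0,
nat_lit 0x0,
nat_lit 0x0,
nat_lit 0x0,
nat_lit 0x0,
nat_lit 0x0,
nat_lit 0x0,
nat_lit 0x0,
nat_lit 0x0,
nat_lit 0x0,
nat_lit 0x0,
nat_lit 0x0,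
nat_lit 0x0,
nat_lit 0x0,
nat_lit 0x0,
nat_lit 0x0,
nat_lit 0x0,
nat_lit 0x0,
nat_lit 0x0,
nat_lit 0x0,
nat_lit 0x0,
nat_lit 0x0,
nat_lit 0x0,
nat_lit 0x0,
nat_lit 0x0,
nat_lit 0x0,
nat_lit 0x0,
nat_lit 0x0,
nat_lit 0x0,
nat_lit 0x0,
nat_lit 0x0,
nat_lit 0x0,
nat_lit 0x0,
nat_lit 0x0,
nat_lit 0x0,
nat_lit 0x0,
nat_lit 0x0,
nat_lit 0x0,
nat_lit 0x0,
nat_lit 0x0,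
nat_lit 0x0,
nat_lit 0x0,
nat_lit 0x0,
nat_lit 0x0,
nat_lit 0x0,
nat_lit 0x0,
nat_lit 0x0,
nat_lit 0x0,
nat_lit 0x0,
nat_lit 0x0,
nat_lit 0x0,
nat_lit 0x0,
nat_lit 0x0,
nat_lit 0x0,
nat_lit 0x0,
nat_lit 0x0,
nat_lit 0x0,
nat_lit 0x0,
nat_lit 0x0,
nat_lit 0x0,
nat_lit 0x0,
nat_lit 0x0,
nat_lit 0x0,
nat_lit 0x0,
nat_lit 0x0,
nat_lit 0x0,
nat_lit 0x0,
nat_lit 0x0,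
nat_lit 0x0,
nat_lit 0x0,
nat_lit 0x0,
nat_lit 0x0,
nat_lit 0x0,
nat_lit 0x0,
nat_lit 0x0,
nat_lit 0x0,
nat_lit 0x0,
nat_lit 0x0,
nat_lit 0x0,
nat_lit 0x0,
nat_lit 0x0,
nat_lit 0x0,
nat_lit 0x0,
nat_lit 0x0,
nat_lit 0x0,
nat_lit 0x0,
nat_lit 0x0,
nat_lit 0x0,
nat_lit 0x0,
nat_lit 0x0,
nat_lit 0x0,
nat_lit 0x0,
nat_lit 0x0,
nat_lit 0x0,
nat_lit 0x0,
nat_lit 0x0,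
nat_lit 0x0,
nat_lit 0x0,
nat_lit 0x0,
nat_lit 0x0,
nat_lit 0x0,
nat_lit 0x0,
nat_lit 0x0,
nat_lit 0x0,
nat_lit 0x0,
nat_lit 0x0,
nat_lit 0x0,
nat_lit 0x0,
nat_lit 0x0,
nat_lit 0x0,
nat_lit 0x0,
nat_lit 0x0,
nat_lit 0x0,
nat_lit 0x0,
nat_lit 0x0,
nat_lit 0x0,
nat_lit 0x0,
nat_lit 0x0,
nat_lit 0x0,
nat_lit 0x0,
nat_lit 0x0,
nat_lit 0x0,
nat_lit 0x0,
nat_lit 0x0,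
nat_lit 0x0,
nat_lit 0x0,
nat_lit 0x0,
nat_lit 0x0,
nat_lit 0x0,
nat_lit 0x0,
nat_lit 0x0,
nat_lit 0x0,
nat_lit 0x0,
nat_lit 0x0,
nat_lit 0x0,
nat_lit 0x0,
nat_lit 0x0,
nat_lit 0x0,
nat_lit 0x0,
nat_lit 0x0,
nat_lit 0x0,
nat_lit 0x0,
nat_lit 0x0,
nat_lit 0x0,
nat_lit 0x0,
nat_lit 0x0,
nat_lit 0x0,
nat_lit 0x0,
nat_lit 0x0,
nat_lit 0x0,
nat_lit 0x0,
nat_lit 0x0,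
nat_lit 0x0,
nat_lit 0x0,
nat_lit 0x0,
nat_lit 0x0,
nat_lit 0x0,
nat_lit 0x0,
nat_lit 0x0,
nat_lit 0x0,
nat_lit 0x0,
nat_lit 0x0,
nat_lit 0x0,
nat_lit 0x0,
nat_lit 0x0,
nat_lit 0x0,
nat_lit 0x0,
nat_lit 0x0,
nat_lit 0x0,
nat_lit 0x0,
nat_lit 0x0,
nat_lit 0x0,
nat_lit 0x0,
nat_lit 0x0,
nat_lit 0x0,
nat_lit 0x0,
nat_lit 0x0,
nat_lit 0x0,
nat_lit 0x0,
nat_lit 0x0,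
nat_lit 0x0,
nat_lit 0x0,
nat_lit 0x0,
nat_lit 0x0,
nat_lit 0x0,
nat_lit 0x0,
nat_lit 0x0,
nat_lit 0x0,
nat_lit 0x0,
nat_lit 0x0,
nat_lit 0x0,
nat_lit 0x0,
nat_lit 0x0,
nat_lit 0x0,
nat_lit 0x0,
nat_lit 0x0,
nat_lit 0x0,
nat_lit 0x0,
nat_lit 0x0,
nat_lit 0x0,
nat_lit 0x0,
nat_lit 0x0,
nat_lit 0x0,
nat_lit 0x0,
nat_lit 0x0,
nat_lit 0x0,
nat_lit 0x0,
nat_lit 0x0,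
nat_lit 0x0,
nat_lit 0x0,
nat_lit 0x0,
nat_lit 0x0,
nat_lit 0x0,
nat_lit 0x0,
nat_lit 0x0,
nat_lit 0x0,
nat_lit 0x0,
nat_lit 0x0,
nat_lit 0x0,
nat_lit 0x0,
nat_lit 0x0,
nat_lit 0x0,
nat_lit 0x0,
nat_lit 0x0,
nat_lit 0x0,
nat_lit 0x0,
nat_lit 0x0,
nat_lit 0x0,
nat_lit 0x0,
nat_lit 0x0,
nat_lit 0x0,
nat_lit 0x0,
nat_lit 0x0,
nat_lit 0x0,
nat_lit 0x0,
nat_lit 0x0,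
nat_lit 0x0,
nat_lit 0x0,
nat_lit 0x0,
nat_lit 0x0,
nat_lit 0x0,
nat_lit 0x0,
nat_lit 0x0,
nat_lit 0x0,
nat_lit 0x0,
nat_lit 0x0,
nat_lit 0x0,
nat_lit 0x0,
nat_lit 0x0,
nat_lit 0x0,
nat_lit 0x0,
nat_lit 0x0,
nat_lit 0x0,
nat_lit 0x0,
nat_lit 0x0,
nat_lit 0x0,
nat_lit 0x0,
nat_lit 0x0,
nat_lit 0x0,
nat_lit 0x0,
nat_lit 0x0,
nat_lit 0x0,
nat_lit 0x0,
nat_lit 0x0,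
nat_lit 0x0,
nat_lit 0x0,
nat_lit 0x0,
nat_lit 0x0,
nat_lit 0x0,
nat_lit 0x0,
nat_lit 0x0,
nat_lit 0x0,
nat_lit 0x0,
nat_lit 0x0,
nat_lit 0x0,
nat_lit 0x0,
nat_lit 0x0,
nat_lit 0x0,
nat_lit 0x0,
nat_lit 0x0,
nat_lit 0x0,
nat_lit 0x0,
nat_lit 0x0,
nat_lit 0x0,
nat_lit 0x0,
nat_lit 0x0,
nat_lit 0x0,
nat_lit 0x0,
nat_lit 0x0,
nat_lit 0x0,
nat_lit 0x0,
nat_lit 0x0,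
nat_lit 0x0,
nat_lit 0x0,
nat_lit 0x0,
nat_lit 0x0,
nat_lit 0x0,
nat_lit 0x0,
nat_lit 0x0,
nat_lit 0x0,
nat_lit 0x0,
nat_lit 0x0,
nat_lit 0x0,
nat_lit 0x0,
nat_lit 0x0,
nat_lit 0x0,
nat_lit 0x0,
nat_lit 0x0,
nat_lit 0x0,
nat_lit 0x0,
nat_lit 0x0,
nat_lit 0x0,
nat_lit 0x0,
nat_lit 0x0,
nat_lit 0x0,
nat_lit 0x0,
nat_lit 0x0,
nat_lit 0x0,
nat_lit 0x0,
nat_lit 0x0,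
nat_lit 0x0,
nat_lit 0x0,
nat_lit 0x0,
nat_lit 0x0,
nat_lit 0x0,
nat_lit 0x0,
nat_lit 0x0,
nat_lit 0x0,
nat_lit 0x0,
nat_lit 0x0,
nat_lit 0x0,
nat_lit 0x0,
nat_lit 0x0,
nat_lit 0x0,
nat_lit 0x0,
nat_lit 0x0,
nat_lit 0x0,
nat_lit 0x0,
nat_lit 0x0,
nat_lit 0x0,
nat_lit 0x0,
nat_lit 0x0,
nat_lit 0x0,
nat_lit 0x0,
nat_lit 0x0,
nat_lit 0x0,
nat_lit 0x0,
nat_lit 0x0,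
nat_lit 0x0,
nat_lit 0x0,
nat_lit 0x0,
nat_lit 0x0,
nat_lit 0x0,
nat_lit 0x0,
nat_lit 0x0,
nat_lit 0x0,
nat_lit 0x0,
nat_lit 0x0,
nat_lit 0x0,
nat_lit 0x0,
nat_lit 0x0,
nat_lit 0x0,
nat_lit 0x0,
nat_lit 0x0,
nat_lit 0x0,
nat_lit 0x0,
nat_lit 0x0,
nat_lit 0x0,
nat_lit 0x0,
nat_lit 0x0,
nat_lit 0x0,
nat_lit 0x0,
nat_lit 0x0,
nat_lit 0x0,
nat_lit 0x0]

theorem ok12500 : checkFacts facts ip words 256 subs 18473 items12500 12500 = true := by decide +kernel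

theorem len12500 : Nat.beq items12500.length 500 = true := by decide +kernel

noncomputable def items13000 : List ℕ := [
nat_lit 0x0,
nat_lit 0x0,
nat_lit 0x0,
nat_lit 0x0,
nat_lit 0x0,
nat_lit 0x0,
nat_lit 0x0,
nat_lit 0x0,
nat_lit 0x0,
nat_lit 0x0,
nat_lit 0x0,
nat_lit 0x0,
nat_lit 0x0,
nat_lit 0x0,
nat_lit 0x0,
nat_lit 0x0,
nat_lit 0x0,
nat_lit 0x0,
nat_lit 0x0,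
nat_lit 0x0,
nat_lit 0x0,
nat_lit 0x0,
nat_lit 0x0,
nat_lit 0x0,
nat_lit 0x0,
nat_lit 0x0,
nat_lit 0x0,
nat_lit 0x0,
nat_lit 0x0,
nat_lit 0x0,
nat_lit 0x0,
nat_lit 0x0,
nat_lit 0x0,
nat_lit 0x0,
nat_lit 0x0,
nat_lit 0x0,
nat_lit 0x0,
nat_lit 0x0,
nat_lit 0x0,
nat_lit 0x0,
nat_lit 0x0,
nat_lit 0x0,
nat_lit 0x0,
nat_lit 0x0,
nat_lit 0x0,
nat_lit 0x0,
nat_lit 0x0,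
nat_lit 0x0,
nat_lit 0x0,
nat_lit 0x0,
nat_lit 0x0,
nat_lit 0x0,
nat_lit 0x0,
nat_lit 0x0,
nat_lit 0x0,
nat_lit 0x0,
nat_lit 0x0,
nat_lit 0x0,
nat_lit 0x0,
nat_lit 0x0,
nat_lit 0x0,
nat_lit 0x0,
nat_lit 0x0,
nat_lit 0x0,
nat_lit 0x0,
nat_lit 0x0,
nat_lit 0x0,
nat_lit 0x0,
nat_lit 0x0,
nat_lit 0x0,
nat_lit 0x0,
nat_lit 0x0,
nat_lit 0x0,
nat_lit 0x0,
nat_lit 0x0,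
nat_lit 0x0,
nat_lit 0x0,
nat_lit 0x0,
nat_lit 0x0,
nat_lit 0x0,
nat_lit 0x0,
nat_lit 0x0,
nat_lit 0x0,
nat_lit 0x0,
nat_lit 0x0,
nat_lit 0x0,
nat_lit 0x0,
nat_lit 0x0,
nat_lit 0x0,
nat_lit 0x0,
nat_lit 0x0,
nat_lit 0x0,
nat_lit 0x0,
nat_lit 0x0,
nat_lit 0x0,
nat_lit 0x0,
nat_lit 0x0,
nat_lit 0x0,
nat_lit 0x0,
nat_lit 0x0,
nat_lit 0x0,
nat_lit 0x0,
nat_lit 0x0,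
nat_lit 0x0,
nat_lit 0x0,
nat_lit 0x0,
nat_lit 0x0,
nat_lit 0x0,
nat_lit 0x0,
nat_lit 0x0,
nat_lit 0x0,
nat_lit 0x0,
nat_lit 0x0,
nat_lit 0x0,
nat_lit 0x0,
nat_lit 0x0,
nat_lit 0x0,
nat_lit 0x0,
nat_lit 0x0,
nat_lit 0x0,
nat_lit 0x0,
nat_lit 0x0,
nat_lit 0x0,
nat_lit 0x0,
nat_lit 0x0,
nat_lit 0x0,
nat_lit 0x0,
nat_lit 0x0,
nat_lit 0x0,
nat_lit 0x0,
nat_lit 0x0,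
nat_lit 0x0,
nat_lit 0x0,
nat_lit 0x0,
nat_lit 0x0,
nat_lit 0x0,
nat_lit 0x0,
nat_lit 0x0,
nat_lit 0x0,
nat_lit 0x0,
nat_lit 0x0,
nat_lit 0x0,
nat_lit 0x0,
nat_lit 0x0,
nat_lit 0x0,
nat_lit 0x0,
nat_lit 0x0,
nat_lit 0x0,
nat_lit 0x0,
nat_lit 0x0,
nat_lit 0x0,
nat_lit 0x0,
nat_lit 0x0,
nat_lit 0x0,
nat_lit 0x0,
nat_lit 0x0,
nat_lit 0x0,
nat_lit 0x0,
nat_lit 0x0,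
nat_lit 0x0,
nat_lit 0x0,
nat_lit 0x0,
nat_lit 0x0,
nat_lit 0x0,
nat_lit 0x0,
nat_lit 0x0,
nat_lit 0x0,
nat_lit 0x0,
nat_lit 0x0,
nat_lit 0x0,
nat_lit 0x0,
nat_lit 0x0,
nat_lit 0x0,
nat_lit 0x0,
nat_lit 0x0,
nat_lit 0x0,
nat_lit 0x0,
nat_lit 0x0,
nat_lit 0x0,
nat_lit 0x0,
nat_lit 0x0,
nat_lit 0x0,
nat_lit 0x0,
nat_lit 0x0,
nat_lit 0x0,
nat_lit 0x0,
nat_lit 0x0,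
nat_lit 0x0,
nat_lit 0x0,
nat_lit 0x0,
nat_lit 0x0,
nat_lit 0x0,
nat_lit 0x0,
nat_lit 0x0,
nat_lit 0x0,
nat_lit 0x0,
nat_lit 0x0,
nat_lit 0x0,
nat_lit 0x0,
nat_lit 0x0,
nat_lit 0x0,
nat_lit 0x0,
nat_lit 0x0,
nat_lit 0x0,
nat_lit 0x0,
nat_lit 0x0,
nat_lit 0x0,
nat_lit 0x0,
nat_lit 0x0,
nat_lit 0x0,
nat_lit 0x0,
nat_lit 0x0,
nat_lit 0x0,
nat_lit 0x0,
nat_lit 0x0,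
nat_lit 0x0,
nat_lit 0x0,
nat_lit 0x0,
nat_lit 0x0,
nat_lit 0x0,
nat_lit 0x0,
nat_lit 0x0,
nat_lit 0x0,
nat_lit 0x0,
nat_lit 0x0,
nat_lit 0x0,
nat_lit 0x0,
nat_lit 0x0,
nat_lit 0x0,
nat_lit 0x0,
nat_lit 0x0,
nat_lit 0x0,
nat_lit 0x0,
nat_lit 0x0,
nat_lit 0x0,
nat_lit 0x0,
nat_lit 0x0,
nat_lit 0x0,
nat_lit 0x0,
nat_lit 0x0,
nat_lit 0x0,
nat_lit 0x0,
nat_lit 0x0,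
nat_lit 0x0,
nat_lit 0x0,
nat_lit 0x0,
nat_lit 0x0,
nat_lit 0x0,
nat_lit 0x0,
nat_lit 0x0,
nat_lit 0x0,
nat_lit 0x0,
nat_lit 0x0,
nat_lit 0x0,
nat_lit 0x0,
nat_lit 0x0,
nat_lit 0x0,
nat_lit 0x0,
nat_lit 0x0,
nat_lit 0x0,
nat_lit 0x0,
nat_lit 0x0,
nat_lit 0x0,
nat_lit 0x0,
nat_lit 0x0,
nat_lit 0x0,
nat_lit 0x0,
nat_lit 0x0,
nat_lit 0x0,
nat_lit 0x0,
nat_lit 0x0,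
nat_lit 0x0,
nat_lit 0x0,
nat_lit 0x0,
nat_lit 0x0,
nat_lit 0x0,
nat_lit 0x0,
nat_lit 0x0,
nat_lit 0x0,
nat_lit 0x0,
nat_lit 0x0,
nat_lit 0x0,
nat_lit 0x0,
nat_lit 0x0,
nat_lit 0x0,
nat_lit 0x0,
nat_lit 0x0,
nat_lit 0x0,
nat_lit 0x0,
nat_lit 0x0,
nat_lit 0x0,
nat_lit 0x0,
nat_lit 0x0,
nat_lit 0x0,
nat_lit 0x0,
nat_lit 0x0,
nat_lit 0x0,
nat_lit 0x0,
nat_lit 0x0,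
nat_lit 0x0,
nat_lit 0x0,
nat_lit 0x0,
nat_lit 0x0,
nat_lit 0x0,
nat_lit 0x0,
nat_lit 0x0,
nat_lit 0x0,
nat_lit 0x0,
nat_lit 0x0,
nat_lit 0x0,
nat_lit 0x0,
nat_lit 0x0,
nat_lit 0x0,
nat_lit 0x0,
nat_lit 0x0,
nat_lit 0x0,
nat_lit 0x0,
nat_lit 0x0,
nat_lit 0x0,
nat_lit 0x0,
nat_lit 0x0,
nat_lit 0x0,
nat_lit 0x0,
nat_lit 0x0,
nat_lit 0x0,
nat_lit 0x0,
nat_lit 0x0,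
nat_lit 0x0,
nat_lit 0x0,
nat_lit 0x0,
nat_lit 0x0,
nat_lit 0x0,
nat_lit 0x0,
nat_lit 0x0,
nat_lit 0x0,
nat_lit 0x0,
nat_lit 0x0,
nat_lit 0x0,
nat_lit 0x0,
nat_lit 0x0,
nat_lit 0x0,
nat_lit 0x0,
nat_lit 0x0,
nat_lit 0x0,
nat_lit 0x0,
nat_lit 0x0,
nat_lit 0x0,
nat_lit 0x0,
nat_lit 0x0,
nat_lit 0x0,
nat_lit 0x0,
nat_lit 0x0,
nat_lit 0x0,
nat_lit 0x0,
nat_lit 0x0,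
nat_lit 0x0,
nat_lit 0x0,
nat_lit 0x0,
nat_lit 0x0,
nat_lit 0x0,
nat_lit 0x0,
nat_lit 0x0,
nat_lit 0x0,
nat_lit 0x0,
nat_lit 0x0,
nat_lit 0x0,
nat_lit 0x0,
nat_lit 0x0,
nat_lit 0x0,
nat_lit 0x0,
nat_lit 0x0,
nat_lit 0x0,
nat_lit 0x0,
nat_lit 0x0,
nat_lit 0x0,
nat_lit 0x0,
nat_lit 0x0,
nat_lit 0x0,
nat_lit 0x0,
nat_lit 0x0,
nat_lit 0x0,
nat_lit 0x0,
nat_lit 0x0,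
nat_lit 0x0,
nat_lit 0x0,
nat_lit 0x0,
nat_lit 0x0,
nat_lit 0x0,
nat_lit 0x0,
nat_lit 0x0,
nat_lit 0x0,
nat_lit 0x0,
nat_lit 0x0,
nat_lit 0x0,
nat_lit 0x0,
nat_lit 0x0,
nat_lit 0x0,
nat_lit 0x0,
nat_lit 0x0,
nat_lit 0x0,
nat_lit 0x0,
nat_lit 0x0,
nat_lit 0x0,
nat_lit 0x0,
nat_lit 0x0,
nat_lit 0x0,
nat_lit 0x0,
nat_lit 0x0,
nat_lit 0x0,
nat_lit 0x0,
nat_lit 0x0,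
nat_lit 0x0,
nat_lit 0x0,
nat_lit 0x0,
nat_lit 0x0,
nat_lit 0x0,
nat_lit 0x0,
nat_lit 0x0,
nat_lit 0x0,
nat_lit 0x0,
nat_lit 0x0,
nat_lit 0x0,
nat_lit 0x0,
nat_lit 0x0,
nat_lit 0x0,
nat_lit 0x0,
nat_lit 0x0,
nat_lit 0x0,
nat_lit 0x0,
nat_lit 0x0,
nat_lit 0x0,
nat_lit 0x0,
nat_lit 0x0,
nat_lit 0x0,
nat_lit 0x0,
nat_lit 0x0,
nat_lit 0x0,
nat_lit 0x0,
nat_lit 0x0,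
nat_lit 0x0,
nat_lit 0x0,
nat_lit 0x0,
nat_lit 0x0,
nat_lit 0x0,
nat_lit 0x0,
nat_lit 0x0,
nat_lit 0x0,
nat_lit 0x0,
nat_lit 0x0,
nat_lit 0x0,
nat_lit 0x0,
nat_lit 0x0,
nat_lit 0x0,
nat_lit 0x0,
nat_lit 0x0,
nat_lit 0x0,
nat_lit 0x0,
nat_lit 0x0,
nat_lit 0x0,
nat_lit 0x0,
nat_lit 0x0,
nat_lit 0x0,
nat_lit 0x0,
nat_lit 0x0,
nat_lit 0x0,
nat_lit 0x0,
nat_lit 0x0,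
nat_lit 0x0,
nat_lit 0x0,
nat_lit 0x0,
nat_lit 0x0,
nat_lit 0x0,
nat_lit 0x0,
nat_lit 0x0,
nat_lit 0x0,
nat_lit 0x0,
nat_lit 0x0,
nat_lit 0x0,
nat_lit 0x0,
nat_lit 0x0,
nat_lit 0x0,
nat_lit 0x0,
nat_lit 0x0,
nat_lit 0x0,
nat_lit 0x0,
nat_lit 0x0,
nat_lit 0x0,
nat_lit 0x0,
nat_lit 0x0,
nat_lit 0x0,
nat_lit 0x0,
nat_lit 0x0,
nat_lit 0x0,
nat_lit 0x0,
nat_lit 0x0,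
nat_lit 0x0,
nat_lit 0x0,
nat_lit 0x0,
nat_lit 0x0,
nat_lit 0x0]

theorem ok13000 : checkFacts facts ip words 256 subs 18473 items13000 13000 = true := by decide +kernel

theorem len13000 : Nat.beq items13000.length 500 = true := by decide +kernel

noncomputable def items13500 : List ℕ := [
nat_lit 0x0,
nat_lit 0x0,
nat_lit 0x0,
nat_lit 0x0,
nat_lit 0x0,
nat_lit 0x0,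
nat_lit 0x0,
nat_lit 0x0,
nat_lit 0x0,
nat_lit 0x0,
nat_lit 0x0,
nat_lit 0x0,
nat_lit 0x0,
nat_lit 0x0,
nat_lit 0x0,
nat_lit 0x0,
nat_lit 0x0,
nat_lit 0x0,
nat_lit 0x0,
nat_lit 0x0,
nat_lit 0x0,
nat_lit 0x0,
nat_lit 0x0,
nat_lit 0x0,
nat_lit 0x0,
nat_lit 0x0,
nat_lit 0x0,
nat_lit 0x0,
nat_lit 0x0,
nat_lit 0x0,
nat_lit 0x0,
nat_lit 0x0,
nat_lit 0x0,
nat_lit 0x0,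
nat_lit 0x0,
nat_lit 0x0,
nat_lit 0x0,
nat_lit 0x0,
nat_lit 0x0,
nat_lit 0x0,
nat_lit 0x0,
nat_lit 0x0,
nat_lit 0x0,
nat_lit 0x0,
nat_lit 0x0,
nat_lit 0x0,
nat_lit 0x0,
nat_lit 0x0,
nat_lit 0x0,
nat_lit 0x0,
nat_lit 0x0,
nat_lit 0x0,
nat_lit 0x0,
nat_lit 0x0,
nat_lit 0x0,
nat_lit 0x0,
nat_lit 0x0,
nat_lit 0x0,
nat_lit 0x0,
nat_lit 0x0,
nat_lit 0x0,
nat_lit 0x0,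
nat_lit 0x0,
nat_lit 0x0,
nat_lit 0x0,
nat_lit 0x0,
nat_lit 0x0,
nat_lit 0x0,
nat_lit 0x0,
nat_lit 0x0,
nat_lit 0x0,
nat_lit 0x0,
nat_lit 0x0,
nat_lit 0x0,
nat_lit 0x0,
nat_lit 0x0,
nat_lit 0x0,
nat_lit 0x0,
nat_lit 0x0,
nat_lit 0x0,
nat_lit 0x0,
nat_lit 0x0,
nat_lit 0x0,
nat_lit 0x0,
nat_lit 0x0,
nat_lit 0x0,
nat_lit 0x0,
nat_lit 0x0,
nat_lit 0x0,
nat_lit 0x0,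
nat_lit 0x0,
nat_lit 0x0,
nat_lit 0x0,
nat_lit 0x0,
nat_lit 0x0,
nat_lit 0x0,
nat_lit 0x0,
nat_lit 0x0,
nat_lit 0x0,
nat_lit 0x0,
nat_lit 0x0,
nat_lit 0x0,
nat_lit 0x0,
nat_lit 0x0,
nat_lit 0x0,
nat_lit 0x0,
nat_lit 0x0,
nat_lit 0x0,
nat_lit 0x0,
nat_lit 0x0,
nat_lit 0x0,
nat_lit 0x0,
nat_lit 0x0,
nat_lit 0x0,
nat_lit 0x0,
nat_lit 0x0,
nat_lit 0x0,
nat_lit 0x0,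
nat_lit 0x0,
nat_lit 0x0,
nat_lit 0x0,
nat_lit 0x0,
nat_lit 0x0,
nat_lit 0x0,
nat_lit 0x0,
nat_lit 0x0,
nat_lit 0x0,
nat_lit 0x0,
nat_lit 0x0,
nat_lit 0x0,
nat_lit 0x0,
nat_lit 0x0,
nat_lit 0x0,
nat_lit 0x0,
nat_lit 0x0,
nat_lit 0x0,
nat_lit 0x0,
nat_lit 0x0,
nat_lit 0x0,
nat_lit 0x0,
nat_lit 0x0,
nat_lit 0x0,
nat_lit 0x0,
nat_lit 0x0,
nat_lit 0x0,
nat_lit 0x0,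
nat_lit 0x0,
nat_lit 0x0,
nat_lit 0x0,
nat_lit 0x0,
nat_lit 0x0,
nat_lit 0x0,
nat_lit 0x0,
nat_lit 0x0,
nat_lit 0x0,
nat_lit 0x0,
nat_lit 0x0,
nat_lit 0x0,
nat_lit 0x0,
nat_lit 0x0,
nat_lit 0x0,
nat_lit 0x0,
nat_lit 0x0,
nat_lit 0x0,
nat_lit 0x0,
nat_lit 0x0,
nat_lit 0x0,
nat_lit 0x0,
nat_lit 0x0,
nat_lit 0x0,
nat_lit 0x0,
nat_lit 0x0,
nat_lit 0x0,
nat_lit 0x0,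
nat_lit 0x0,
nat_lit 0x0,
nat_lit 0x0,
nat_lit 0x0,
nat_lit 0x0,
nat_lit 0x0,
nat_lit 0x0,
nat_lit 0x0,
nat_lit 0x0,
nat_lit 0x0,
nat_lit 0x0,
nat_lit 0x0,
nat_lit 0x0,
nat_lit 0x0,
nat_lit 0x0,
nat_lit 0x0,
nat_lit 0x0,
nat_lit 0x0,
nat_lit 0x0,
nat_lit 0x0,
nat_lit 0x0,
nat_lit 0x0,
nat_lit 0x0,
nat_lit 0x0,
nat_lit 0x0,
nat_lit 0x0,
nat_lit 0x0,
nat_lit 0x0,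
nat_lit 0x0,
nat_lit 0x0,
nat_lit 0x0,
nat_lit 0x0,
nat_lit 0x0,
nat_lit 0x0,
nat_lit 0x0,
nat_lit 0x0,
nat_lit 0x0,
nat_lit 0x0,
nat_lit 0x0,
nat_lit 0x0,
nat_lit 0x0,
nat_lit 0x0,
nat_lit 0x0,
nat_lit 0x0,
nat_lit 0x0,
nat_lit 0x0,
nat_lit 0x0,
nat_lit 0x0,
nat_lit 0x0,
nat_lit 0x0,
nat_lit 0x0,
nat_lit 0x0,
nat_lit 0x0,
nat_lit 0x0,
nat_lit 0x0,
nat_lit 0x0,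
nat_lit 0x0,
nat_lit 0x0,
nat_lit 0x0,
nat_lit 0x0,
nat_lit 0x0,
nat_lit 0x0,
nat_lit 0x0,
nat_lit 0x0,
nat_lit 0x0,
nat_lit 0x0,
nat_lit 0x0,
nat_lit 0x0,
nat_lit 0x0,
nat_lit 0x0,
nat_lit 0x0,
nat_lit 0x0,
nat_lit 0x0,
nat_lit 0x0,
nat_lit 0x0,
nat_lit 0x0,
nat_lit 0x0,
nat_lit 0x0,
nat_lit 0x0,
nat_lit 0x0,
nat_lit 0x0,
nat_lit 0x0,
nat_lit 0x0,
nat_lit 0x0,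
nat_lit 0x0,
nat_lit 0x0,
nat_lit 0x0,
nat_lit 0x0,
nat_lit 0x0,
nat_lit 0x0,
nat_lit 0x0,
nat_lit 0x0,
nat_lit 0x0,
nat_lit 0x0,
nat_lit 0x0,
nat_lit 0x0,
nat_lit 0x0,
nat_lit 0x0,
nat_lit 0x0,
nat_lit 0x0,
nat_lit 0x0,
nat_lit 0x0,
nat_lit 0x0,
nat_lit 0x0,
nat_lit 0x0,
nat_lit 0x0,
nat_lit 0x0,
nat_lit 0x0,
nat_lit 0x0,
nat_lit 0x0,
nat_lit 0x0,
nat_lit 0x0,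
nat_lit 0x0,
nat_lit 0x0,
nat_lit 0x0,
nat_lit 0x0,
nat_lit 0x0,
nat_lit 0x0,
nat_lit 0x0,
nat_lit 0x0,
nat_lit 0x0,
nat_lit 0x0,
nat_lit 0x0,
nat_lit 0x0,
nat_lit 0x0,
nat_lit 0x0,
nat_lit 0x0,
nat_lit 0x0,
nat_lit 0x0,
nat_lit 0x0,
nat_lit 0x0,
nat_lit 0x0,
nat_lit 0x0,
nat_lit 0x0,
nat_lit 0x0,
nat_lit 0x0,
nat_lit 0x0,
nat_lit 0x0,
nat_lit 0x0,
nat_lit 0x0,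
nat_lit 0x0,
nat_lit 0x0,
nat_lit 0x0,
nat_lit 0x0,
nat_lit 0x0,
nat_lit 0x0,
nat_lit 0x0,
nat_lit 0x0,
nat_lit 0x0,
nat_lit 0x0,
nat_lit 0x0,
nat_lit 0x0,
nat_lit 0x0,
nat_lit 0x0,
nat_lit 0x0,
nat_lit 0x0,
nat_lit 0x0,
nat_lit 0x0,
nat_lit 0x0,
nat_lit 0x0,
nat_lit 0x0,
nat_lit 0x0,
nat_lit 0x0,
nat_lit 0x0,
nat_lit 0x0,
nat_lit 0x0,
nat_lit 0x0,
nat_lit 0x0,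
nat_lit 0x0,
nat_lit 0x0,
nat_lit 0x0,
nat_lit 0x0,
nat_lit 0x0,
nat_lit 0x0,
nat_lit 0x0,
nat_lit 0x0,
nat_lit 0x0,
nat_lit 0x0,
nat_lit 0x0,
nat_lit 0x0,
nat_lit 0x0,
nat_lit 0x0,
nat_lit 0x0,
nat_lit 0x0,
nat_lit 0x0,
nat_lit 0x0,
nat_lit 0x0,
nat_lit 0x0,
nat_lit 0x0,
nat_lit 0x0,
nat_lit 0x0,
nat_lit 0x0,
nat_lit 0x0,
nat_lit 0x0,
nat_lit 0x0,
nat_lit 0x0,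
nat_lit 0x0,
nat_lit 0x0,
nat_lit 0x0,
nat_lit 0x0,
nat_lit 0x0,
nat_lit 0x0,
nat_lit 0x0,
nat_lit 0x0,
nat_lit 0x0,
nat_lit 0x0,
nat_lit 0x0,
nat_lit 0x0,
nat_lit 0x0,
nat_lit 0x0,
nat_lit 0x0,
nat_lit 0x0,
nat_lit 0x0,
nat_lit 0x0,
nat_lit 0x0,
nat_lit 0x0,
nat_lit 0x0,
nat_lit 0x0,
nat_lit 0x0,
nat_lit 0x0,
nat_lit 0x0,
nat_lit 0x0,
nat_lit 0x0,
nat_lit 0x0,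
nat_lit 0x0,
nat_lit 0x0,
nat_lit 0x0,
nat_lit 0x0,
nat_lit 0x0,
nat_lit 0x0,
nat_lit 0x0,
nat_lit 0x0,
nat_lit 0x0,
nat_lit 0x0,
nat_lit 0x0,
nat_lit 0x0,
nat_lit 0x0,
nat_lit 0x0,
nat_lit 0x0,
nat_lit 0x0,
nat_lit 0x0,
nat_lit 0x0,
nat_lit 0x0,
nat_lit 0x0,
nat_lit 0x0,
nat_lit 0x0,
nat_lit 0x0,
nat_lit 0x0,
nat_lit 0x0,
nat_lit 0x0,
nat_lit 0x0,
nat_lit 0x0,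
nat_lit 0x0,
nat_lit 0x0,
nat_lit 0x0,
nat_lit 0x0,
nat_lit 0x0,
nat_lit 0x0,
nat_lit 0x0,
nat_lit 0x0,
nat_lit 0x0,
nat_lit 0x0,
nat_lit 0x0,
nat_lit 0x0,
nat_lit 0x0,
nat_lit 0x0,
nat_lit 0x0,
nat_lit 0x0,
nat_lit 0x0,
nat_lit 0x0,
nat_lit 0x0,
nat_lit 0x0,
nat_lit 0x0,
nat_lit 0x0,
nat_lit 0x0,
nat_lit 0x0,
nat_lit 0x0,
nat_lit 0x0,
nat_lit 0x0,
nat_lit 0x0,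
nat_lit 0x0,
nat_lit 0x0,
nat_lit 0x0,
nat_lit 0x0,
nat_lit 0x0,
nat_lit 0x0,
nat_lit 0x0,
nat_lit 0x0,
nat_lit 0x0,
nat_lit 0x0,
nat_lit 0x0,
nat_lit 0x0,
nat_lit 0x0,
nat_lit 0x0,
nat_lit 0x0,
nat_lit 0x0,
nat_lit 0x0,
nat_lit 0x0,
nat_lit 0x0,
nat_lit 0x0,
nat_lit 0x0,
nat_lit 0x0,
nat_lit 0x0,
nat_lit 0x0,
nat_lit 0x0,
nat_lit 0x0,
nat_lit 0x0,
nat_lit 0x0,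
nat_lit 0x0,
nat_lit 0x0,
nat_lit 0x0,
nat_lit 0x0,
nat_lit 0x0,
nat_lit 0x0,
nat_lit 0x0,
nat_lit 0x0,
nat_lit 0x0,
nat_lit 0x0,
nat_lit 0x0,
nat_lit 0x0,
nat_lit 0x0,
nat_lit 0x0,
nat_lit 0x0,
nat_lit 0x0,
nat_lit 0x0,
nat_lit 0x0]

theorem ok13500 : checkFacts facts ip words 256 subs 18473 items13500 13500 = true := by decide +kernel

theorem len13500 : Nat.beq items13500.length 500 = true := by decide +kernel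

noncomputable def items14000 : List ℕ := [
nat_lit 0x0,
nat_lit 0x0,
nat_lit 0x0,
nat_lit 0x0,
nat_lit 0x0,
nat_lit 0x0,
nat_lit 0x0,
nat_lit 0x0,
nat_lit 0x0,
nat_lit 0x0,
nat_lit 0x0,
nat_lit 0x0,
nat_lit 0x0,
nat_lit 0x0,
nat_lit 0x0,
nat_lit 0x0,
nat_lit 0x0,
nat_lit 0x0,
nat_lit 0x0,
nat_lit 0x0,
nat_lit 0x0,
nat_lit 0x0,
nat_lit 0x0,
nat_lit 0x0,
nat_lit 0x0,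
nat_lit 0x0,
nat_lit 0x0,
nat_lit 0x0,
nat_lit 0x0,
nat_lit 0x0,
nat_lit 0x0,
nat_lit 0x0,
nat_lit 0x0,
nat_lit 0x0,
nat_lit 0x0,
nat_lit 0x0,
nat_lit 0x0,
nat_lit 0x0,
nat_lit 0x0,
nat_lit 0x0,
nat_lit 0x0,
nat_lit 0x0,
nat_lit 0x0,
nat_lit 0x0,
nat_lit 0x0,
nat_lit 0x0,
nat_lit 0x0,
nat_lit 0x0,
nat_lit 0x0,
nat_lit 0x0,
nat_lit 0x0,
nat_lit 0x0,
nat_lit 0x0,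
nat_lit 0x0,
nat_lit 0x0,
nat_lit 0x0,
nat_lit 0x0,
nat_lit 0x0,
nat_lit 0x0,
nat_lit 0x0,
nat_lit 0x0,
nat_lit 0x0,
nat_lit 0x0,
nat_lit 0x0,
nat_lit 0x0,
nat_lit 0x0,
nat_lit 0x0,
nat_lit 0x0,
nat_lit 0x0,
nat_lit 0x0,
nat_lit 0x0,
nat_lit 0x0,
nat_lit 0x0,
nat_lit 0x0,
nat_lit 0x0,
nat_lit 0x0,
nat_lit 0x0,
nat_lit 0x0,
nat_lit 0x0,
nat_lit 0x0,
nat_lit 0x0,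
nat_lit 0x0,
nat_lit 0x0,
nat_lit 0x0,
nat_lit 0x0,
nat_lit 0x0,
nat_lit 0x0,
nat_lit 0x0,
nat_lit 0x0,
nat_lit 0x0,
nat_lit 0x0,
nat_lit 0x0,
nat_lit 0x0,
nat_lit 0x0,
nat_lit 0x0,
nat_lit 0x0,
nat_lit 0x0,
nat_lit 0x0,
nat_lit 0x0,
nat_lit 0x0,
nat_lit 0x0,
nat_lit 0x0,
nat_lit 0x0,
nat_lit 0x0,
nat_lit 0x0,
nat_lit 0x0,
nat_lit 0x0,
nat_lit 0x0,
nat_lit 0x0,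
nat_lit 0x0,
nat_lit 0x0,
nat_lit 0x0,
nat_lit 0x0,
nat_lit 0x0,
nat_lit 0x0,
nat_lit 0x0,
nat_lit 0x0,
nat_lit 0x0,
nat_lit 0x0,
nat_lit 0x0,
nat_lit 0x0,
nat_lit 0x0,
nat_lit 0x0,
nat_lit 0x0,
nat_lit 0x0,
nat_lit 0x0,
nat_lit 0x0,
nat_lit 0x0,
nat_lit 0x0,
nat_lit 0x0,
nat_lit 0x0,
nat_lit 0x0,
nat_lit 0x0,
nat_lit 0x0,
nat_lit 0x0,
nat_lit 0x0,
nat_lit 0x0,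
nat_lit 0x0,
nat_lit 0x0,
nat_lit 0x0,
nat_lit 0x0,
nat_lit 0x0,
nat_lit 0x0,
nat_lit 0x0,
nat_lit 0x0,
nat_lit 0x0,
nat_lit 0x0,
nat_lit 0x0,
nat_lit 0x0,
nat_lit 0x0,
nat_lit 0x0,
nat_lit 0x0,
nat_lit 0x0,
nat_lit 0x0,
nat_lit 0x0,
nat_lit 0x0,
nat_lit 0x0,
nat_lit 0x0,
nat_lit 0x0,
nat_lit 0x0,
nat_lit 0x0,
nat_lit 0x0,
nat_lit 0x0,
nat_lit 0x0,
nat_lit 0x0,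
nat_lit 0x0,
nat_lit 0x0,
nat_lit 0x0,
nat_lit 0x0,
nat_lit 0x0,
nat_lit 0x0,
nat_lit 0x0,
nat_lit 0x0,
nat_lit 0x0,
nat_lit 0x0,
nat_lit 0x0,
nat_lit 0x0,
nat_lit 0x0,
nat_lit 0x0,
nat_lit 0x0,
nat_lit 0x0,
nat_lit 0x0,
nat_lit 0x0,
nat_lit 0x0,
nat_lit 0x0,
nat_lit 0x0,
nat_lit 0x0,
nat_lit 0x0,
nat_lit 0x0,
nat_lit 0x0,
nat_lit 0x0,
nat_lit 0x0,
nat_lit 0x0,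
nat_lit 0x0,
nat_lit 0x0,
nat_lit 0x0,
nat_lit 0x0,
nat_lit 0x0,
nat_lit 0x0,
nat_lit 0x0,
nat_lit 0x0,
nat_lit 0x0,
nat_lit 0x0,
nat_lit 0x0,
nat_lit 0x0,
nat_lit 0x0,
nat_lit 0x0,
nat_lit 0x0,
nat_lit 0x0,
nat_lit 0x0,
nat_lit 0x0,
nat_lit 0x0,
nat_lit 0x0,
nat_lit 0x0,
nat_lit 0x0,
nat_lit 0x0,
nat_lit 0x0,
nat_lit 0x0,
nat_lit 0x0,
nat_lit 0x0,
nat_lit 0x0,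
nat_lit 0x0,
nat_lit 0x0,
nat_lit 0x0,
nat_lit 0x0,
nat_lit 0x0,
nat_lit 0x0,
nat_lit 0x0,
nat_lit 0x0,
nat_lit 0x0,
nat_lit 0x0,
nat_lit 0x0,
nat_lit 0x0,
nat_lit 0x0,
nat_lit 0x0,
nat_lit 0x0,
nat_lit 0x0,
nat_lit 0x0,
nat_lit 0x0,
nat_lit 0x0,
nat_lit 0x0,
nat_lit 0x0,
nat_lit 0x0,
nat_lit 0x0,
nat_lit 0x0,
nat_lit 0x0,
nat_lit 0x0,
nat_lit 0x0,
nat_lit 0x0,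
nat_lit 0x0,
nat_lit 0x0,
nat_lit 0x0,
nat_lit 0x0,
nat_lit 0x0,
nat_lit 0x0,
nat_lit 0x0,
nat_lit 0x0,
nat_lit 0x0,
nat_lit 0x0,
nat_lit 0x0,
nat_lit 0x0,
nat_lit 0x0,
nat_lit 0x0,
nat_lit 0x0,
nat_lit 0x0,
nat_lit 0x0,
nat_lit 0x0,
nat_lit 0x0,
nat_lit 0x0,
nat_lit 0x0,
nat_lit 0x0,
nat_lit 0x0,
nat_lit 0x0,
nat_lit 0x0,
nat_lit 0x0,
nat_lit 0x0,
nat_lit 0x0,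
nat_lit 0x0,
nat_lit 0x0,
nat_lit 0x0,
nat_lit 0x0,
nat_lit 0x0,
nat_lit 0x0,
nat_lit 0x0,
nat_lit 0x0,
nat_lit 0x0,
nat_lit 0x0,
nat_lit 0x0,
nat_lit 0x0,
nat_lit 0x0,
nat_lit 0x0,
nat_lit 0x0,
nat_lit 0x0,
nat_lit 0x0,
nat_lit 0x0,
nat_lit 0x0,
nat_lit 0x0,
nat_lit 0x0,
nat_lit 0x0,
nat_lit 0x0,
nat_lit 0x0,
nat_lit 0x0,
nat_lit 0x0,
nat_lit 0x0,
nat_lit 0x0,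
nat_lit 0x0,
nat_lit 0x0,
nat_lit 0x0,
nat_lit 0x0,
nat_lit 0x0,
nat_lit 0x0,
nat_lit 0x0,
nat_lit 0x0,
nat_lit 0x0,
nat_lit 0x0,
nat_lit 0x0,
nat_lit 0x0,
nat_lit 0x0,
nat_lit 0x0,
nat_lit 0x0,
nat_lit 0x0,
nat_lit 0x0,
nat_lit 0x0,
nat_lit 0x0,
nat_lit 0x0,
nat_lit 0x0,
nat_lit 0x0,
nat_lit 0x0,
nat_lit 0x0,
nat_lit 0x0,
nat_lit 0x0,
nat_lit 0x0,
nat_lit 0x0,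
nat_lit 0x0,
nat_lit 0x0,
nat_lit 0x0,
nat_lit 0x0,
nat_lit 0x0,
nat_lit 0x0,
nat_lit 0x0,
nat_lit 0x0,
nat_lit 0x0,
nat_lit 0x0,
nat_lit 0x0,
nat_lit 0x0,
nat_lit 0x0,
nat_lit 0x0,
nat_lit 0x0,
nat_lit 0x0,
nat_lit 0x0,
nat_lit 0x0,
nat_lit 0x0,
nat_lit 0x0,
nat_lit 0x0,
nat_lit 0x0,
nat_lit 0x0,
nat_lit 0x0,
nat_lit 0x0,
nat_lit 0x0,
nat_lit 0x0,
nat_lit 0x0,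
nat_lit 0x0,
nat_lit 0x0,
nat_lit 0x0,
nat_lit 0x0,
nat_lit 0x0,
nat_lit 0x0,
nat_lit 0x0,
nat_lit 0x0,
nat_lit 0x0,
nat_lit 0x0,
nat_lit 0x0,
nat_lit 0x0,
nat_lit 0x0,
nat_lit 0x0,
nat_lit 0x0,
nat_lit 0x0,
nat_lit 0x0,
nat_lit 0x0,
nat_lit 0x0,
nat_lit 0x0,
nat_lit 0x0,
nat_lit 0x0,
nat_lit 0x0,
nat_lit 0x0,
nat_lit 0x0,
nat_lit 0x0,
nat_lit 0x0,
nat_lit 0x0,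
nat_lit 0x0,
nat_lit 0x0,
nat_lit 0x0,
nat_lit 0x0,
nat_lit 0x0,
nat_lit 0x0,
nat_lit 0x0,
nat_lit 0x0,
nat_lit 0x0,
nat_lit 0x0,
nat_lit 0x0,
nat_lit 0x0,
nat_lit 0x0,
nat_lit 0x0,
nat_lit 0x0,
nat_lit 0x0,
nat_lit 0x0,
nat_lit 0x0,
nat_lit 0x0,
nat_lit 0x0,
nat_lit 0x0,
nat_lit 0x0,
nat_lit 0x0,
nat_lit 0x0,
nat_lit 0x0,
nat_lit 0x0,
nat_lit 0x0,
nat_lit 0x0,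
nat_lit 0x0,
nat_lit 0x0,
nat_lit 0x0,
nat_lit 0x0,
nat_lit 0x0,
nat_lit 0x0,
nat_lit 0x0,
nat_lit 0x0,
nat_lit 0x0,
nat_lit 0x0,
nat_lit 0x0,
nat_lit 0x0,
nat_lit 0x0,
nat_lit 0x0,
nat_lit 0x0,
nat_lit 0x0,
nat_lit 0x0,
nat_lit 0x0,
nat_lit 0x0,
nat_lit 0x0,
nat_lit 0x0,
nat_lit 0x0,
nat_lit 0x0,
nat_lit 0x0,
nat_lit 0x0,
nat_lit 0x0,
nat_lit 0x0,
nat_lit 0x0,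
nat_lit 0x0,
nat_lit 0x0,
nat_lit 0x0,
nat_lit 0x0,
nat_lit 0x0,
nat_lit 0x0,
nat_lit 0x0,
nat_lit 0x0,
nat_lit 0x0,
nat_lit 0x0,
nat_lit 0x0,
nat_lit 0x0,
nat_lit 0x0,
nat_lit 0x0,
nat_lit 0x0,
nat_lit 0x0,
nat_lit 0x0,
nat_lit 0x0,
nat_lit 0x0,
nat_lit 0x0,
nat_lit 0x0,
nat_lit 0x0,
nat_lit 0x0,
nat_lit 0x0,
nat_lit 0x0,
nat_lit 0x0,
nat_lit 0x0,
nat_lit 0x0,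
nat_lit 0x0,
nat_lit 0x0,
nat_lit 0x0,
nat_lit 0x0,
nat_lit 0x0,
nat_lit 0x0,
nat_lit 0x0,
nat_lit 0x0,
nat_lit 0x0,
nat_lit 0x0,
nat_lit 0x0,
nat_lit 0x0,
nat_lit 0x0,
nat_lit 0x0,
nat_lit 0x0,
nat_lit 0x0,
nat_lit 0x0,
nat_lit 0x0,
nat_lit 0x0,
nat_lit 0x0,
nat_lit 0x0,
nat_lit 0x0,
nat_lit 0x0,
nat_lit 0x0,
nat_lit 0x0,
nat_lit 0x0,
nat_lit 0x0]

theorem ok14000 : checkFacts facts ip words 256 subs 18473 items14000 14000 = true := by decide +kernel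

theorem len14000 : Nat.beq items14000.length 500 = true := by decide +kernel

noncomputable def items14500 : List ℕ := [
nat_lit 0x0,
nat_lit 0x0,
nat_lit 0x0,
nat_lit 0x0,
nat_lit 0x0,
nat_lit 0x0,
nat_lit 0x0,
nat_lit 0x0,
nat_lit 0x0,
nat_lit 0x0,
nat_lit 0x0,
nat_lit 0x0,
nat_lit 0x0,
nat_lit 0x0,
nat_lit 0x0,
nat_lit 0x0,
nat_lit 0x0,
nat_lit 0x0,
nat_lit 0x0,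
nat_lit 0x0,
nat_lit 0x0,
nat_lit 0x0,
nat_lit 0x0,
nat_lit 0x0,
nat_lit 0x0,
nat_lit 0x0,
nat_lit 0x0,
nat_lit 0x0,
nat_lit 0x0,
nat_lit 0x0,
nat_lit 0x0,
nat_lit 0x0,
nat_lit 0x0,
nat_lit 0x0,
nat_lit 0x0,
nat_lit 0x0,
nat_lit 0x0,
nat_lit 0x0,
nat_lit 0x0,
nat_lit 0x0,
nat_lit 0x0,
nat_lit 0x0,
nat_lit 0x0,
nat_lit 0x0,
nat_lit 0x0,
nat_lit 0x0,
nat_lit 0x0,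
nat_lit 0x0,
nat_lit 0x0,
nat_lit 0x0,
nat_lit 0x0,
nat_lit 0x0,
nat_lit 0x0,
nat_lit 0x0,
nat_lit 0x0,
nat_lit 0x0,
nat_lit 0x0,
nat_lit 0x0,
nat_lit 0x0,
nat_lit 0x0,
nat_lit 0x0,
nat_lit 0x0,
nat_lit 0x0,
nat_lit 0x0,
nat_lit 0x0,
nat_lit 0x0,
nat_lit 0x0,
nat_lit 0x0,
nat_lit 0x0,
nat_lit 0x0,
nat_lit 0x0,
nat_lit 0x0,
nat_lit 0x0,
nat_lit 0x0,
nat_lit 0x0,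
nat_lit 0x0,
nat_lit 0x0,
nat_lit 0x0,
nat_lit 0x0,
nat_lit 0x0,
nat_lit 0x0,
nat_lit 0x0,
nat_lit 0x0,
nat_lit 0x0,
nat_lit 0x0,
nat_lit 0x0,
nat_lit 0x0,
nat_lit 0x0,
nat_lit 0x0,
nat_lit 0x0,
nat_lit 0x0,
nat_lit 0x0,
nat_lit 0x0,
nat_lit 0x0,
nat_lit 0x0,
nat_lit 0x0,
nat_lit 0x0,
nat_lit 0x0,
nat_lit 0x0,
nat_lit 0x0,
nat_lit 0x0,
nat_lit 0x0,
nat_lit 0x0,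
nat_lit 0x0,
nat_lit 0x0,
nat_lit 0x0,
nat_lit 0x0,
nat_lit 0x0,
nat_lit 0x0,
nat_lit 0x0,
nat_lit 0x0,
nat_lit 0x0,
nat_lit 0x0,
nat_lit 0x0,
nat_lit 0x0,
nat_lit 0x0,
nat_lit 0x0,
nat_lit 0x0,
nat_lit 0x0,
nat_lit 0x0,
nat_lit 0x0,
nat_lit 0x0,
nat_lit 0x0,
nat_lit 0x0,
nat_lit 0x0,
nat_lit 0x0,
nat_lit 0x0,
nat_lit 0x0,
nat_lit 0x0,
nat_lit 0x0,
nat_lit 0x0,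
nat_lit 0x0,
nat_lit 0x0,
nat_lit 0x0,
nat_lit 0x0,
nat_lit 0x0,
nat_lit 0x0,
nat_lit 0x0,
nat_lit 0x0,
nat_lit 0x0,
nat_lit 0x0,
nat_lit 0x0,
nat_lit 0x0,
nat_lit 0x0,
nat_lit 0x0,
nat_lit 0x0,
nat_lit 0x0,
nat_lit 0x0,
nat_lit 0x0,
nat_lit 0x0,
nat_lit 0x0,
nat_lit 0x0,
nat_lit 0x0,
nat_lit 0x0,
nat_lit 0x0,
nat_lit 0x0,
nat_lit 0x0,
nat_lit 0x0,
nat_lit 0x0,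
nat_lit 0x0,
nat_lit 0x0,
nat_lit 0x0,
nat_lit 0x0,
nat_lit 0x0,
nat_lit 0x0,
nat_lit 0x0,
nat_lit 0x0,
nat_lit 0x0,
nat_lit 0x0,
nat_lit 0x0,
nat_lit 0x0,
nat_lit 0x0,
nat_lit 0x0,
nat_lit 0x0,
nat_lit 0x0,
nat_lit 0x0,
nat_lit 0x0,
nat_lit 0x0,
nat_lit 0x0,
nat_lit 0x0,
nat_lit 0x0,
nat_lit 0x0,
nat_lit 0x0,
nat_lit 0x0,
nat_lit 0x0,
nat_lit 0x0,
nat_lit 0x0,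
nat_lit 0x0,
nat_lit 0x0,
nat_lit 0x0,
nat_lit 0x0,
nat_lit 0x0,
nat_lit 0x0,
nat_lit 0x0,
nat_lit 0x0,
nat_lit 0x0,
nat_lit 0x0,
nat_lit 0x0,
nat_lit 0x0,
nat_lit 0x0,
nat_lit 0x0,
nat_lit 0x0,
nat_lit 0x0,
nat_lit 0x0,
nat_lit 0x0,
nat_lit 0x0,
nat_lit 0x0,
nat_lit 0x0,
nat_lit 0x0,
nat_lit 0x0,
nat_lit 0x0,
nat_lit 0x0,
nat_lit 0x0,
nat_lit 0x0,
nat_lit 0x0,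
nat_lit 0x0,
nat_lit 0x0,
nat_lit 0x0,
nat_lit 0x0,
nat_lit 0x0,
nat_lit 0x0,
nat_lit 0x0,
nat_lit 0x0,
nat_lit 0x0,
nat_lit 0x0,
nat_lit 0x0,
nat_lit 0x0,
nat_lit 0x0,
nat_lit 0x0,
nat_lit 0x0,
nat_lit 0x0,
nat_lit 0x0,
nat_lit 0x0,
nat_lit 0x0,
nat_lit 0x0,
nat_lit 0x0,
nat_lit 0x0,
nat_lit 0x0,
nat_lit 0x0,
nat_lit 0x0,
nat_lit 0x0,
nat_lit 0x0,
nat_lit 0x0,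
nat_lit 0x0,
nat_lit 0x0,
nat_lit 0x0,
nat_lit 0x0,
nat_lit 0x0,
nat_lit 0x0,
nat_lit 0x0,
nat_lit 0x0,
nat_lit 0x0,
nat_lit 0x0,
nat_lit 0x0,
nat_lit 0x0,
nat_lit 0x0,
nat_lit 0x0,
nat_lit 0x0,
nat_lit 0x0,
nat_lit 0x0,
nat_lit 0x0,
nat_lit 0x0,
nat_lit 0x0,
nat_lit 0x0,
nat_lit 0x0,
nat_lit 0x0,
nat_lit 0x0,
nat_lit 0x0,
nat_lit 0x0,
nat_lit 0x0,
nat_lit 0x0,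
nat_lit 0x0,
nat_lit 0x0,
nat_lit 0x0,
nat_lit 0x0,
nat_lit 0x0,
nat_lit 0x0,
nat_lit 0x0,
nat_lit 0x0,
nat_lit 0x0,
nat_lit 0x0,
nat_lit 0x0,
nat_lit 0x0,
nat_lit 0x0,
nat_lit 0x0,
nat_lit 0x0,
nat_lit 0x0,
nat_lit 0x0,
nat_lit 0x0,
nat_lit 0x0,
nat_lit 0x0,
nat_lit 0x0,
nat_lit 0x0,
nat_lit 0x0,
nat_lit 0x0,
nat_lit 0x0,
nat_lit 0x0,
nat_lit 0x0,
nat_lit 0x0,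
nat_lit 0x0,
nat_lit 0x0,
nat_lit 0x0,
nat_lit 0x0,
nat_lit 0x0,
nat_lit 0x0,
nat_lit 0x0,
nat_lit 0x0,
nat_lit 0x0,
nat_lit 0x0,
nat_lit 0x0,
nat_lit 0x0,
nat_lit 0x0,
nat_lit 0x0,
nat_lit 0x0,
nat_lit 0x0,
nat_lit 0x0,
nat_lit 0x0,
nat_lit 0x0,
nat_lit 0x0,
nat_lit 0x0,
nat_lit 0x0,
nat_lit 0x0,
nat_lit 0x0,
nat_lit 0x0,
nat_lit 0x0,
nat_lit 0x0,
nat_lit 0x0,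
nat_lit 0x0,
nat_lit 0x0,
nat_lit 0x0,
nat_lit 0x0,
nat_lit 0x0,
nat_lit 0x0,
nat_lit 0x0,
nat_lit 0x0,
nat_lit 0x0,
nat_lit 0x0,
nat_lit 0x0,
nat_lit 0x0,
nat_lit 0x0,
nat_lit 0x0,
nat_lit 0x0,
nat_lit 0x0,
nat_lit 0x0,
nat_lit 0x0,
nat_lit 0x0,
nat_lit 0x0,
nat_lit 0x0,
nat_lit 0x0,
nat_lit 0x0,
nat_lit 0x0,
nat_lit 0x0,
nat_lit 0x0,
nat_lit 0x0,
nat_lit 0x0,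
nat_lit 0x0,
nat_lit 0x0,
nat_lit 0x0,
nat_lit 0x0,
nat_lit 0x0,
nat_lit 0x0,
nat_lit 0x0,
nat_lit 0x0,
nat_lit 0x0,
nat_lit 0x0,
nat_lit 0x0,
nat_lit 0x0,
nat_lit 0x0,
nat_lit 0x0,
nat_lit 0x0,
nat_lit 0x0,
nat_lit 0x0,
nat_lit 0x0,
nat_lit 0x0,
nat_lit 0x0,
nat_lit 0x0,
nat_lit 0x0,
nat_lit 0x0,
nat_lit 0x0,
nat_lit 0x0,
nat_lit 0x0,
nat_lit 0x0,
nat_lit 0x0,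
nat_lit 0x0,
nat_lit 0x0,
nat_lit 0x0,
nat_lit 0x0,
nat_lit 0x0,
nat_lit 0x0,
nat_lit 0x0,
nat_lit 0x0,
nat_lit 0x0,
nat_lit 0x0,
nat_lit 0x0,
nat_lit 0x0,
nat_lit 0x0,
nat_lit 0x0,
nat_lit 0x0,
nat_lit 0x0,
nat_lit 0x0,
nat_lit 0x0,
nat_lit 0x0,
nat_lit 0x0,
nat_lit 0x0,
nat_lit 0x0,
nat_lit 0x0,
nat_lit 0x0,
nat_lit 0x0,
nat_lit 0x0,
nat_lit 0x0,
nat_lit 0x0,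
nat_lit 0x0,
nat_lit 0x0,
nat_lit 0x0,
nat_lit 0x0,
nat_lit 0x0,
nat_lit 0x0,
nat_lit 0x0,
nat_lit 0x0,
nat_lit 0x0,
nat_lit 0x0,
nat_lit 0x0,
nat_lit 0x0,
nat_lit 0x0,
nat_lit 0x0,
nat_lit 0x0,
nat_lit 0x0,
nat_lit 0x0,
nat_lit 0x0,
nat_lit 0x0,
nat_lit 0x0,
nat_lit 0x0,
nat_lit 0x0,
nat_lit 0x0,
nat_lit 0x0,
nat_lit 0x0,
nat_lit 0x0,
nat_lit 0x0,
nat_lit 0x0,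
nat_lit 0x0,
nat_lit 0x0,
nat_lit 0x0,
nat_lit 0x0,
nat_lit 0x0,
nat_lit 0x0,
nat_lit 0x0,
nat_lit 0x0,
nat_lit 0x0,
nat_lit 0x0,
nat_lit 0x0,
nat_lit 0x0,
nat_lit 0x0,
nat_lit 0x0,
nat_lit 0x0,
nat_lit 0x0,
nat_lit 0x0,
nat_lit 0x0,
nat_lit 0x0,
nat_lit 0x0,
nat_lit 0x0,
nat_lit 0x0,
nat_lit 0x0,
nat_lit 0x0,
nat_lit 0x0,
nat_lit 0x0,
nat_lit 0x0,
nat_lit 0x0,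
nat_lit 0x0,
nat_lit 0x0,
nat_lit 0x0,
nat_lit 0x0,
nat_lit 0x0,
nat_lit 0x0,
nat_lit 0x0,
nat_lit 0x0,
nat_lit 0x0,
nat_lit 0x0,
nat_lit 0x0,
nat_lit 0x0,
nat_lit 0x0,
nat_lit 0x0,
nat_lit 0x0,
nat_lit 0x0,
nat_lit 0x0,
nat_lit 0x0,
nat_lit 0x0,
nat_lit 0x0,
nat_lit 0x0,
nat_lit 0x0,
nat_lit 0x0,
nat_lit 0x0,
nat_lit 0x0,
nat_lit 0x0,
nat_lit 0x0,
nat_lit 0x0,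
nat_lit 0x0,
nat_lit 0x0,
nat_lit 0x0,
nat_lit 0x0,
nat_lit 0x0]

theorem ok14500 : checkFacts facts ip words 256 subs 18473 items14500 14500 = true := by decide +kernel

theorem len14500 : Nat.beq items14500.length 500 = true := by decide +kernel

noncomputable def items15000 : List ℕ := [
nat_lit 0x0,
nat_lit 0x0,
nat_lit 0x0,
nat_lit 0x0,
nat_lit 0x0,
nat_lit 0x0,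
nat_lit 0x0,
nat_lit 0x0,
nat_lit 0x0,
nat_lit 0x0,
nat_lit 0x0,
nat_lit 0x0,
nat_lit 0x0,
nat_lit 0x0,
nat_lit 0x0,
nat_lit 0x0,
nat_lit 0x0,
nat_lit 0x0,
nat_lit 0x0,
nat_lit 0x0,
nat_lit 0x0,
nat_lit 0x0,
nat_lit 0x0,
nat_lit 0x0,
nat_lit 0x0,
nat_lit 0x0,
nat_lit 0x0,
nat_lit 0x0,
nat_lit 0x0,
nat_lit 0x0,
nat_lit 0x0,
nat_lit 0x0,
nat_lit 0x0,
nat_lit 0x0,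
nat_lit 0x0,
nat_lit 0x0,
nat_lit 0x0,
nat_lit 0x0,
nat_lit 0x0,
nat_lit 0x0,
nat_lit 0x0,
nat_lit 0x0,
nat_lit 0x0,
nat_lit 0x0,
nat_lit 0x0,
nat_lit 0x0,
nat_lit 0x0,
nat_lit 0x0,
nat_lit 0x0,
nat_lit 0x0,
nat_lit 0x0,
nat_lit 0x0,
nat_lit 0x0,
nat_lit 0x0,
nat_lit 0x0,
nat_lit 0x0,
nat_lit 0x0,
nat_lit 0x0,
nat_lit 0x0,
nat_lit 0x0,
nat_lit 0x0,
nat_lit 0x0,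
nat_lit 0x0,
nat_lit 0x0,
nat_lit 0x0,
nat_lit 0x0,
nat_lit 0x0,
nat_lit 0x0,
nat_lit 0x0,
nat_lit 0x0,
nat_lit 0x0,
nat_lit 0x0,
nat_lit 0x0,
nat_lit 0x0,
nat_lit 0x0,
nat_lit 0x0,
nat_lit 0x0,
nat_lit 0x0,
nat_lit 0x0,
nat_lit 0x0,
nat_lit 0x0,
nat_lit 0x0,
nat_lit 0x0,
nat_lit 0x0,
nat_lit 0x0,
nat_lit 0x0,
nat_lit 0x0,
nat_lit 0x0,
nat_lit 0x0,
nat_lit 0x0,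
nat_lit 0x0,
nat_lit 0x0,
nat_lit 0x0,
nat_lit 0x0,
nat_lit 0x0,
nat_lit 0x0,
nat_lit 0x0,
nat_lit 0x0,
nat_lit 0x0,
nat_lit 0x0,
nat_lit 0x0,
nat_lit 0x0,
nat_lit 0x0,
nat_lit 0x0,
nat_lit 0x0,
nat_lit 0x0,
nat_lit 0x0,
nat_lit 0x0,
nat_lit 0x0,
nat_lit 0x0,
nat_lit 0x0,
nat_lit 0x0,
nat_lit 0x0,
nat_lit 0x0,
nat_lit 0x0,
nat_lit 0x0,
nat_lit 0x0,
nat_lit 0x0,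
nat_lit 0x0,
nat_lit 0x0,
nat_lit 0x0,
nat_lit 0x0,
nat_lit 0x0,
nat_lit 0x0,
nat_lit 0x0,
nat_lit 0x0,
nat_lit 0x0,
nat_lit 0x0,
nat_lit 0x0,
nat_lit 0x0,
nat_lit 0x0,
nat_lit 0x0,
nat_lit 0x0,
nat_lit 0x0,
nat_lit 0x0,
nat_lit 0x0,
nat_lit 0x0,
nat_lit 0x0,
nat_lit 0x0,
nat_lit 0x0,
nat_lit 0x0,
nat_lit 0x0,
nat_lit 0x0,
nat_lit 0x0,
nat_lit 0x0,
nat_lit 0x0,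
nat_lit 0x0,
nat_lit 0x0,
nat_lit 0x0,
nat_lit 0x0,
nat_lit 0x0,
nat_lit 0x0,
nat_lit 0x0,
nat_lit 0x0,
nat_lit 0x0,
nat_lit 0x0,
nat_lit 0x0,
nat_lit 0x0,
nat_lit 0x0,
nat_lit 0x0,
nat_lit 0x0,
nat_lit 0x0,
nat_lit 0x0,
nat_lit 0x0,
nat_lit 0x0,
nat_lit 0x0,
nat_lit 0x0,
nat_lit 0x0,
nat_lit 0x0,
nat_lit 0x0,
nat_lit 0x0,
nat_lit 0x0,
nat_lit 0x0,
nat_lit 0x0,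
nat_lit 0x0,
nat_lit 0x0,
nat_lit 0x0,
nat_lit 0x0,
nat_lit 0x0,
nat_lit 0x0,
nat_lit 0x0,
nat_lit 0x0,
nat_lit 0x0,
nat_lit 0x0,
nat_lit 0x0,
nat_lit 0x0,
nat_lit 0x0,
nat_lit 0x0,
nat_lit 0x0,
nat_lit 0x0,
nat_lit 0x0,
nat_lit 0x0,
nat_lit 0x0,
nat_lit 0x0,
nat_lit 0x0,
nat_lit 0x0,
nat_lit 0x0,
nat_lit 0x0,
nat_lit 0x0,
nat_lit 0x0,
nat_lit 0x0,
nat_lit 0x0,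
nat_lit 0x0,
nat_lit 0x0,
nat_lit 0x0,
nat_lit 0x0,
nat_lit 0x0,
nat_lit 0x0,
nat_lit 0x0,
nat_lit 0x0,
nat_lit 0x0,
nat_lit 0x0,
nat_lit 0x0,
nat_lit 0x0,
nat_lit 0x0,
nat_lit 0x0,
nat_lit 0x0,
nat_lit 0x0,
nat_lit 0x0,
nat_lit 0x0,
nat_lit 0x0,
nat_lit 0x0,
nat_lit 0x0,
nat_lit 0x0,
nat_lit 0x0,
nat_lit 0x0,
nat_lit 0x0,
nat_lit 0x0,
nat_lit 0x0,
nat_lit 0x0,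
nat_lit 0x0,
nat_lit 0x0,
nat_lit 0x0,
nat_lit 0x0,
nat_lit 0x0,
nat_lit 0x0,
nat_lit 0x0,
nat_lit 0x0,
nat_lit 0x0,
nat_lit 0x0,
nat_lit 0x0,
nat_lit 0x0,
nat_lit 0x0,
nat_lit 0x0,
nat_lit 0x0,
nat_lit 0x0,
nat_lit 0x0,
nat_lit 0x0,
nat_lit 0x0,
nat_lit 0x0,
nat_lit 0x0,
nat_lit 0x0,
nat_lit 0x0,
nat_lit 0x0,
nat_lit 0x0,
nat_lit 0x0,
nat_lit 0x0,
nat_lit 0x0,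
nat_lit 0x0,
nat_lit 0x0,
nat_lit 0x0,
nat_lit 0x0,
nat_lit 0x0,
nat_lit 0x0,
nat_lit 0x0,
nat_lit 0x0,
nat_lit 0x0,
nat_lit 0x0,
nat_lit 0x0,
nat_lit 0x0,
nat_lit 0x0,
nat_lit 0x0,
nat_lit 0x0,
nat_lit 0x0,
nat_lit 0x0,
nat_lit 0x0,
nat_lit 0x0,
nat_lit 0x0,
nat_lit 0x0,
nat_lit 0x0,
nat_lit 0x0,
nat_lit 0x0,
nat_lit 0x0,
nat_lit 0x0,
nat_lit 0x0,
nat_lit 0x0,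
nat_lit 0x0,
nat_lit 0x0,
nat_lit 0x0,
nat_lit 0x0,
nat_lit 0x0,
nat_lit 0x0,
nat_lit 0x0,
nat_lit 0x0,
nat_lit 0x0,
nat_lit 0x0,
nat_lit 0x0,
nat_lit 0x0,
nat_lit 0x0,
nat_lit 0x0,
nat_lit 0x0,
nat_lit 0x0,
nat_lit 0x0,
nat_lit 0x0,
nat_lit 0x0,
nat_lit 0x0,
nat_lit 0x0,
nat_lit 0x0,
nat_lit 0x0,
nat_lit 0x0,
nat_lit 0x0,
nat_lit 0x0,
nat_lit 0x0,
nat_lit 0x0,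
nat_lit 0x0,
nat_lit 0x0,
nat_lit 0x0,
nat_lit 0x0,
nat_lit 0x0,
nat_lit 0x0,
nat_lit 0x0,
nat_lit 0x0,
nat_lit 0x0,
nat_lit 0x0,
nat_lit 0x0,
nat_lit 0x0,
nat_lit 0x0,
nat_lit 0x0,
nat_lit 0x0,
nat_lit 0x0,
nat_lit 0x0,
nat_lit 0x0,
nat_lit 0x0,
nat_lit 0x0,
nat_lit 0x0,
nat_lit 0x0,
nat_lit 0x0,
nat_lit 0x0,
nat_lit 0x0,
nat_lit 0x0,
nat_lit 0x0,
nat_lit 0x0,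
nat_lit 0x0,
nat_lit 0x0,
nat_lit 0x0,
nat_lit 0x0,
nat_lit 0x0,
nat_lit 0x0,
nat_lit 0x0,
nat_lit 0x0,
nat_lit 0x0,
nat_lit 0x0,
nat_lit 0x0,
nat_lit 0x0,
nat_lit 0x0,
nat_lit 0x0,
nat_lit 0x0,
nat_lit 0x0,
nat_lit 0x0,
nat_lit 0x0,
nat_lit 0x0,
nat_lit 0x0,
nat_lit 0x0,
nat_lit 0x0,
nat_lit 0x0,
nat_lit 0x0,
nat_lit 0x0,
nat_lit 0x0,
nat_lit 0x0,
nat_lit 0x0,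
nat_lit 0x0,
nat_lit 0x0,
nat_lit 0x0,
nat_lit 0x0,
nat_lit 0x0,
nat_lit 0x0,
nat_lit 0x0,
nat_lit 0x0,
nat_lit 0x0,
nat_lit 0x0,
nat_lit 0x0,
nat_lit 0x0,
nat_lit 0x0,
nat_lit 0x0,
nat_lit 0x0,
nat_lit 0x0,
nat_lit 0x0,
nat_lit 0x0,
nat_lit 0x0,
nat_lit 0x0,
nat_lit 0x0,
nat_lit 0x0,
nat_lit 0x0,
nat_lit 0x0,
nat_lit 0x0,
nat_lit 0x0,
nat_lit 0x0,
nat_lit 0x0,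
nat_lit 0x0,
nat_lit 0x0,
nat_lit 0x0,
nat_lit 0x0,
nat_lit 0x0,
nat_lit 0x0,
nat_lit 0x0,
nat_lit 0x0,
nat_lit 0x0,
nat_lit 0x0,
nat_lit 0x0,
nat_lit 0x0,
nat_lit 0x0,
nat_lit 0x0,
nat_lit 0x0,
nat_lit 0x0,
nat_lit 0x0,
nat_lit 0x0,
nat_lit 0x0,
nat_lit 0x0,
nat_lit 0x0,
nat_lit 0x0,
nat_lit 0x0,
nat_lit 0x0,
nat_lit 0x0,
nat_lit 0x0,
nat_lit 0x0,
nat_lit 0x0,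
nat_lit 0x0,
nat_lit 0x0,
nat_lit 0x0,
nat_lit 0x0,
nat_lit 0x0,
nat_lit 0x0,
nat_lit 0x0,
nat_lit 0x0,
nat_lit 0x0,
nat_lit 0x0,
nat_lit 0x0,
nat_lit 0x0,
nat_lit 0x0,
nat_lit 0x0,
nat_lit 0x0,
nat_lit 0x0,
nat_lit 0x0,
nat_lit 0x0,
nat_lit 0x0,
nat_lit 0x0,
nat_lit 0x0,
nat_lit 0x0,
nat_lit 0x0,
nat_lit 0x0,
nat_lit 0x0,
nat_lit 0x0,
nat_lit 0x0,
nat_lit 0x0,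
nat_lit 0x0,
nat_lit 0x0,
nat_lit 0x0,
nat_lit 0x0,
nat_lit 0x0,
nat_lit 0x0,
nat_lit 0x0,
nat_lit 0x0,
nat_lit 0x0,
nat_lit 0x0,
nat_lit 0x0,
nat_lit 0x0,
nat_lit 0x0,
nat_lit 0x0,
nat_lit 0x0,
nat_lit 0x0,
nat_lit 0x0,
nat_lit 0x0,
nat_lit 0x0,
nat_lit 0x0,
nat_lit 0x0,
nat_lit 0x0,
nat_lit 0x0,
nat_lit 0x0,
nat_lit 0x0,
nat_lit 0x0,
nat_lit 0x0,
nat_lit 0x0,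
nat_lit 0x0,
nat_lit 0x0,
nat_lit 0x0,
nat_lit 0x0,
nat_lit 0x0,
nat_lit 0x0,
nat_lit 0x0,
nat_lit 0x0,
nat_lit 0x0,
nat_lit 0x0,
nat_lit 0x0,
nat_lit 0x0,
nat_lit 0x0,
nat_lit 0x0,
nat_lit 0x0,
nat_lit 0x0,
nat_lit 0x0,
nat_lit 0x0]

theorem ok15000 : checkFacts facts ip words 256 subs 18473 items15000 15000 = true := by decide +kernel

theorem len15000 : Nat.beq items15000.length 500 = true := by decide +kernel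

noncomputable def items15500 : List ℕ := [
nat_lit 0x0,
nat_lit 0x0,
nat_lit 0x0,
nat_lit 0x0,
nat_lit 0x0,
nat_lit 0x0,
nat_lit 0x0,
nat_lit 0x0,
nat_lit 0x0,
nat_lit 0x0,
nat_lit 0x0,
nat_lit 0x0,
nat_lit 0x0,
nat_lit 0x0,
nat_lit 0x0,
nat_lit 0x0,
nat_lit 0x0,
nat_lit 0x0,
nat_lit 0x0,
nat_lit 0x0,
nat_lit 0x0,
nat_lit 0x0,
nat_lit 0x0,
nat_lit 0x0,
nat_lit 0x0,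
nat_lit 0x0,
nat_lit 0x0,
nat_lit 0x0,
nat_lit 0x0,
nat_lit 0x0,
nat_lit 0x0,
nat_lit 0x0,
nat_lit 0x0,
nat_lit 0x0,
nat_lit 0x0,
nat_lit 0x0,
nat_lit 0x0,
nat_lit 0x0,
nat_lit 0x0,
nat_lit 0x0,
nat_lit 0x0,
nat_lit 0x0,
nat_lit 0x0,
nat_lit 0x0,
nat_lit 0x0,
nat_lit 0x0,
nat_lit 0x0,
nat_lit 0x0,
nat_lit 0x0,
nat_lit 0x0,
nat_lit 0x0,
nat_lit 0x0,
nat_lit 0x0,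
nat_lit 0x0,
nat_lit 0x0,
nat_lit 0x0,
nat_lit 0x0,
nat_lit 0x0,
nat_lit 0x0,
nat_lit 0x0,
nat_lit 0x0,
nat_lit 0x0,
nat_lit 0x0,
nat_lit 0x0,
nat_lit 0x0,
nat_lit 0x0,
nat_lit 0x0,
nat_lit 0x0,
nat_lit 0x0,
nat_lit 0x0,
nat_lit 0x0,
nat_lit 0x0,
nat_lit 0x0,
nat_lit 0x0,
nat_lit 0x0,
nat_lit 0x0,
nat_lit 0x0,
nat_lit 0x0,
nat_lit 0x0,
nat_lit 0x0,
nat_lit 0x0,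
nat_lit 0x0,
nat_lit 0x0,
nat_lit 0x0,
nat_lit 0x0,
nat_lit 0x0,
nat_lit 0x0,
nat_lit 0x0,
nat_lit 0x0,
nat_lit 0x0,
nat_lit 0x0,
nat_lit 0x0,
nat_lit 0x0,
nat_lit 0x0,
nat_lit 0x0,
nat_lit 0x0,
nat_lit 0x0,
nat_lit 0x0,
nat_lit 0x0,
nat_lit 0x0,
nat_lit 0x0,
nat_lit 0x0,
nat_lit 0x0,
nat_lit 0x0,
nat_lit 0x0,
nat_lit 0x0,
nat_lit 0x0,
nat_lit 0x0,
nat_lit 0x0,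
nat_lit 0x0,
nat_lit 0x0,
nat_lit 0x0,
nat_lit 0x0,
nat_lit 0x0,
nat_lit 0x0,
nat_lit 0x0,
nat_lit 0x0,
nat_lit 0x0,
nat_lit 0x0,
nat_lit 0x0,
nat_lit 0x0,
nat_lit 0x0,
nat_lit 0x0,
nat_lit 0x0,
nat_lit 0x0,
nat_lit 0x0,
nat_lit 0x0,
nat_lit 0x0,
nat_lit 0x0,
nat_lit 0x0,
nat_lit 0x0,
nat_lit 0x0,
nat_lit 0x0,
nat_lit 0x0,
nat_lit 0x0,
nat_lit 0x0,
nat_lit 0x0,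
nat_lit 0x0,
nat_lit 0x0,
nat_lit 0x0,
nat_lit 0x0,
nat_lit 0x0,
nat_lit 0x0,
nat_lit 0x0,
nat_lit 0x0,
nat_lit 0x0,
nat_lit 0x0,
nat_lit 0x0,
nat_lit 0x0,
nat_lit 0x0,
nat_lit 0x0,
nat_lit 0x0,
nat_lit 0x0,
nat_lit 0x0,
nat_lit 0x0,
nat_lit 0x0,
nat_lit 0x0,
nat_lit 0x0,
nat_lit 0x0,
nat_lit 0x0,
nat_lit 0x0,
nat_lit 0x0,
nat_lit 0x0,
nat_lit 0x0,
nat_lit 0x0,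
nat_lit 0x0,
nat_lit 0x0,
nat_lit 0x0,
nat_lit 0x0,
nat_lit 0x0,
nat_lit 0x0,
nat_lit 0x0,
nat_lit 0x0,
nat_lit 0x0,
nat_lit 0x0,
nat_lit 0x0,
nat_lit 0x0,
nat_lit 0x0,
nat_lit 0x0,
nat_lit 0x0,
nat_lit 0x0,
nat_lit 0x0,
nat_lit 0x0,
nat_lit 0x0,
nat_lit 0x0,
nat_lit 0x0,
nat_lit 0x0,
nat_lit 0x0,
nat_lit 0x0,
nat_lit 0x0,
nat_lit 0x0,
nat_lit 0x0,
nat_lit 0x0,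
nat_lit 0x0,
nat_lit 0x0,
nat_lit 0x0,
nat_lit 0x0,
nat_lit 0x0,
nat_lit 0x0,
nat_lit 0x0,
nat_lit 0x0,
nat_lit 0x0,
nat_lit 0x0,
nat_lit 0x0,
nat_lit 0x0,
nat_lit 0x0,
nat_lit 0x0,
nat_lit 0x0,
nat_lit 0x0,
nat_lit 0x0,
nat_lit 0x0,
nat_lit 0x0,
nat_lit 0x0,
nat_lit 0x0,
nat_lit 0x0,
nat_lit 0x0,
nat_lit 0x0,
nat_lit 0x0,
nat_lit 0x0,
nat_lit 0x0,
nat_lit 0x0,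
nat_lit 0x0,
nat_lit 0x0,
nat_lit 0x0,
nat_lit 0x0,
nat_lit 0x0,
nat_lit 0x0,
nat_lit 0x0,
nat_lit 0x0,
nat_lit 0x0,
nat_lit 0x0,
nat_lit 0x0,
nat_lit 0x0,
nat_lit 0x0,
nat_lit 0x0,
nat_lit 0x0,
nat_lit 0x0,
nat_lit 0x0,
nat_lit 0x0,
nat_lit 0x0,
nat_lit 0x0,
nat_lit 0x0,
nat_lit 0x0,
nat_lit 0x0,
nat_lit 0x0,
nat_lit 0x0,
nat_lit 0x0,
nat_lit 0x0,
nat_lit 0x0,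
nat_lit 0x0,
nat_lit 0x0,
nat_lit 0x0,
nat_lit 0x0,
nat_lit 0x0,
nat_lit 0x0,
nat_lit 0x0,
nat_lit 0x0,
nat_lit 0x0,
nat_lit 0x0,
nat_lit 0x0,
nat_lit 0x0,
nat_lit 0x0,
nat_lit 0x0,
nat_lit 0x0,
nat_lit 0x0,
nat_lit 0x0,
nat_lit 0x0,
nat_lit 0x0,
nat_lit 0x0,
nat_lit 0x0,
nat_lit 0x0,
nat_lit 0x0,
nat_lit 0x0,
nat_lit 0x0,
nat_lit 0x0,
nat_lit 0x0,
nat_lit 0x0,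
nat_lit 0x0,
nat_lit 0x0,
nat_lit 0x0,
nat_lit 0x0,
nat_lit 0x0,
nat_lit 0x0,
nat_lit 0x0,
nat_lit 0x0,
nat_lit 0x0,
nat_lit 0x0,
nat_lit 0x0,
nat_lit 0x0,
nat_lit 0x0,
nat_lit 0x0,
nat_lit 0x0,
nat_lit 0x0,
nat_lit 0x0,
nat_lit 0x0,
nat_lit 0x0,
nat_lit 0x0,
nat_lit 0x0,
nat_lit 0x0,
nat_lit 0x0,
nat_lit 0x0,
nat_lit 0x0,
nat_lit 0x0,
nat_lit 0x0,
nat_lit 0x0,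
nat_lit 0x0,
nat_lit 0x0,
nat_lit 0x0,
nat_lit 0x0,
nat_lit 0x0,
nat_lit 0x0,
nat_lit 0x0,
nat_lit 0x0,
nat_lit 0x0,
nat_lit 0x0,
nat_lit 0x0,
nat_lit 0x0,
nat_lit 0x0,
nat_lit 0x0,
nat_lit 0x0,
nat_lit 0x0,
nat_lit 0x0,
nat_lit 0x0,
nat_lit 0x0,
nat_lit 0x0,
nat_lit 0x0,
nat_lit 0x0,
nat_lit 0x0,
nat_lit 0x0,
nat_lit 0x0,
nat_lit 0x0,
nat_lit 0x0,
nat_lit 0x0,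
nat_lit 0x0,
nat_lit 0x0,
nat_lit 0x0,
nat_lit 0x0,
nat_lit 0x0,
nat_lit 0x0,
nat_lit 0x0,
nat_lit 0x0,
nat_lit 0x0,
nat_lit 0x0,
nat_lit 0x0,
nat_lit 0x0,
nat_lit 0x0,
nat_lit 0x0,
nat_lit 0x0,
nat_lit 0x0,
nat_lit 0x0,
nat_lit 0x0,
nat_lit 0x0,
nat_lit 0x0,
nat_lit 0x0,
nat_lit 0x0,
nat_lit 0x0,
nat_lit 0x0,
nat_lit 0x0,
nat_lit 0x0,
nat_lit 0x0,
nat_lit 0x0,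
nat_lit 0x0,
nat_lit 0x0,
nat_lit 0x0,
nat_lit 0x0,
nat_lit 0x0,
nat_lit 0x0,
nat_lit 0x0,
nat_lit 0x0,
nat_lit 0x0,
nat_lit 0x0,
nat_lit 0x0,
nat_lit 0x0,
nat_lit 0x0,
nat_lit 0x0,
nat_lit 0x0,
nat_lit 0x0,
nat_lit 0x0,
nat_lit 0x0,
nat_lit 0x0,
nat_lit 0x0,
nat_lit 0x0,
nat_lit 0x0,
nat_lit 0x0,
nat_lit 0x0,
nat_lit 0x0,
nat_lit 0x0,
nat_lit 0x0,
nat_lit 0x0,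
nat_lit 0x0,
nat_lit 0x0,
nat_lit 0x0,
nat_lit 0x0,
nat_lit 0x0,
nat_lit 0x0,
nat_lit 0x0,
nat_lit 0x0,
nat_lit 0x0,
nat_lit 0x0,
nat_lit 0x0,
nat_lit 0x0,
nat_lit 0x0,
nat_lit 0x0,
nat_lit 0x0,
nat_lit 0x0,
nat_lit 0x0,
nat_lit 0x0,
nat_lit 0x0,
nat_lit 0x0,
nat_lit 0x0,
nat_lit 0x0,
nat_lit 0x0,
nat_lit 0x0,
nat_lit 0x0,
nat_lit 0x0,
nat_lit 0x0,
nat_lit 0x0,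
nat_lit 0x0,
nat_lit 0x0,
nat_lit 0x0,
nat_lit 0x0,
nat_lit 0x0,
nat_lit 0x0,
nat_lit 0x0,
nat_lit 0x0,
nat_lit 0x0,
nat_lit 0x0,
nat_lit 0x0,
nat_lit 0x0,
nat_lit 0x0,
nat_lit 0x0,
nat_lit 0x0,
nat_lit 0x0,
nat_lit 0x0,
nat_lit 0x0,
nat_lit 0x0,
nat_lit 0x0,
nat_lit 0x0,
nat_lit 0x0,
nat_lit 0x0,
nat_lit 0x0,
nat_lit 0x0,
nat_lit 0x0,
nat_lit 0x0,
nat_lit 0x0,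
nat_lit 0x0,
nat_lit 0x0,
nat_lit 0x0,
nat_lit 0x0,
nat_lit 0x0,
nat_lit 0x0,
nat_lit 0x0,
nat_lit 0x0,
nat_lit 0x0,
nat_lit 0x0,
nat_lit 0x0,
nat_lit 0x0,
nat_lit 0x0,
nat_lit 0x0,
nat_lit 0x0,
nat_lit 0x0,
nat_lit 0x0,
nat_lit 0x0,
nat_lit 0x0,
nat_lit 0x0,
nat_lit 0x0,
nat_lit 0x0,
nat_lit 0x0,
nat_lit 0x0,
nat_lit 0x0,
nat_lit 0x0,
nat_lit 0x0,
nat_lit 0x0,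
nat_lit 0x0,
nat_lit 0x0,
nat_lit 0x0,
nat_lit 0x0,
nat_lit 0x0,
nat_lit 0x0,
nat_lit 0x0,
nat_lit 0x0,
nat_lit 0x0,
nat_lit 0x0,
nat_lit 0x0,
nat_lit 0x0,
nat_lit 0x0,
nat_lit 0x0,
nat_lit 0x0,
nat_lit 0x0,
nat_lit 0x0,
nat_lit 0x0,
nat_lit 0x0,
nat_lit 0x0,
nat_lit 0x0,
nat_lit 0x0,
nat_lit 0x0,
nat_lit 0x0,
nat_lit 0x0,
nat_lit 0x0,
nat_lit 0x0]

theorem ok15500 : checkFacts facts ip words 256 subs 18473 items15500 15500 = true := by decide +kernel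

theorem len15500 : Nat.beq items15500.length 500 = true := by decide +kernel

theorem part1 : ∀ j, 8000 ≤ j → j < 16000 → ∃ item, checkFact facts ip words 256 subs 18473 j item = true := by
  intro j h0 hj
  rcases Nat.lt_or_ge j 8500 with h | h
  · exact checkFacts_spec _ _ _ _ _ _ items8000 8000 ok8000 j (by omega) (by have := Nat.eq_of_beq_eq_true len8000; omega)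
  rcases Nat.lt_or_ge j 9000 with h | h
  · exact checkFacts_spec _ _ _ _ _ _ items8500 8500 ok8500 j (by omega) (by have := Nat.eq_of_beq_eq_true len8500; omega)
  rcases Nat.lt_or_ge j 9500 with h | h
  · exact checkFacts_spec _ _ _ _ _ _ items9000 9000 ok9000 j (by omega) (by have := Nat.eq_of_beq_eq_true len9000; omega)
  rcases Nat.lt_or_ge j 10000 with h | h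
  · exact checkFacts_spec _ _ _ _ _ _ items9500 9500 ok9500 j (by omega) (by have := Nat.eq_of_beq_eq_true len9500; omega)
  rcases Nat.lt_or_ge j 10500 with h | h
  · exact checkFacts_spec _ _ _ _ _ _ items10000 10000 ok10000 j (by omega) (by have := Nat.eq_of_beq_eq_true len10000; omega)
  rcases Nat.lt_or_ge j 11000 with h | h
  · exact checkFacts_spec _ _ _ _ _ _ items10500 10500 ok10500 j (by omega) (by have := Nat.eq_of_beq_eq_true len10500; omega)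
  rcases Nat.lt_or_ge j 11500 with h | h
  · exact checkFacts_spec _ _ _ _ _ _ items11000 11000 ok11000 j (by omega) (by have := Nat.eq_of_beq_eq_true len11000; omega)
  rcases Nat.lt_or_ge j 12000 with h | h
  · exact checkFacts_spec _ _ _ _ _ _ items11500 11500 ok11500 j (by omega) (by have := Nat.eq_of_beq_eq_true len11500; omega)
  rcases Nat.lt_or_ge j 12500 with h | h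
  · exact checkFacts_spec _ _ _ _ _ _ items12000 12000 ok12000 j (by omega) (by have := Nat.eq_of_beq_eq_true len12000; omega)
  rcases Nat.lt_or_ge j 13000 with h | h
  · exact checkFacts_spec _ _ _ _ _ _ items12500 12500 ok12500 j (by omega) (by have := Nat.eq_of_beq_eq_true len12500; omega)
  rcases Nat.lt_or_ge j 13500 with h | h
  · exact checkFacts_spec _ _ _ _ _ _ items13000 13000 ok13000 j (by omega) (by have := Nat.eq_of_beq_eq_true len13000; omega)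
  rcases Nat.lt_or_ge j 14000 with h | h
  · exact checkFacts_spec _ _ _ _ _ _ items13500 13500 ok13500 j (by omega) (by have := Nat.eq_of_beq_eq_true len13500; omega)
  rcases Nat.lt_or_ge j 14500 with h | h
  · exact checkFacts_spec _ _ _ _ _ _ items14000 14000 ok14000 j (by omega) (by have := Nat.eq_of_beq_eq_true len14000; omega)
  rcases Nat.lt_or_ge j 15000 with h | h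
  · exact checkFacts_spec _ _ _ _ _ _ items14500 14500 ok14500 j (by omega) (by have := Nat.eq_of_beq_eq_true len14500; omega)
  rcases Nat.lt_or_ge j 15500 with h | h
  · exact checkFacts_spec _ _ _ _ _ _ items15000 15000 ok15000 j (by omega) (by have := Nat.eq_of_beq_eq_true len15000; omega)
  rcases Nat.lt_or_ge j 16000 with h | h
  · exact checkFacts_spec _ _ _ _ _ _ items15500 15500 ok15500 j (by omega) (by have := Nat.eq_of_beq_eq_true len15500; omega)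
  omega

end CfsgLib.HNDouble.Cert
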