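import Cfsg.Agent.Lib.HNDouble.CertPart0
import Cfsg.Agent.Lib.HNDouble.CertPart1
import Cfsg.Agent.Lib.HNDouble.CertPart2
import Cfsg.Agent.Lib.HNDouble.CertPart3
import Cfsg.Agent.Lib.HNDouble.CertPart4
import Cfsg.Agent.Lib.HNDouble.CertPart5

/-! Coset enumeration of index 704: assembly. Generated file. -/

set_option autoImplicit false
set_option maxRecDepth 400000
set_option linter.all false

namespace CfsgLib.HNDouble.Cert

open CfsgLib.CosetEnum

theorem facts_ok : ∀ j < 46325, ∃ item, checkFact facts ip words 256 subs 18473 j item = true := by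
  intro j hj
  rcases Nat.lt_or_ge j 8000 with h | h
  · exact part0 j (by omega) h
  rcases Nat.lt_or_ge j 16000 with h | h
  · exact part1 j (by omega) h
  rcases Nat.lt_or_ge j 24000 with h | h
  · exact part2 j (by omega) h
  rcases Nat.lt_or_ge j 32000 with h | h
  · exact part3 j (by omega) h
  rcases Nat.lt_or_ge j 40000 with h | h
  · exact part4 j (by omega) h
  rcases Nat.lt_or_ge j 46325 with h | h
  · exact part5 j (by omega) h
  omega

theorem fits_ok : (words.fits 256 16 && listEq (words.entries 256 16) (allCodes ip 5 rels4) &&
    subs.fits 256 16 && listEq (subs.entries 256 16) (subCodes ip subWords) &&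
    Nat.beq (lives.get 20 0) 0) = true := by
  decide +kernel

theorem rows_ok : ∀ k < 704, checkRow facts ip lives entries 704 5 46325 k table 0 = true := by
  intro k hk
  exact checkRows_spec _ _ _ _ _ _ _ _ _ _ (show checkRows facts ip lives entries table 704 5 46325 704 0 = true by decide +kernel) k (by omega) (by omega)

end CfsgLib.HNDouble.Cert
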