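import Cfsg.Agent.Lib.CosetEnum.LetterCert
import Cfsg.Agent.Lib.HNDouble.CertData
import Cfsg.Agent.Lib.HNDouble.Data

/-! Coset enumeration of index 704: checks from fact 0. Generated file. -/

set_option autoImplicit false
set_option maxRecDepth 400000
set_option linter.all false

namespace CfsgLib.HNDouble.Cert

open CfsgLib.CosetEnum

noncomputable def items0 : List ℕ := [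
nat_lit 0x0,
nat_lit 0x0,
nat_lit 0x0,
nat_lit 0x0,
nat_lit 0x0,
nat_lit 0x0,
nat_lit 0x0,
nat_lit 0x0,
nat_lit 0x0,
nat_lit 0x0,
nat_lit 0x0,
nat_lit 0x0,
nat_lit 0x0,
nat_lit 0x0,
nat_lit 0x0,
nat_lit 0x0,
nat_lit 0x0,
nat_lit 0x0,
nat_lit 0x0,
nat_lit 0x0,
nat_lit 0x0,
nat_lit 0x0,
nat_lit 0x0,
nat_lit 0x0,
nat_lit 0x0,
nat_lit 0x0,
nat_lit 0x0,
nat_lit 0x0,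
nat_lit 0x0,
nat_lit 0x0,
nat_lit 0x0,
nat_lit 0x0,
nat_lit 0x0,
nat_lit 0x0,
nat_lit 0x0,
nat_lit 0x0,
nat_lit 0x0,
nat_lit 0x0,
nat_lit 0x0,
nat_lit 0x0,
nat_lit 0x0,
nat_lit 0x0,
nat_lit 0x0,
nat_lit 0x0,
nat_lit 0x0,
nat_lit 0x0,
nat_lit 0x0,
nat_lit 0x0,
nat_lit 0x0,
nat_lit 0x0,
nat_lit 0x0,
nat_lit 0x0,
nat_lit 0x0,
nat_lit 0x0,
nat_lit 0x0,
nat_lit 0x0,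
nat_lit 0x0,
nat_lit 0x0,
nat_lit 0x0,
nat_lit 0x0,
nat_lit 0x0,
nat_lit 0x0,
nat_lit 0x0,
nat_lit 0x0,
nat_lit 0x0,
nat_lit 0x0,
nat_lit 0x0,
nat_lit 0x0,
nat_lit 0x0,
nat_lit 0x0,
nat_lit 0x0,
nat_lit 0x0,
nat_lit 0x0,
nat_lit 0x0,
nat_lit 0x0,
nat_lit 0x0,
nat_lit 0x0,
nat_lit 0x0,
nat_lit 0x0,
nat_lit 0x0,
nat_lit 0x0,
nat_lit 0x0,
nat_lit 0x0,
nat_lit 0x0,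
nat_lit 0x0,
nat_lit 0x0,
nat_lit 0x0,
nat_lit 0x0,
nat_lit 0x0,
nat_lit 0x0,
nat_lit 0x0,
nat_lit 0x0,
nat_lit 0x0,
nat_lit 0x0,
nat_lit 0x0,
nat_lit 0x0,
nat_lit 0x0,
nat_lit 0x0,
nat_lit 0x0,
nat_lit 0x0,
nat_lit 0x0,
nat_lit 0x0,
nat_lit 0x0,
nat_lit 0x0,
nat_lit 0x0,
nat_lit 0x0,
nat_lit 0x0,
nat_lit 0x0,
nat_lit 0x0,
nat_lit 0x0,
nat_lit 0x0,
nat_lit 0x0,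
nat_lit 0x0,
nat_lit 0x0,
nat_lit 0x0,
nat_lit 0x0,
nat_lit 0x0,
nat_lit 0x0,
nat_lit 0x0,
nat_lit 0x0,
nat_lit 0x0,
nat_lit 0x0,
nat_lit 0x0,
nat_lit 0x0,
nat_lit 0x0,
nat_lit 0x0,
nat_lit 0x0,
nat_lit 0x0,
nat_lit 0x0,
nat_lit 0x0,
nat_lit 0x0,
nat_lit 0x0,
nat_lit 0x0,
nat_lit 0x0,
nat_lit 0x0,
nat_lit 0x0,
nat_lit 0x0,
nat_lit 0x0,
nat_lit 0x0,
nat_lit 0x0,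
nat_lit 0x0,
nat_lit 0x0,
nat_lit 0x0,
nat_lit 0x0,
nat_lit 0x0,
nat_lit 0x0,
nat_lit 0x0,
nat_lit 0x0,
nat_lit 0x0,
nat_lit 0x0,
nat_lit 0x0,
nat_lit 0x0,
nat_lit 0x0,
nat_lit 0x0,
nat_lit 0x0,
nat_lit 0x0,
nat_lit 0x0,
nat_lit 0x0,
nat_lit 0x0,
nat_lit 0x0,
nat_lit 0x0,
nat_lit 0x0,
nat_lit 0x0,
nat_lit 0x0,
nat_lit 0x0,
nat_lit 0x0,
nat_lit 0x0,
nat_lit 0x0,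
nat_lit 0x0,
nat_lit 0x0,
nat_lit 0x0,
nat_lit 0x0,
nat_lit 0x0,
nat_lit 0x0,
nat_lit 0x0,
nat_lit 0x0,
nat_lit 0x0,
nat_lit 0x0,
nat_lit 0x0,
nat_lit 0x0,
nat_lit 0x0,
nat_lit 0x0,
nat_lit 0x0,
nat_lit 0x0,
nat_lit 0x0,
nat_lit 0x0,
nat_lit 0x0,
nat_lit 0x0,
nat_lit 0x0,
nat_lit 0x0,
nat_lit 0x0,
nat_lit 0x0,
nat_lit 0x0,
nat_lit 0x0,
nat_lit 0x0,
nat_lit 0x0,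
nat_lit 0x0,
nat_lit 0x0,
nat_lit 0x0,
nat_lit 0x0,
nat_lit 0x0,
nat_lit 0x0,
nat_lit 0x0,
nat_lit 0x0,
nat_lit 0x0,
nat_lit 0x0,
nat_lit 0x0,
nat_lit 0x0,
nat_lit 0x0,
nat_lit 0x0,
nat_lit 0x0,
nat_lit 0x0,
nat_lit 0x0,
nat_lit 0x0,
nat_lit 0x0,
nat_lit 0x0,
nat_lit 0x0,
nat_lit 0x0,
nat_lit 0x0,
nat_lit 0x0,
nat_lit 0x0,
nat_lit 0x0,
nat_lit 0x0,
nat_lit 0x0,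
nat_lit 0x0,
nat_lit 0x0,
nat_lit 0x0,
nat_lit 0x0,
nat_lit 0x0,
nat_lit 0x0,
nat_lit 0x0,
nat_lit 0x0,
nat_lit 0x0,
nat_lit 0x0,
nat_lit 0x0,
nat_lit 0x0,
nat_lit 0x0,
nat_lit 0x0,
nat_lit 0x0,
nat_lit 0x0,
nat_lit 0x0,
nat_lit 0x0,
nat_lit 0x0,
nat_lit 0x0,
nat_lit 0x0,
nat_lit 0x0,
nat_lit 0x0,
nat_lit 0x0,
nat_lit 0x0,
nat_lit 0x0,
nat_lit 0x0,
nat_lit 0x0,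
nat_lit 0x0,
nat_lit 0x0,
nat_lit 0x0,
nat_lit 0x0,
nat_lit 0x0,
nat_lit 0x0,
nat_lit 0x0,
nat_lit 0x0,
nat_lit 0x0,
nat_lit 0x0,
nat_lit 0x0,
nat_lit 0x0,
nat_lit 0x0,
nat_lit 0x0,
nat_lit 0x0,
nat_lit 0x0,
nat_lit 0x0,
nat_lit 0x0,
nat_lit 0x0,
nat_lit 0x0,
nat_lit 0x0,
nat_lit 0x0,
nat_lit 0x0,
nat_lit 0x0,
nat_lit 0x0,
nat_lit 0x0,
nat_lit 0x0,
nat_lit 0x0,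
nat_lit 0x0,
nat_lit 0x0,
nat_lit 0x0,
nat_lit 0x0,
nat_lit 0x0,
nat_lit 0x0,
nat_lit 0x0,
nat_lit 0x0,
nat_lit 0x0,
nat_lit 0x0,
nat_lit 0x0,
nat_lit 0x0,
nat_lit 0x0,
nat_lit 0x0,
nat_lit 0x0,
nat_lit 0x0,
nat_lit 0x0,
nat_lit 0x0,
nat_lit 0x0,
nat_lit 0x0,
nat_lit 0x0,
nat_lit 0x0,
nat_lit 0x0,
nat_lit 0x0,
nat_lit 0x0,
nat_lit 0x0,
nat_lit 0x0,
nat_lit 0x0,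
nat_lit 0x0,
nat_lit 0x0,
nat_lit 0x0,
nat_lit 0x0,
nat_lit 0x0,
nat_lit 0x0,
nat_lit 0x0,
nat_lit 0x0,
nat_lit 0x0,
nat_lit 0x0,
nat_lit 0x0,
nat_lit 0x0,
nat_lit 0x0,
nat_lit 0x0,
nat_lit 0x0,
nat_lit 0x0,
nat_lit 0x0,
nat_lit 0x0,
nat_lit 0x0,
nat_lit 0x0,
nat_lit 0x0,
nat_lit 0x0,
nat_lit 0x0,
nat_lit 0x0,
nat_lit 0x0,
nat_lit 0x0,
nat_lit 0x0,
nat_lit 0x0,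
nat_lit 0x0,
nat_lit 0x0,
nat_lit 0x0,
nat_lit 0x0,
nat_lit 0x0,
nat_lit 0x0,
nat_lit 0x0,
nat_lit 0x0,
nat_lit 0x0,
nat_lit 0x0,
nat_lit 0x0,
nat_lit 0x0,
nat_lit 0x0,
nat_lit 0x0,
nat_lit 0x0,
nat_lit 0x0,
nat_lit 0x0,
nat_lit 0x0,
nat_lit 0x0,
nat_lit 0x0,
nat_lit 0x0,
nat_lit 0x0,
nat_lit 0x0,
nat_lit 0x0,
nat_lit 0x0,
nat_lit 0x0,
nat_lit 0x0,
nat_lit 0x0,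
nat_lit 0x0,
nat_lit 0x0,
nat_lit 0x0,
nat_lit 0x0,
nat_lit 0x0,
nat_lit 0x0,
nat_lit 0x0,
nat_lit 0x0,
nat_lit 0x0,
nat_lit 0x0,
nat_lit 0x0,
nat_lit 0x0,
nat_lit 0x0,
nat_lit 0x0,
nat_lit 0x0,
nat_lit 0x0,
nat_lit 0x0,
nat_lit 0x0,
nat_lit 0x0,
nat_lit 0x0,
nat_lit 0x0,
nat_lit 0x0,
nat_lit 0x0,
nat_lit 0x0,
nat_lit 0x0,
nat_lit 0x0,
nat_lit 0x0,
nat_lit 0x0,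
nat_lit 0x0,
nat_lit 0x0,
nat_lit 0x0,
nat_lit 0x0,
nat_lit 0x0,
nat_lit 0x0,
nat_lit 0x0,
nat_lit 0x0,
nat_lit 0x0,
nat_lit 0x0,
nat_lit 0x0,
nat_lit 0x0,
nat_lit 0x0,
nat_lit 0x0,
nat_lit 0x0,
nat_lit 0x0,
nat_lit 0x0,
nat_lit 0x0,
nat_lit 0x0,
nat_lit 0x0,
nat_lit 0x0,
nat_lit 0x0,
nat_lit 0x0,
nat_lit 0x0,
nat_lit 0x0,
nat_lit 0x0,
nat_lit 0x0,
nat_lit 0x0,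
nat_lit 0x0,
nat_lit 0x0,
nat_lit 0x0,
nat_lit 0x0,
nat_lit 0x0,
nat_lit 0x0,
nat_lit 0x0,
nat_lit 0x0,
nat_lit 0x0,
nat_lit 0x0,
nat_lit 0x0,
nat_lit 0x0,
nat_lit 0x0,
nat_lit 0x0,
nat_lit 0x0,
nat_lit 0x0,
nat_lit 0x0,
nat_lit 0x0,
nat_lit 0x0,
nat_lit 0x0,
nat_lit 0x0,
nat_lit 0x0,
nat_lit 0x0,
nat_lit 0x0,
nat_lit 0x0,
nat_lit 0x0,
nat_lit 0x0,
nat_lit 0x0,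
nat_lit 0x0,
nat_lit 0x0,
nat_lit 0x0,
nat_lit 0x0,
nat_lit 0x0,
nat_lit 0x0,
nat_lit 0x0,
nat_lit 0x0,
nat_lit 0x0,
nat_lit 0x0,
nat_lit 0x0,
nat_lit 0x0,
nat_lit 0x0,
nat_lit 0x0,
nat_lit 0x0,
nat_lit 0x0,
nat_lit 0x0,
nat_lit 0x0,
nat_lit 0x0,
nat_lit 0x0,
nat_lit 0x0,
nat_lit 0x0,
nat_lit 0x0,
nat_lit 0x0,
nat_lit 0x0,
nat_lit 0x0,
nat_lit 0x0,
nat_lit 0x0,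
nat_lit 0x0,
nat_lit 0x0,
nat_lit 0x0,
nat_lit 0x0,
nat_lit 0x0,
nat_lit 0x0,
nat_lit 0x0,
nat_lit 0x0,
nat_lit 0x0,
nat_lit 0x0,
nat_lit 0x0,
nat_lit 0x0,
nat_lit 0x0,
nat_lit 0x0,
nat_lit 0x0,
nat_lit 0x0,
nat_lit 0x0,
nat_lit 0x0,
nat_lit 0x0,
nat_lit 0x0,
nat_lit 0x0,
nat_lit 0x0,
nat_lit 0x0,
nat_lit 0x0]

theorem ok0 : checkFacts facts ip words 256 subs 18473 items0 0 = true := by decide +kernel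

theorem len0 : Nat.beq items0.length 500 = true := by decide +kernel

noncomputable def items500 : List ℕ := [
nat_lit 0x0,
nat_lit 0x0,
nat_lit 0x0,
nat_lit 0x0,
nat_lit 0x0,
nat_lit 0x0,
nat_lit 0x0,
nat_lit 0x0,
nat_lit 0x0,
nat_lit 0x0,
nat_lit 0x0,
nat_lit 0x0,
nat_lit 0x0,
nat_lit 0x0,
nat_lit 0x0,
nat_lit 0x0,
nat_lit 0x0,
nat_lit 0x0,
nat_lit 0x0,
nat_lit 0x0,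
nat_lit 0x0,
nat_lit 0x0,
nat_lit 0x0,
nat_lit 0x0,
nat_lit 0x0,
nat_lit 0x0,
nat_lit 0x0,
nat_lit 0x0,
nat_lit 0x0,
nat_lit 0x0,
nat_lit 0x0,
nat_lit 0x0,
nat_lit 0x0,
nat_lit 0x0,
nat_lit 0x0,
nat_lit 0x0,
nat_lit 0x0,
nat_lit 0x0,
nat_lit 0x0,
nat_lit 0x0,
nat_lit 0x0,
nat_lit 0x0,
nat_lit 0x0,
nat_lit 0x0,
nat_lit 0x0,
nat_lit 0x0,
nat_lit 0x0,
nat_lit 0x0,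
nat_lit 0x0,
nat_lit 0x0,
nat_lit 0x0,
nat_lit 0x0,
nat_lit 0x0,
nat_lit 0x0,
nat_lit 0x0,
nat_lit 0x0,
nat_lit 0x0,
nat_lit 0x0,
nat_lit 0x0,
nat_lit 0x0,
nat_lit 0x0,
nat_lit 0x0,
nat_lit 0x0,
nat_lit 0x0,
nat_lit 0x0,
nat_lit 0x0,
nat_lit 0x0,
nat_lit 0x0,
nat_lit 0x0,
nat_lit 0x0,
nat_lit 0x0,
nat_lit 0x0,
nat_lit 0x0,
nat_lit 0x0,
nat_lit 0x0,
nat_lit 0x0,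
nat_lit 0x0,
nat_lit 0x0,
nat_lit 0x0,
nat_lit 0x0,
nat_lit 0x0,
nat_lit 0x0,
nat_lit 0x0,
nat_lit 0x0,
nat_lit 0x0,
nat_lit 0x0,
nat_lit 0x0,
nat_lit 0x0,
nat_lit 0x0,
nat_lit 0x0,
nat_lit 0x0,
nat_lit 0x0,
nat_lit 0x0,
nat_lit 0x0,
nat_lit 0x0,
nat_lit 0x0,
nat_lit 0x0,
nat_lit 0x0,
nat_lit 0x0,
nat_lit 0x0,
nat_lit 0x0,
nat_lit 0x0,
nat_lit 0x0,
nat_lit 0x0,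
nat_lit 0x0,
nat_lit 0x0,
nat_lit 0x0,
nat_lit 0x0,
nat_lit 0x0,
nat_lit 0x0,
nat_lit 0x0,
nat_lit 0x0,
nat_lit 0x0,
nat_lit 0x0,
nat_lit 0x0,
nat_lit 0x0,
nat_lit 0x0,
nat_lit 0x0,
nat_lit 0x0,
nat_lit 0x0,
nat_lit 0x0,
nat_lit 0x0,
nat_lit 0x0,
nat_lit 0x0,
nat_lit 0x0,
nat_lit 0x0,
nat_lit 0x0,
nat_lit 0x0,
nat_lit 0x0,
nat_lit 0x0,
nat_lit 0x0,
nat_lit 0x0,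
nat_lit 0x0,
nat_lit 0x0,
nat_lit 0x0,
nat_lit 0x0,
nat_lit 0x0,
nat_lit 0x0,
nat_lit 0x0,
nat_lit 0x0,
nat_lit 0x0,
nat_lit 0x0,
nat_lit 0x0,
nat_lit 0x0,
nat_lit 0x0,
nat_lit 0x0,
nat_lit 0x0,
nat_lit 0x0,
nat_lit 0x0,
nat_lit 0x0,
nat_lit 0x0,
nat_lit 0x0,
nat_lit 0x0,
nat_lit 0x0,
nat_lit 0x0,
nat_lit 0x0,
nat_lit 0x0,
nat_lit 0x0,
nat_lit 0x0,
nat_lit 0x0,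
nat_lit 0x0,
nat_lit 0x0,
nat_lit 0x0,
nat_lit 0x0,
nat_lit 0x0,
nat_lit 0x0,
nat_lit 0x0,
nat_lit 0x0,
nat_lit 0x0,
nat_lit 0x0,
nat_lit 0x0,
nat_lit 0x0,
nat_lit 0x0,
nat_lit 0x0,
nat_lit 0x0,
nat_lit 0x0,
nat_lit 0x0,
nat_lit 0x0,
nat_lit 0x0,
nat_lit 0x0,
nat_lit 0x0,
nat_lit 0x0,
nat_lit 0x0,
nat_lit 0x0,
nat_lit 0x0,
nat_lit 0x0,
nat_lit 0x0,
nat_lit 0x0,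
nat_lit 0x0,
nat_lit 0x0,
nat_lit 0x0,
nat_lit 0x0,
nat_lit 0x0,
nat_lit 0x0,
nat_lit 0x0,
nat_lit 0x0,
nat_lit 0x0,
nat_lit 0x0,
nat_lit 0x0,
nat_lit 0x0,
nat_lit 0x0,
nat_lit 0x0,
nat_lit 0x0,
nat_lit 0x0,
nat_lit 0x0,
nat_lit 0x0,
nat_lit 0x0,
nat_lit 0x0,
nat_lit 0x0,
nat_lit 0x0,
nat_lit 0x0,
nat_lit 0x0,
nat_lit 0x0,
nat_lit 0x0,
nat_lit 0x0,
nat_lit 0x0,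
nat_lit 0x0,
nat_lit 0x0,
nat_lit 0x0,
nat_lit 0x0,
nat_lit 0x0,
nat_lit 0x0,
nat_lit 0x0,
nat_lit 0x0,
nat_lit 0x0,
nat_lit 0x0,
nat_lit 0x0,
nat_lit 0x0,
nat_lit 0x0,
nat_lit 0x0,
nat_lit 0x0,
nat_lit 0x0,
nat_lit 0x0,
nat_lit 0x0,
nat_lit 0x0,
nat_lit 0x0,
nat_lit 0x0,
nat_lit 0x0,
nat_lit 0x0,
nat_lit 0x0,
nat_lit 0x0,
nat_lit 0x0,
nat_lit 0x0,
nat_lit 0x0,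
nat_lit 0x0,
nat_lit 0x0,
nat_lit 0x0,
nat_lit 0x0,
nat_lit 0x0,
nat_lit 0x0,
nat_lit 0x0,
nat_lit 0x0,
nat_lit 0x0,
nat_lit 0x0,
nat_lit 0x0,
nat_lit 0x0,
nat_lit 0x0,
nat_lit 0x0,
nat_lit 0x0,
nat_lit 0x0,
nat_lit 0x0,
nat_lit 0x0,
nat_lit 0x0,
nat_lit 0x0,
nat_lit 0x0,
nat_lit 0x0,
nat_lit 0x0,
nat_lit 0x0,
nat_lit 0x0,
nat_lit 0x0,
nat_lit 0x0,
nat_lit 0x0,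
nat_lit 0x0,
nat_lit 0x0,
nat_lit 0x0,
nat_lit 0x0,
nat_lit 0x0,
nat_lit 0x0,
nat_lit 0x0,
nat_lit 0x0,
nat_lit 0x0,
nat_lit 0x0,
nat_lit 0x0,
nat_lit 0x0,
nat_lit 0x0,
nat_lit 0x0,
nat_lit 0x0,
nat_lit 0x0,
nat_lit 0x0,
nat_lit 0x0,
nat_lit 0x0,
nat_lit 0x0,
nat_lit 0x0,
nat_lit 0x0,
nat_lit 0x0,
nat_lit 0x0,
nat_lit 0x0,
nat_lit 0x0,
nat_lit 0x0,
nat_lit 0x0,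
nat_lit 0x0,
nat_lit 0x0,
nat_lit 0x0,
nat_lit 0x0,
nat_lit 0x0,
nat_lit 0x0,
nat_lit 0x0,
nat_lit 0x0,
nat_lit 0x0,
nat_lit 0x0,
nat_lit 0x0,
nat_lit 0x0,
nat_lit 0x0,
nat_lit 0x0,
nat_lit 0x0,
nat_lit 0x0,
nat_lit 0x0,
nat_lit 0x0,
nat_lit 0x0,
nat_lit 0x0,
nat_lit 0x0,
nat_lit 0x0,
nat_lit 0x0,
nat_lit 0x0,
nat_lit 0x0,
nat_lit 0x0,
nat_lit 0x0,
nat_lit 0x0,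
nat_lit 0x0,
nat_lit 0x0,
nat_lit 0x0,
nat_lit 0x0,
nat_lit 0x0,
nat_lit 0x0,
nat_lit 0x0,
nat_lit 0x0,
nat_lit 0x0,
nat_lit 0x0,
nat_lit 0x0,
nat_lit 0x0,
nat_lit 0x0,
nat_lit 0x0,
nat_lit 0x0,
nat_lit 0x0,
nat_lit 0x0,
nat_lit 0x0,
nat_lit 0x0,
nat_lit 0x0,
nat_lit 0x0,
nat_lit 0x0,
nat_lit 0x0,
nat_lit 0x0,
nat_lit 0x0,
nat_lit 0x0,
nat_lit 0x0,
nat_lit 0x0,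
nat_lit 0x0,
nat_lit 0x0,
nat_lit 0x0,
nat_lit 0x0,
nat_lit 0x0,
nat_lit 0x0,
nat_lit 0x0,
nat_lit 0x0,
nat_lit 0x0,
nat_lit 0x0,
nat_lit 0x0,
nat_lit 0x0,
nat_lit 0x0,
nat_lit 0x0,
nat_lit 0x0,
nat_lit 0x0,
nat_lit 0x0,
nat_lit 0x0,
nat_lit 0x0,
nat_lit 0x0,
nat_lit 0x0,
nat_lit 0x0,
nat_lit 0x0,
nat_lit 0x0,
nat_lit 0x0,
nat_lit 0x0,
nat_lit 0x0,
nat_lit 0x0,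
nat_lit 0x0,
nat_lit 0x0,
nat_lit 0x0,
nat_lit 0x0,
nat_lit 0x0,
nat_lit 0x0,
nat_lit 0x0,
nat_lit 0x0,
nat_lit 0x0,
nat_lit 0x0,
nat_lit 0x0,
nat_lit 0x0,
nat_lit 0x0,
nat_lit 0x0,
nat_lit 0x0,
nat_lit 0x0,
nat_lit 0x0,
nat_lit 0x0,
nat_lit 0x0,
nat_lit 0x0,
nat_lit 0x0,
nat_lit 0x0,
nat_lit 0x0,
nat_lit 0x0,
nat_lit 0x0,
nat_lit 0x0,
nat_lit 0x0,
nat_lit 0x0,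
nat_lit 0x0,
nat_lit 0x0,
nat_lit 0x0,
nat_lit 0x0,
nat_lit 0x0,
nat_lit 0x0,
nat_lit 0x0,
nat_lit 0x0,
nat_lit 0x0,
nat_lit 0x0,
nat_lit 0x0,
nat_lit 0x0,
nat_lit 0x0,
nat_lit 0x0,
nat_lit 0x0,
nat_lit 0x0,
nat_lit 0x0,
nat_lit 0x0,
nat_lit 0x0,
nat_lit 0x0,
nat_lit 0x0,
nat_lit 0x0,
nat_lit 0x0,
nat_lit 0x0,
nat_lit 0x0,
nat_lit 0x0,
nat_lit 0x0,
nat_lit 0x0,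
nat_lit 0x0,
nat_lit 0x0,
nat_lit 0x0,
nat_lit 0x0,
nat_lit 0x0,
nat_lit 0x0,
nat_lit 0x0,
nat_lit 0x0,
nat_lit 0x0,
nat_lit 0x0,
nat_lit 0x0,
nat_lit 0x0,
nat_lit 0x0,
nat_lit 0x0,
nat_lit 0x0,
nat_lit 0x0,
nat_lit 0x0,
nat_lit 0x0,
nat_lit 0x0,
nat_lit 0x0,
nat_lit 0x0,
nat_lit 0x0,
nat_lit 0x0,
nat_lit 0x0,
nat_lit 0x0,
nat_lit 0x0,
nat_lit 0x0,
nat_lit 0x0,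
nat_lit 0x0,
nat_lit 0x0,
nat_lit 0x0,
nat_lit 0x0,
nat_lit 0x0,
nat_lit 0x0,
nat_lit 0x0,
nat_lit 0x0,
nat_lit 0x0,
nat_lit 0x0,
nat_lit 0x0,
nat_lit 0x0,
nat_lit 0x0,
nat_lit 0x0,
nat_lit 0x0,
nat_lit 0x0,
nat_lit 0x0,
nat_lit 0x0,
nat_lit 0x0,
nat_lit 0x0,
nat_lit 0x0,
nat_lit 0x0,
nat_lit 0x0,
nat_lit 0x0,
nat_lit 0x0,
nat_lit 0x0,
nat_lit 0x0,
nat_lit 0x0,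
nat_lit 0x0,
nat_lit 0x0,
nat_lit 0x0,
nat_lit 0x0]

theorem ok500 : checkFacts facts ip words 256 subs 18473 items500 500 = true := by decide +kernel

theorem len500 : Nat.beq items500.length 500 = true := by decide +kernel

noncomputable def items1000 : List ℕ := [
nat_lit 0x0,
nat_lit 0x0,
nat_lit 0x0,
nat_lit 0x0,
nat_lit 0x0,
nat_lit 0x0,
nat_lit 0x0,
nat_lit 0x0,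
nat_lit 0x0,
nat_lit 0x0,
nat_lit 0x0,
nat_lit 0x0,
nat_lit 0x0,
nat_lit 0x0,
nat_lit 0x0,
nat_lit 0x0,
nat_lit 0x0,
nat_lit 0x0,
nat_lit 0x0,
nat_lit 0x0,
nat_lit 0x0,
nat_lit 0x0,
nat_lit 0x0,
nat_lit 0x0,
nat_lit 0x0,
nat_lit 0x0,
nat_lit 0x0,
nat_lit 0x0,
nat_lit 0x0,
nat_lit 0x0,
nat_lit 0x0,
nat_lit 0x0,
nat_lit 0x0,
nat_lit 0x0,
nat_lit 0x0,
nat_lit 0x0,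
nat_lit 0x0,
nat_lit 0x0,
nat_lit 0x0,
nat_lit 0x0,
nat_lit 0x0,
nat_lit 0x0,
nat_lit 0x0,
nat_lit 0x0,
nat_lit 0x0,
nat_lit 0x0,
nat_lit 0x0,
nat_lit 0x0,
nat_lit 0x0,
nat_lit 0x0,
nat_lit 0x0,
nat_lit 0x0,
nat_lit 0x0,
nat_lit 0x0,
nat_lit 0x0,
nat_lit 0x0,
nat_lit 0x0,
nat_lit 0x0,
nat_lit 0x0,
nat_lit 0x0,
nat_lit 0x0,
nat_lit 0x0,
nat_lit 0x0,
nat_lit 0x0,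
nat_lit 0x0,
nat_lit 0x0,
nat_lit 0x0,
nat_lit 0x0,
nat_lit 0x0,
nat_lit 0x0,
nat_lit 0x0,
nat_lit 0x0,
nat_lit 0x0,
nat_lit 0x0,
nat_lit 0x0,
nat_lit 0x0,
nat_lit 0x0,
nat_lit 0x0,
nat_lit 0x0,
nat_lit 0x0,
nat_lit 0x0,
nat_lit 0x0,
nat_lit 0x0,
nat_lit 0x0,
nat_lit 0x0,
nat_lit 0x0,
nat_lit 0x0,
nat_lit 0x0,
nat_lit 0x0,
nat_lit 0x0,
nat_lit 0x0,
nat_lit 0x0,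
nat_lit 0x0,
nat_lit 0x0,
nat_lit 0x0,
nat_lit 0x0,
nat_lit 0x0,
nat_lit 0x0,
nat_lit 0x0,
nat_lit 0x0,
nat_lit 0x0,
nat_lit 0x0,
nat_lit 0x0,
nat_lit 0x0,
nat_lit 0x0,
nat_lit 0x0,
nat_lit 0x0,
nat_lit 0x0,
nat_lit 0x0,
nat_lit 0x0,
nat_lit 0x0,
nat_lit 0x0,
nat_lit 0x0,
nat_lit 0x0,
nat_lit 0x0,
nat_lit 0x0,
nat_lit 0x0,
nat_lit 0x0,
nat_lit 0x0,
nat_lit 0x0,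
nat_lit 0x0,
nat_lit 0x0,
nat_lit 0x0,
nat_lit 0x0,
nat_lit 0x0,
nat_lit 0x0,
nat_lit 0x0,
nat_lit 0x0,
nat_lit 0x0,
nat_lit 0x0,
nat_lit 0x0,
nat_lit 0x0,
nat_lit 0x0,
nat_lit 0x0,
nat_lit 0x0,
nat_lit 0x0,
nat_lit 0x0,
nat_lit 0x0,
nat_lit 0x0,
nat_lit 0x0,
nat_lit 0x0,
nat_lit 0x0,
nat_lit 0x0,
nat_lit 0x0,
nat_lit 0x0,
nat_lit 0x0,
nat_lit 0x0,
nat_lit 0x0,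
nat_lit 0x0,
nat_lit 0x0,
nat_lit 0x0,
nat_lit 0x0,
nat_lit 0x0,
nat_lit 0x0,
nat_lit 0x0,
nat_lit 0x0,
nat_lit 0x0,
nat_lit 0x0,
nat_lit 0x0,
nat_lit 0x0,
nat_lit 0x0,
nat_lit 0x0,
nat_lit 0x0,
nat_lit 0x0,
nat_lit 0x0,
nat_lit 0x0,
nat_lit 0x0,
nat_lit 0x0,
nat_lit 0x0,
nat_lit 0x0,
nat_lit 0x0,
nat_lit 0x0,
nat_lit 0x0,
nat_lit 0x0,
nat_lit 0x0,
nat_lit 0x0,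
nat_lit 0x0,
nat_lit 0x0,
nat_lit 0x0,
nat_lit 0x0,
nat_lit 0x0,
nat_lit 0x0,
nat_lit 0x0,
nat_lit 0x0,
nat_lit 0x0,
nat_lit 0x0,
nat_lit 0x0,
nat_lit 0x0,
nat_lit 0x0,
nat_lit 0x0,
nat_lit 0x0,
nat_lit 0x0,
nat_lit 0x0,
nat_lit 0x0,
nat_lit 0x0,
nat_lit 0x0,
nat_lit 0x0,
nat_lit 0x0,
nat_lit 0x0,
nat_lit 0x0,
nat_lit 0x0,
nat_lit 0x0,
nat_lit 0x0,
nat_lit 0x0,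
nat_lit 0x0,
nat_lit 0x0,
nat_lit 0x0,
nat_lit 0x0,
nat_lit 0x0,
nat_lit 0x0,
nat_lit 0x0,
nat_lit 0x0,
nat_lit 0x0,
nat_lit 0x0,
nat_lit 0x0,
nat_lit 0x0,
nat_lit 0x0,
nat_lit 0x0,
nat_lit 0x0,
nat_lit 0x0,
nat_lit 0x0,
nat_lit 0x0,
nat_lit 0x0,
nat_lit 0x0,
nat_lit 0x0,
nat_lit 0x0,
nat_lit 0x0,
nat_lit 0x0,
nat_lit 0x0,
nat_lit 0x0,
nat_lit 0x0,
nat_lit 0x0,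
nat_lit 0x0,
nat_lit 0x0,
nat_lit 0x0,
nat_lit 0x0,
nat_lit 0x0,
nat_lit 0x0,
nat_lit 0x0,
nat_lit 0x0,
nat_lit 0x0,
nat_lit 0x0,
nat_lit 0x0,
nat_lit 0x0,
nat_lit 0x0,
nat_lit 0x0,
nat_lit 0x0,
nat_lit 0x0,
nat_lit 0x0,
nat_lit 0x0,
nat_lit 0x0,
nat_lit 0x0,
nat_lit 0x0,
nat_lit 0x0,
nat_lit 0x0,
nat_lit 0x0,
nat_lit 0x0,
nat_lit 0x0,
nat_lit 0x0,
nat_lit 0x0,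
nat_lit 0x0,
nat_lit 0x0,
nat_lit 0x0,
nat_lit 0x0,
nat_lit 0x0,
nat_lit 0x0,
nat_lit 0x0,
nat_lit 0x0,
nat_lit 0x0,
nat_lit 0x0,
nat_lit 0x0,
nat_lit 0x0,
nat_lit 0x0,
nat_lit 0x0,
nat_lit 0x0,
nat_lit 0x0,
nat_lit 0x0,
nat_lit 0x0,
nat_lit 0x0,
nat_lit 0x0,
nat_lit 0x0,
nat_lit 0x0,
nat_lit 0x0,
nat_lit 0x0,
nat_lit 0x0,
nat_lit 0x0,
nat_lit 0x0,
nat_lit 0x0,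
nat_lit 0x0,
nat_lit 0x0,
nat_lit 0x0,
nat_lit 0x0,
nat_lit 0x0,
nat_lit 0x0,
nat_lit 0x0,
nat_lit 0x0,
nat_lit 0x0,
nat_lit 0x0,
nat_lit 0x0,
nat_lit 0x0,
nat_lit 0x0,
nat_lit 0x0,
nat_lit 0x0,
nat_lit 0x0,
nat_lit 0x0,
nat_lit 0x0,
nat_lit 0x0,
nat_lit 0x0,
nat_lit 0x0,
nat_lit 0x0,
nat_lit 0x0,
nat_lit 0x0,
nat_lit 0x0,
nat_lit 0x0,
nat_lit 0x0,
nat_lit 0x0,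
nat_lit 0x0,
nat_lit 0x0,
nat_lit 0x0,
nat_lit 0x0,
nat_lit 0x0,
nat_lit 0x0,
nat_lit 0x0,
nat_lit 0x0,
nat_lit 0x0,
nat_lit 0x0,
nat_lit 0x0,
nat_lit 0x0,
nat_lit 0x0,
nat_lit 0x0,
nat_lit 0x0,
nat_lit 0x0,
nat_lit 0x0,
nat_lit 0x0,
nat_lit 0x0,
nat_lit 0x0,
nat_lit 0x0,
nat_lit 0x0,
nat_lit 0x0,
nat_lit 0x0,
nat_lit 0x0,
nat_lit 0x0,
nat_lit 0x0,
nat_lit 0x0,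
nat_lit 0x0,
nat_lit 0x0,
nat_lit 0x0,
nat_lit 0x0,
nat_lit 0x0,
nat_lit 0x0,
nat_lit 0x0,
nat_lit 0x0,
nat_lit 0x0,
nat_lit 0x0,
nat_lit 0x0,
nat_lit 0x0,
nat_lit 0x0,
nat_lit 0x0,
nat_lit 0x0,
nat_lit 0x0,
nat_lit 0x0,
nat_lit 0x0,
nat_lit 0x0,
nat_lit 0x0,
nat_lit 0x0,
nat_lit 0x0,
nat_lit 0x0,
nat_lit 0x0,
nat_lit 0x0,
nat_lit 0x0,
nat_lit 0x0,
nat_lit 0x0,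
nat_lit 0x0,
nat_lit 0x0,
nat_lit 0x0,
nat_lit 0x0,
nat_lit 0x0,
nat_lit 0x0,
nat_lit 0x0,
nat_lit 0x0,
nat_lit 0x0,
nat_lit 0x0,
nat_lit 0x0,
nat_lit 0x0,
nat_lit 0x0,
nat_lit 0x0,
nat_lit 0x0,
nat_lit 0x0,
nat_lit 0x0,
nat_lit 0x0,
nat_lit 0x0,
nat_lit 0x0,
nat_lit 0x0,
nat_lit 0x0,
nat_lit 0x0,
nat_lit 0x0,
nat_lit 0x0,
nat_lit 0x0,
nat_lit 0x0,
nat_lit 0x0,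
nat_lit 0x0,
nat_lit 0x0,
nat_lit 0x0,
nat_lit 0x0,
nat_lit 0x0,
nat_lit 0x0,
nat_lit 0x0,
nat_lit 0x0,
nat_lit 0x0,
nat_lit 0x0,
nat_lit 0x0,
nat_lit 0x0,
nat_lit 0x0,
nat_lit 0x0,
nat_lit 0x0,
nat_lit 0x0,
nat_lit 0x0,
nat_lit 0x0,
nat_lit 0x0,
nat_lit 0x0,
nat_lit 0x0,
nat_lit 0x0,
nat_lit 0x0,
nat_lit 0x0,
nat_lit 0x0,
nat_lit 0x0,
nat_lit 0x0,
nat_lit 0x0,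
nat_lit 0x0,
nat_lit 0x0,
nat_lit 0x0,
nat_lit 0x0,
nat_lit 0x0,
nat_lit 0x0,
nat_lit 0x0,
nat_lit 0x0,
nat_lit 0x0,
nat_lit 0x0,
nat_lit 0x0,
nat_lit 0x0,
nat_lit 0x0,
nat_lit 0x0,
nat_lit 0x0,
nat_lit 0x0,
nat_lit 0x0,
nat_lit 0x0,
nat_lit 0x0,
nat_lit 0x0,
nat_lit 0x0,
nat_lit 0x0,
nat_lit 0x0,
nat_lit 0x0,
nat_lit 0x0,
nat_lit 0x0,
nat_lit 0x0,
nat_lit 0x0,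
nat_lit 0x0,
nat_lit 0x0,
nat_lit 0x0,
nat_lit 0x0,
nat_lit 0x0,
nat_lit 0x0,
nat_lit 0x0,
nat_lit 0x0,
nat_lit 0x0,
nat_lit 0x0,
nat_lit 0x0,
nat_lit 0x0,
nat_lit 0x0,
nat_lit 0x0,
nat_lit 0x0,
nat_lit 0x0,
nat_lit 0x0,
nat_lit 0x0,
nat_lit 0x0,
nat_lit 0x0,
nat_lit 0x0,
nat_lit 0x0,
nat_lit 0x0,
nat_lit 0x0,
nat_lit 0x0,
nat_lit 0x0,
nat_lit 0x0,
nat_lit 0x0,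
nat_lit 0x0,
nat_lit 0x0,
nat_lit 0x0,
nat_lit 0x0,
nat_lit 0x0,
nat_lit 0x0,
nat_lit 0x0,
nat_lit 0x0,
nat_lit 0x0,
nat_lit 0x0,
nat_lit 0x0,
nat_lit 0x0,
nat_lit 0x0,
nat_lit 0x0,
nat_lit 0x0,
nat_lit 0x0]

theorem ok1000 : checkFacts facts ip words 256 subs 18473 items1000 1000 = true := by decide +kernel

theorem len1000 : Nat.beq items1000.length 500 = true := by decide +kernel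

noncomputable def items1500 : List ℕ := [
nat_lit 0x0,
nat_lit 0x0,
nat_lit 0x0,
nat_lit 0x0,
nat_lit 0x0,
nat_lit 0x0,
nat_lit 0x0,
nat_lit 0x0,
nat_lit 0x0,
nat_lit 0x0,
nat_lit 0x0,
nat_lit 0x0,
nat_lit 0x0,
nat_lit 0x0,
nat_lit 0x0,
nat_lit 0x0,
nat_lit 0x0,
nat_lit 0x0,
nat_lit 0x0,
nat_lit 0x0,
nat_lit 0x0,
nat_lit 0x0,
nat_lit 0x0,
nat_lit 0x0,
nat_lit 0x0,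
nat_lit 0x0,
nat_lit 0x0,
nat_lit 0x0,
nat_lit 0x0,
nat_lit 0x0,
nat_lit 0x0,
nat_lit 0x0,
nat_lit 0x0,
nat_lit 0x0,
nat_lit 0x0,
nat_lit 0x0,
nat_lit 0x0,
nat_lit 0x0,
nat_lit 0x0,
nat_lit 0x0,
nat_lit 0x0,
nat_lit 0x0,
nat_lit 0x0,
nat_lit 0x0,
nat_lit 0x0,
nat_lit 0x0,
nat_lit 0x0,
nat_lit 0x0,
nat_lit 0x0,
nat_lit 0x0,
nat_lit 0x0,
nat_lit 0x0,
nat_lit 0x0,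
nat_lit 0x0,
nat_lit 0x0,
nat_lit 0x0,
nat_lit 0x0,
nat_lit 0x0,
nat_lit 0x0,
nat_lit 0x0,
nat_lit 0x0,
nat_lit 0x0,
nat_lit 0x0,
nat_lit 0x0,
nat_lit 0x0,
nat_lit 0x0,
nat_lit 0x0,
nat_lit 0x0,
nat_lit 0x0,
nat_lit 0x0,
nat_lit 0x0,
nat_lit 0x0,
nat_lit 0x0,
nat_lit 0x0,
nat_lit 0x0,
nat_lit 0x0,
nat_lit 0x0,
nat_lit 0x0,
nat_lit 0x0,
nat_lit 0x0,
nat_lit 0x0,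
nat_lit 0x0,
nat_lit 0x0,
nat_lit 0x0,
nat_lit 0x0,
nat_lit 0x0,
nat_lit 0x0,
nat_lit 0x0,
nat_lit 0x0,
nat_lit 0x0,
nat_lit 0x0,
nat_lit 0x0,
nat_lit 0x0,
nat_lit 0x0,
nat_lit 0x0,
nat_lit 0x0,
nat_lit 0x0,
nat_lit 0x0,
nat_lit 0x0,
nat_lit 0x0,
nat_lit 0x0,
nat_lit 0x0,
nat_lit 0x0,
nat_lit 0x0,
nat_lit 0x0,
nat_lit 0x0,
nat_lit 0x0,
nat_lit 0x0,
nat_lit 0x0,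
nat_lit 0x0,
nat_lit 0x0,
nat_lit 0x0,
nat_lit 0x0,
nat_lit 0x0,
nat_lit 0x0,
nat_lit 0x0,
nat_lit 0x0,
nat_lit 0x0,
nat_lit 0x0,
nat_lit 0x0,
nat_lit 0x0,
nat_lit 0x0,
nat_lit 0x0,
nat_lit 0x0,
nat_lit 0x0,
nat_lit 0x0,
nat_lit 0x0,
nat_lit 0x0,
nat_lit 0x0,
nat_lit 0x0,
nat_lit 0x0,
nat_lit 0x0,
nat_lit 0x0,
nat_lit 0x0,
nat_lit 0x0,
nat_lit 0x0,
nat_lit 0x0,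
nat_lit 0x0,
nat_lit 0x0,
nat_lit 0x0,
nat_lit 0x0,
nat_lit 0x0,
nat_lit 0x0,
nat_lit 0x0,
nat_lit 0x0,
nat_lit 0x0,
nat_lit 0x0,
nat_lit 0x0,
nat_lit 0x0,
nat_lit 0x0,
nat_lit 0x0,
nat_lit 0x0,
nat_lit 0x0,
nat_lit 0x0,
nat_lit 0x0,
nat_lit 0x0,
nat_lit 0x0,
nat_lit 0x0,
nat_lit 0x0,
nat_lit 0x0,
nat_lit 0x0,
nat_lit 0x0,
nat_lit 0x0,
nat_lit 0x0,
nat_lit 0x0,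
nat_lit 0x0,
nat_lit 0x0,
nat_lit 0x0,
nat_lit 0x0,
nat_lit 0x0,
nat_lit 0x0,
nat_lit 0x0,
nat_lit 0x0,
nat_lit 0x0,
nat_lit 0x0,
nat_lit 0x0,
nat_lit 0x0,
nat_lit 0x0,
nat_lit 0x0,
nat_lit 0x0,
nat_lit 0x0,
nat_lit 0x0,
nat_lit 0x0,
nat_lit 0x0,
nat_lit 0x0,
nat_lit 0x0,
nat_lit 0x0,
nat_lit 0x0,
nat_lit 0x0,
nat_lit 0x0,
nat_lit 0x0,
nat_lit 0x0,
nat_lit 0x0,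
nat_lit 0x0,
nat_lit 0x0,
nat_lit 0x0,
nat_lit 0x0,
nat_lit 0x0,
nat_lit 0x0,
nat_lit 0x0,
nat_lit 0x0,
nat_lit 0x0,
nat_lit 0x0,
nat_lit 0x0,
nat_lit 0x0,
nat_lit 0x0,
nat_lit 0x0,
nat_lit 0x0,
nat_lit 0x0,
nat_lit 0x0,
nat_lit 0x0,
nat_lit 0x0,
nat_lit 0x0,
nat_lit 0x0,
nat_lit 0x0,
nat_lit 0x0,
nat_lit 0x0,
nat_lit 0x0,
nat_lit 0x0,
nat_lit 0x0,
nat_lit 0x0,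
nat_lit 0x0,
nat_lit 0x0,
nat_lit 0x0,
nat_lit 0x0,
nat_lit 0x0,
nat_lit 0x0,
nat_lit 0x0,
nat_lit 0x0,
nat_lit 0x0,
nat_lit 0x0,
nat_lit 0x0,
nat_lit 0x0,
nat_lit 0x0,
nat_lit 0x0,
nat_lit 0x0,
nat_lit 0x0,
nat_lit 0x0,
nat_lit 0x0,
nat_lit 0x0,
nat_lit 0x0,
nat_lit 0x0,
nat_lit 0x0,
nat_lit 0x0,
nat_lit 0x0,
nat_lit 0x0,
nat_lit 0x0,
nat_lit 0x0,
nat_lit 0x0,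
nat_lit 0x0,
nat_lit 0x0,
nat_lit 0x0,
nat_lit 0x0,
nat_lit 0x0,
nat_lit 0x0,
nat_lit 0x0,
nat_lit 0x0,
nat_lit 0x0,
nat_lit 0x0,
nat_lit 0x0,
nat_lit 0x0,
nat_lit 0x0,
nat_lit 0x0,
nat_lit 0x0,
nat_lit 0x0,
nat_lit 0x0,
nat_lit 0x0,
nat_lit 0x0,
nat_lit 0x0,
nat_lit 0x0,
nat_lit 0x0,
nat_lit 0x0,
nat_lit 0x0,
nat_lit 0x0,
nat_lit 0x0,
nat_lit 0x0,
nat_lit 0x0,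
nat_lit 0x0,
nat_lit 0x0,
nat_lit 0x0,
nat_lit 0x0,
nat_lit 0x0,
nat_lit 0x0,
nat_lit 0x0,
nat_lit 0x0,
nat_lit 0x0,
nat_lit 0x0,
nat_lit 0x0,
nat_lit 0x0,
nat_lit 0x0,
nat_lit 0x0,
nat_lit 0x0,
nat_lit 0x0,
nat_lit 0x0,
nat_lit 0x0,
nat_lit 0x0,
nat_lit 0x0,
nat_lit 0x0,
nat_lit 0x0,
nat_lit 0x0,
nat_lit 0x0,
nat_lit 0x0,
nat_lit 0x0,
nat_lit 0x0,
nat_lit 0x0,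
nat_lit 0x0,
nat_lit 0x0,
nat_lit 0x0,
nat_lit 0x0,
nat_lit 0x0,
nat_lit 0x0,
nat_lit 0x0,
nat_lit 0x0,
nat_lit 0x0,
nat_lit 0x0,
nat_lit 0x0,
nat_lit 0x0,
nat_lit 0x0,
nat_lit 0x0,
nat_lit 0x0,
nat_lit 0x0,
nat_lit 0x0,
nat_lit 0x0,
nat_lit 0x0,
nat_lit 0x0,
nat_lit 0x0,
nat_lit 0x0,
nat_lit 0x0,
nat_lit 0x0,
nat_lit 0x0,
nat_lit 0x0,
nat_lit 0x0,
nat_lit 0x0,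
nat_lit 0x0,
nat_lit 0x0,
nat_lit 0x0,
nat_lit 0x0,
nat_lit 0x0,
nat_lit 0x0,
nat_lit 0x0,
nat_lit 0x0,
nat_lit 0x0,
nat_lit 0x0,
nat_lit 0x0,
nat_lit 0x0,
nat_lit 0x0,
nat_lit 0x0,
nat_lit 0x0,
nat_lit 0x0,
nat_lit 0x0,
nat_lit 0x0,
nat_lit 0x0,
nat_lit 0x0,
nat_lit 0x0,
nat_lit 0x0,
nat_lit 0x0,
nat_lit 0x0,
nat_lit 0x0,
nat_lit 0x0,
nat_lit 0x0,
nat_lit 0x0,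
nat_lit 0x0,
nat_lit 0x0,
nat_lit 0x0,
nat_lit 0x0,
nat_lit 0x0,
nat_lit 0x0,
nat_lit 0x0,
nat_lit 0x0,
nat_lit 0x0,
nat_lit 0x0,
nat_lit 0x0,
nat_lit 0x0,
nat_lit 0x0,
nat_lit 0x0,
nat_lit 0x0,
nat_lit 0x0,
nat_lit 0x0,
nat_lit 0x0,
nat_lit 0x0,
nat_lit 0x0,
nat_lit 0x0,
nat_lit 0x0,
nat_lit 0x0,
nat_lit 0x0,
nat_lit 0x0,
nat_lit 0x0,
nat_lit 0x0,
nat_lit 0x0,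
nat_lit 0x0,
nat_lit 0x0,
nat_lit 0x0,
nat_lit 0x0,
nat_lit 0x0,
nat_lit 0x0,
nat_lit 0x0,
nat_lit 0x0,
nat_lit 0x0,
nat_lit 0x0,
nat_lit 0x0,
nat_lit 0x0,
nat_lit 0x0,
nat_lit 0x0,
nat_lit 0x0,
nat_lit 0x0,
nat_lit 0x0,
nat_lit 0x0,
nat_lit 0x0,
nat_lit 0x0,
nat_lit 0x0,
nat_lit 0x0,
nat_lit 0x0,
nat_lit 0x0,
nat_lit 0x0,
nat_lit 0x0,
nat_lit 0x0,
nat_lit 0x0,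
nat_lit 0x0,
nat_lit 0x0,
nat_lit 0x0,
nat_lit 0x0,
nat_lit 0x0,
nat_lit 0x0,
nat_lit 0x0,
nat_lit 0x0,
nat_lit 0x0,
nat_lit 0x0,
nat_lit 0x0,
nat_lit 0x0,
nat_lit 0x0,
nat_lit 0x0,
nat_lit 0x0,
nat_lit 0x0,
nat_lit 0x0,
nat_lit 0x0,
nat_lit 0x0,
nat_lit 0x0,
nat_lit 0x0,
nat_lit 0x0,
nat_lit 0x0,
nat_lit 0x0,
nat_lit 0x0,
nat_lit 0x0,
nat_lit 0x0,
nat_lit 0x0,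
nat_lit 0x0,
nat_lit 0x0,
nat_lit 0x0,
nat_lit 0x0,
nat_lit 0x0,
nat_lit 0x0,
nat_lit 0x0,
nat_lit 0x0,
nat_lit 0x0,
nat_lit 0x0,
nat_lit 0x0,
nat_lit 0x0,
nat_lit 0x0,
nat_lit 0x0,
nat_lit 0x0,
nat_lit 0x0,
nat_lit 0x0,
nat_lit 0x0,
nat_lit 0x0,
nat_lit 0x0,
nat_lit 0x0,
nat_lit 0x0,
nat_lit 0x0,
nat_lit 0x0,
nat_lit 0x0,
nat_lit 0x0,
nat_lit 0x0,
nat_lit 0x0,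
nat_lit 0x0,
nat_lit 0x0,
nat_lit 0x0,
nat_lit 0x0,
nat_lit 0x0,
nat_lit 0x0,
nat_lit 0x0,
nat_lit 0x0,
nat_lit 0x0,
nat_lit 0x0,
nat_lit 0x0,
nat_lit 0x0,
nat_lit 0x0,
nat_lit 0x0,
nat_lit 0x0,
nat_lit 0x0,
nat_lit 0x0,
nat_lit 0x0,
nat_lit 0x0,
nat_lit 0x0,
nat_lit 0x0,
nat_lit 0x0,
nat_lit 0x0,
nat_lit 0x0,
nat_lit 0x0,
nat_lit 0x0,
nat_lit 0x0]

theorem ok1500 : checkFacts facts ip words 256 subs 18473 items1500 1500 = true := by decide +kernel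

theorem len1500 : Nat.beq items1500.length 500 = true := by decide +kernel

noncomputable def items2000 : List ℕ := [
nat_lit 0x0,
nat_lit 0x0,
nat_lit 0x0,
nat_lit 0x0,
nat_lit 0x0,
nat_lit 0x0,
nat_lit 0x0,
nat_lit 0x0,
nat_lit 0x0,
nat_lit 0x0,
nat_lit 0x0,
nat_lit 0x0,
nat_lit 0x0,
nat_lit 0x0,
nat_lit 0x0,
nat_lit 0x0,
nat_lit 0x0,
nat_lit 0x0,
nat_lit 0x0,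
nat_lit 0x0,
nat_lit 0x0,
nat_lit 0x0,
nat_lit 0x0,
nat_lit 0x0,
nat_lit 0x0,
nat_lit 0x0,
nat_lit 0x0,
nat_lit 0x0,
nat_lit 0x0,
nat_lit 0x0,
nat_lit 0x0,
nat_lit 0x0,
nat_lit 0x0,
nat_lit 0x0,
nat_lit 0x0,
nat_lit 0x0,
nat_lit 0x0,
nat_lit 0x0,
nat_lit 0x0,
nat_lit 0x0,
nat_lit 0x0,
nat_lit 0x0,
nat_lit 0x0,
nat_lit 0x0,
nat_lit 0x0,
nat_lit 0x0,
nat_lit 0x0,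
nat_lit 0x0,
nat_lit 0x0,
nat_lit 0x0,
nat_lit 0x0,
nat_lit 0x0,
nat_lit 0x0,
nat_lit 0x0,
nat_lit 0x0,
nat_lit 0x0,
nat_lit 0x0,
nat_lit 0x0,
nat_lit 0x0,
nat_lit 0x0,
nat_lit 0x0,
nat_lit 0x0,
nat_lit 0x0,
nat_lit 0x0,
nat_lit 0x0,
nat_lit 0x0,
nat_lit 0x0,
nat_lit 0x0,
nat_lit 0x0,
nat_lit 0x0,
nat_lit 0x0,
nat_lit 0x0,
nat_lit 0x0,
nat_lit 0x0,
nat_lit 0x0,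
nat_lit 0x0,
nat_lit 0x0,
nat_lit 0x0,
nat_lit 0x0,
nat_lit 0x0,
nat_lit 0x0,
nat_lit 0x0,
nat_lit 0x0,
nat_lit 0x0,
nat_lit 0x0,
nat_lit 0x0,
nat_lit 0x0,
nat_lit 0x0,
nat_lit 0x0,
nat_lit 0x0,
nat_lit 0x0,
nat_lit 0x0,
nat_lit 0x0,
nat_lit 0x0,
nat_lit 0x0,
nat_lit 0x0,
nat_lit 0x0,
nat_lit 0x0,
nat_lit 0x0,
nat_lit 0x0,
nat_lit 0x0,
nat_lit 0x0,
nat_lit 0x0,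
nat_lit 0x0,
nat_lit 0x0,
nat_lit 0x0,
nat_lit 0x0,
nat_lit 0x0,
nat_lit 0x0,
nat_lit 0x0,
nat_lit 0x0,
nat_lit 0x0,
nat_lit 0x0,
nat_lit 0x0,
nat_lit 0x0,
nat_lit 0x0,
nat_lit 0x0,
nat_lit 0x0,
nat_lit 0x0,
nat_lit 0x0,
nat_lit 0x0,
nat_lit 0x0,
nat_lit 0x0,
nat_lit 0x0,
nat_lit 0x0,
nat_lit 0x0,
nat_lit 0x0,
nat_lit 0x0,
nat_lit 0x0,
nat_lit 0x0,
nat_lit 0x0,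
nat_lit 0x0,
nat_lit 0x0,
nat_lit 0x0,
nat_lit 0x0,
nat_lit 0x0,
nat_lit 0x0,
nat_lit 0x0,
nat_lit 0x0,
nat_lit 0x0,
nat_lit 0x0,
nat_lit 0x0,
nat_lit 0x0,
nat_lit 0x0,
nat_lit 0x0,
nat_lit 0x0,
nat_lit 0x0,
nat_lit 0x0,
nat_lit 0x0,
nat_lit 0x0,
nat_lit 0x0,
nat_lit 0x0,
nat_lit 0x0,
nat_lit 0x0,
nat_lit 0x0,
nat_lit 0x0,
nat_lit 0x0,
nat_lit 0x0,
nat_lit 0x0,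
nat_lit 0x0,
nat_lit 0x0,
nat_lit 0x0,
nat_lit 0x0,
nat_lit 0x0,
nat_lit 0x0,
nat_lit 0x0,
nat_lit 0x0,
nat_lit 0x0,
nat_lit 0x0,
nat_lit 0x0,
nat_lit 0x0,
nat_lit 0x0,
nat_lit 0x0,
nat_lit 0x0,
nat_lit 0x0,
nat_lit 0x0,
nat_lit 0x0,
nat_lit 0x0,
nat_lit 0x0,
nat_lit 0x0,
nat_lit 0x0,
nat_lit 0x0,
nat_lit 0x0,
nat_lit 0x0,
nat_lit 0x0,
nat_lit 0x0,
nat_lit 0x0,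
nat_lit 0x0,
nat_lit 0x0,
nat_lit 0x0,
nat_lit 0x0,
nat_lit 0x0,
nat_lit 0x0,
nat_lit 0x0,
nat_lit 0x0,
nat_lit 0x0,
nat_lit 0x0,
nat_lit 0x0,
nat_lit 0x0,
nat_lit 0x0,
nat_lit 0x0,
nat_lit 0x0,
nat_lit 0x0,
nat_lit 0x0,
nat_lit 0x0,
nat_lit 0x0,
nat_lit 0x0,
nat_lit 0x0,
nat_lit 0x0,
nat_lit 0x0,
nat_lit 0x0,
nat_lit 0x0,
nat_lit 0x0,
nat_lit 0x0,
nat_lit 0x0,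
nat_lit 0x0,
nat_lit 0x0,
nat_lit 0x0,
nat_lit 0x0,
nat_lit 0x0,
nat_lit 0x0,
nat_lit 0x0,
nat_lit 0x0,
nat_lit 0x0,
nat_lit 0x0,
nat_lit 0x0,
nat_lit 0x0,
nat_lit 0x0,
nat_lit 0x0,
nat_lit 0x0,
nat_lit 0x0,
nat_lit 0x0,
nat_lit 0x0,
nat_lit 0x0,
nat_lit 0x0,
nat_lit 0x0,
nat_lit 0x0,
nat_lit 0x0,
nat_lit 0x0,
nat_lit 0x0,
nat_lit 0x0,
nat_lit 0x0,
nat_lit 0x0,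
nat_lit 0x0,
nat_lit 0x0,
nat_lit 0x0,
nat_lit 0x0,
nat_lit 0x0,
nat_lit 0x0,
nat_lit 0x0,
nat_lit 0x0,
nat_lit 0x0,
nat_lit 0x0,
nat_lit 0x0,
nat_lit 0x0,
nat_lit 0x0,
nat_lit 0x0,
nat_lit 0x0,
nat_lit 0x0,
nat_lit 0x0,
nat_lit 0x0,
nat_lit 0x0,
nat_lit 0x0,
nat_lit 0x0,
nat_lit 0x0,
nat_lit 0x0,
nat_lit 0x0,
nat_lit 0x0,
nat_lit 0x0,
nat_lit 0x0,
nat_lit 0x0,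
nat_lit 0x0,
nat_lit 0x0,
nat_lit 0x0,
nat_lit 0x0,
nat_lit 0x0,
nat_lit 0x0,
nat_lit 0x0,
nat_lit 0x0,
nat_lit 0x0,
nat_lit 0x0,
nat_lit 0x0,
nat_lit 0x0,
nat_lit 0x0,
nat_lit 0x0,
nat_lit 0x0,
nat_lit 0x0,
nat_lit 0x0,
nat_lit 0x0,
nat_lit 0x0,
nat_lit 0x0,
nat_lit 0x0,
nat_lit 0x0,
nat_lit 0x0,
nat_lit 0x0,
nat_lit 0x0,
nat_lit 0x0,
nat_lit 0x0,
nat_lit 0x0,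
nat_lit 0x0,
nat_lit 0x0,
nat_lit 0x0,
nat_lit 0x0,
nat_lit 0x0,
nat_lit 0x0,
nat_lit 0x0,
nat_lit 0x0,
nat_lit 0x0,
nat_lit 0x0,
nat_lit 0x0,
nat_lit 0x0,
nat_lit 0x0,
nat_lit 0x0,
nat_lit 0x0,
nat_lit 0x0,
nat_lit 0x0,
nat_lit 0x0,
nat_lit 0x0,
nat_lit 0x0,
nat_lit 0x0,
nat_lit 0x0,
nat_lit 0x0,
nat_lit 0x0,
nat_lit 0x0,
nat_lit 0x0,
nat_lit 0x0,
nat_lit 0x0,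
nat_lit 0x0,
nat_lit 0x0,
nat_lit 0x0,
nat_lit 0x0,
nat_lit 0x0,
nat_lit 0x0,
nat_lit 0x0,
nat_lit 0x0,
nat_lit 0x0,
nat_lit 0x0,
nat_lit 0x0,
nat_lit 0x0,
nat_lit 0x0,
nat_lit 0x0,
nat_lit 0x0,
nat_lit 0x0,
nat_lit 0x0,
nat_lit 0x0,
nat_lit 0x0,
nat_lit 0x0,
nat_lit 0x0,
nat_lit 0x0,
nat_lit 0x0,
nat_lit 0x0,
nat_lit 0x0,
nat_lit 0x0,
nat_lit 0x0,
nat_lit 0x0,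
nat_lit 0x0,
nat_lit 0x0,
nat_lit 0x0,
nat_lit 0x0,
nat_lit 0x0,
nat_lit 0x0,
nat_lit 0x0,
nat_lit 0x0,
nat_lit 0x0,
nat_lit 0x0,
nat_lit 0x0,
nat_lit 0x0,
nat_lit 0x0,
nat_lit 0x0,
nat_lit 0x0,
nat_lit 0x0,
nat_lit 0x0,
nat_lit 0x0,
nat_lit 0x0,
nat_lit 0x0,
nat_lit 0x0,
nat_lit 0x0,
nat_lit 0x0,
nat_lit 0x0,
nat_lit 0x0,
nat_lit 0x0,
nat_lit 0x0,
nat_lit 0x0,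
nat_lit 0x0,
nat_lit 0x0,
nat_lit 0x0,
nat_lit 0x0,
nat_lit 0x0,
nat_lit 0x0,
nat_lit 0x0,
nat_lit 0x0,
nat_lit 0x0,
nat_lit 0x0,
nat_lit 0x0,
nat_lit 0x0,
nat_lit 0x0,
nat_lit 0x0,
nat_lit 0x0,
nat_lit 0x0,
nat_lit 0x0,
nat_lit 0x0,
nat_lit 0x0,
nat_lit 0x0,
nat_lit 0x0,
nat_lit 0x0,
nat_lit 0x0,
nat_lit 0x0,
nat_lit 0x0,
nat_lit 0x0,
nat_lit 0x0,
nat_lit 0x0,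
nat_lit 0x0,
nat_lit 0x0,
nat_lit 0x0,
nat_lit 0x0,
nat_lit 0x0,
nat_lit 0x0,
nat_lit 0x0,
nat_lit 0x0,
nat_lit 0x0,
nat_lit 0x0,
nat_lit 0x0,
nat_lit 0x0,
nat_lit 0x0,
nat_lit 0x0,
nat_lit 0x0,
nat_lit 0x0,
nat_lit 0x0,
nat_lit 0x0,
nat_lit 0x0,
nat_lit 0x0,
nat_lit 0x0,
nat_lit 0x0,
nat_lit 0x0,
nat_lit 0x0,
nat_lit 0x0,
nat_lit 0x0,
nat_lit 0x0,
nat_lit 0x0,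
nat_lit 0x0,
nat_lit 0x0,
nat_lit 0x0,
nat_lit 0x0,
nat_lit 0x0,
nat_lit 0x0,
nat_lit 0x0,
nat_lit 0x0,
nat_lit 0x0,
nat_lit 0x0,
nat_lit 0x0,
nat_lit 0x0,
nat_lit 0x0,
nat_lit 0x0,
nat_lit 0x0,
nat_lit 0x0,
nat_lit 0x0,
nat_lit 0x0,
nat_lit 0x0,
nat_lit 0x0,
nat_lit 0x0,
nat_lit 0x0,
nat_lit 0x0,
nat_lit 0x0,
nat_lit 0x0,
nat_lit 0x0,
nat_lit 0x0,
nat_lit 0x0,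
nat_lit 0x0,
nat_lit 0x0,
nat_lit 0x0,
nat_lit 0x0,
nat_lit 0x0,
nat_lit 0x0,
nat_lit 0x0,
nat_lit 0x0,
nat_lit 0x0,
nat_lit 0x0,
nat_lit 0x0,
nat_lit 0x0,
nat_lit 0x0,
nat_lit 0x0,
nat_lit 0x0,
nat_lit 0x0,
nat_lit 0x0,
nat_lit 0x0,
nat_lit 0x0,
nat_lit 0x0,
nat_lit 0x0,
nat_lit 0x0,
nat_lit 0x0,
nat_lit 0x0,
nat_lit 0x0,
nat_lit 0x0,
nat_lit 0x0,
nat_lit 0x0,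
nat_lit 0x0,
nat_lit 0x0,
nat_lit 0x0,
nat_lit 0x0,
nat_lit 0x0]

theorem ok2000 : checkFacts facts ip words 256 subs 18473 items2000 2000 = true := by decide +kernel

theorem len2000 : Nat.beq items2000.length 500 = true := by decide +kernel

noncomputable def items2500 : List ℕ := [
nat_lit 0x0,
nat_lit 0x0,
nat_lit 0x0,
nat_lit 0x0,
nat_lit 0x0,
nat_lit 0x0,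
nat_lit 0x0,
nat_lit 0x0,
nat_lit 0x0,
nat_lit 0x0,
nat_lit 0x0,
nat_lit 0x0,
nat_lit 0x0,
nat_lit 0x0,
nat_lit 0x0,
nat_lit 0x0,
nat_lit 0x0,
nat_lit 0x0,
nat_lit 0x0,
nat_lit 0x0,
nat_lit 0x0,
nat_lit 0x0,
nat_lit 0x0,
nat_lit 0x0,
nat_lit 0x0,
nat_lit 0x0,
nat_lit 0x0,
nat_lit 0x0,
nat_lit 0x0,
nat_lit 0x0,
nat_lit 0x0,
nat_lit 0x0,
nat_lit 0x0,
nat_lit 0x0,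
nat_lit 0x0,
nat_lit 0x0,
nat_lit 0x0,
nat_lit 0x0,
nat_lit 0x0,
nat_lit 0x0,
nat_lit 0x0,
nat_lit 0x0,
nat_lit 0x0,
nat_lit 0x0,
nat_lit 0x0,
nat_lit 0x0,
nat_lit 0x0,
nat_lit 0x0,
nat_lit 0x0,
nat_lit 0x0,
nat_lit 0x0,
nat_lit 0x0,
nat_lit 0x0,
nat_lit 0x0,
nat_lit 0x0,
nat_lit 0x0,
nat_lit 0x0,
nat_lit 0x0,
nat_lit 0x0,
nat_lit 0x0,
nat_lit 0x0,
nat_lit 0x0,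
nat_lit 0x0,
nat_lit 0x0,
nat_lit 0x0,
nat_lit 0x0,
nat_lit 0x0,
nat_lit 0x0,
nat_lit 0x0,
nat_lit 0x0,
nat_lit 0x0,
nat_lit 0x0,
nat_lit 0x0,
nat_lit 0x0,
nat_lit 0x0,
nat_lit 0x0,
nat_lit 0x0,
nat_lit 0x0,
nat_lit 0x0,
nat_lit 0x0,
nat_lit 0x0,
nat_lit 0x0,
nat_lit 0x0,
nat_lit 0x0,
nat_lit 0x0,
nat_lit 0x0,
nat_lit 0x0,
nat_lit 0x0,
nat_lit 0x0,
nat_lit 0x0,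
nat_lit 0x0,
nat_lit 0x0,
nat_lit 0x0,
nat_lit 0x0,
nat_lit 0x0,
nat_lit 0x0,
nat_lit 0x0,
nat_lit 0x0,
nat_lit 0x0,
nat_lit 0x0,
nat_lit 0x0,
nat_lit 0x0,
nat_lit 0x0,
nat_lit 0x0,
nat_lit 0x0,
nat_lit 0x0,
nat_lit 0x0,
nat_lit 0x0,
nat_lit 0x0,
nat_lit 0x0,
nat_lit 0x0,
nat_lit 0x0,
nat_lit 0x0,
nat_lit 0x0,
nat_lit 0x0,
nat_lit 0x0,
nat_lit 0x0,
nat_lit 0x0,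
nat_lit 0x0,
nat_lit 0x0,
nat_lit 0x0,
nat_lit 0x0,
nat_lit 0x0,
nat_lit 0x0,
nat_lit 0x0,
nat_lit 0x0,
nat_lit 0x0,
nat_lit 0x0,
nat_lit 0x0,
nat_lit 0x0,
nat_lit 0x0,
nat_lit 0x0,
nat_lit 0x0,
nat_lit 0x0,
nat_lit 0x0,
nat_lit 0x0,
nat_lit 0x0,
nat_lit 0x0,
nat_lit 0x0,
nat_lit 0x0,
nat_lit 0x0,
nat_lit 0x0,
nat_lit 0x0,
nat_lit 0x0,
nat_lit 0x0,
nat_lit 0x0,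
nat_lit 0x0,
nat_lit 0x0,
nat_lit 0x0,
nat_lit 0x0,
nat_lit 0x0,
nat_lit 0x0,
nat_lit 0x0,
nat_lit 0x0,
nat_lit 0x0,
nat_lit 0x0,
nat_lit 0x0,
nat_lit 0x0,
nat_lit 0x0,
nat_lit 0x0,
nat_lit 0x0,
nat_lit 0x0,
nat_lit 0x0,
nat_lit 0x0,
nat_lit 0x0,
nat_lit 0x0,
nat_lit 0x0,
nat_lit 0x0,
nat_lit 0x0,
nat_lit 0x0,
nat_lit 0x0,
nat_lit 0x0,
nat_lit 0x0,
nat_lit 0x0,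
nat_lit 0x0,
nat_lit 0x0,
nat_lit 0x0,
nat_lit 0x0,
nat_lit 0x0,
nat_lit 0x0,
nat_lit 0x0,
nat_lit 0x0,
nat_lit 0x0,
nat_lit 0x0,
nat_lit 0x0,
nat_lit 0x0,
nat_lit 0x0,
nat_lit 0x0,
nat_lit 0x0,
nat_lit 0x0,
nat_lit 0x0,
nat_lit 0x0,
nat_lit 0x0,
nat_lit 0x0,
nat_lit 0x0,
nat_lit 0x0,
nat_lit 0x0,
nat_lit 0x0,
nat_lit 0x0,
nat_lit 0x0,
nat_lit 0x0,
nat_lit 0x0,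
nat_lit 0x0,
nat_lit 0x0,
nat_lit 0x0,
nat_lit 0x0,
nat_lit 0x0,
nat_lit 0x0,
nat_lit 0x0,
nat_lit 0x0,
nat_lit 0x0,
nat_lit 0x0,
nat_lit 0x0,
nat_lit 0x0,
nat_lit 0x0,
nat_lit 0x0,
nat_lit 0x0,
nat_lit 0x0,
nat_lit 0x0,
nat_lit 0x0,
nat_lit 0x0,
nat_lit 0x0,
nat_lit 0x0,
nat_lit 0x0,
nat_lit 0x0,
nat_lit 0x0,
nat_lit 0x0,
nat_lit 0x0,
nat_lit 0x0,
nat_lit 0x0,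
nat_lit 0x0,
nat_lit 0x0,
nat_lit 0x0,
nat_lit 0x0,
nat_lit 0x0,
nat_lit 0x0,
nat_lit 0x0,
nat_lit 0x0,
nat_lit 0x0,
nat_lit 0x0,
nat_lit 0x0,
nat_lit 0x0,
nat_lit 0x0,
nat_lit 0x0,
nat_lit 0x0,
nat_lit 0x0,
nat_lit 0x0,
nat_lit 0x0,
nat_lit 0x0,
nat_lit 0x0,
nat_lit 0x0,
nat_lit 0x0,
nat_lit 0x0,
nat_lit 0x0,
nat_lit 0x0,
nat_lit 0x0,
nat_lit 0x0,
nat_lit 0x0,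
nat_lit 0x0,
nat_lit 0x0,
nat_lit 0x0,
nat_lit 0x0,
nat_lit 0x0,
nat_lit 0x0,
nat_lit 0x0,
nat_lit 0x0,
nat_lit 0x0,
nat_lit 0x0,
nat_lit 0x0,
nat_lit 0x0,
nat_lit 0x0,
nat_lit 0x0,
nat_lit 0x0,
nat_lit 0x0,
nat_lit 0x0,
nat_lit 0x0,
nat_lit 0x0,
nat_lit 0x0,
nat_lit 0x0,
nat_lit 0x0,
nat_lit 0x0,
nat_lit 0x0,
nat_lit 0x0,
nat_lit 0x0,
nat_lit 0x0,
nat_lit 0x0,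
nat_lit 0x0,
nat_lit 0x0,
nat_lit 0x0,
nat_lit 0x0,
nat_lit 0x0,
nat_lit 0x0,
nat_lit 0x0,
nat_lit 0x0,
nat_lit 0x0,
nat_lit 0x0,
nat_lit 0x0,
nat_lit 0x0,
nat_lit 0x0,
nat_lit 0x0,
nat_lit 0x0,
nat_lit 0x0,
nat_lit 0x0,
nat_lit 0x0,
nat_lit 0x0,
nat_lit 0x0,
nat_lit 0x0,
nat_lit 0x0,
nat_lit 0x0,
nat_lit 0x0,
nat_lit 0x0,
nat_lit 0x0,
nat_lit 0x0,
nat_lit 0x0,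
nat_lit 0x0,
nat_lit 0x0,
nat_lit 0x0,
nat_lit 0x0,
nat_lit 0x0,
nat_lit 0x0,
nat_lit 0x0,
nat_lit 0x0,
nat_lit 0x0,
nat_lit 0x0,
nat_lit 0x0,
nat_lit 0x0,
nat_lit 0x0,
nat_lit 0x0,
nat_lit 0x0,
nat_lit 0x0,
nat_lit 0x0,
nat_lit 0x0,
nat_lit 0x0,
nat_lit 0x0,
nat_lit 0x0,
nat_lit 0x0,
nat_lit 0x0,
nat_lit 0x0,
nat_lit 0x0,
nat_lit 0x0,
nat_lit 0x0,
nat_lit 0x0,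
nat_lit 0x0,
nat_lit 0x0,
nat_lit 0x0,
nat_lit 0x0,
nat_lit 0x0,
nat_lit 0x0,
nat_lit 0x0,
nat_lit 0x0,
nat_lit 0x0,
nat_lit 0x0,
nat_lit 0x0,
nat_lit 0x0,
nat_lit 0x0,
nat_lit 0x0,
nat_lit 0x0,
nat_lit 0x0,
nat_lit 0x0,
nat_lit 0x0,
nat_lit 0x0,
nat_lit 0x0,
nat_lit 0x0,
nat_lit 0x0,
nat_lit 0x0,
nat_lit 0x0,
nat_lit 0x0,
nat_lit 0x0,
nat_lit 0x0,
nat_lit 0x0,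
nat_lit 0x0,
nat_lit 0x0,
nat_lit 0x0,
nat_lit 0x0,
nat_lit 0x0,
nat_lit 0x0,
nat_lit 0x0,
nat_lit 0x0,
nat_lit 0x0,
nat_lit 0x0,
nat_lit 0x0,
nat_lit 0x0,
nat_lit 0x0,
nat_lit 0x0,
nat_lit 0x0,
nat_lit 0x0,
nat_lit 0x0,
nat_lit 0x0,
nat_lit 0x0,
nat_lit 0x0,
nat_lit 0x0,
nat_lit 0x0,
nat_lit 0x0,
nat_lit 0x0,
nat_lit 0x0,
nat_lit 0x0,
nat_lit 0x0,
nat_lit 0x0,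
nat_lit 0x0,
nat_lit 0x0,
nat_lit 0x0,
nat_lit 0x0,
nat_lit 0x0,
nat_lit 0x0,
nat_lit 0x0,
nat_lit 0x0,
nat_lit 0x0,
nat_lit 0x0,
nat_lit 0x0,
nat_lit 0x0,
nat_lit 0x0,
nat_lit 0x0,
nat_lit 0x0,
nat_lit 0x0,
nat_lit 0x0,
nat_lit 0x0,
nat_lit 0x0,
nat_lit 0x0,
nat_lit 0x0,
nat_lit 0x0,
nat_lit 0x0,
nat_lit 0x0,
nat_lit 0x0,
nat_lit 0x0,
nat_lit 0x0,
nat_lit 0x0,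
nat_lit 0x0,
nat_lit 0x0,
nat_lit 0x0,
nat_lit 0x0,
nat_lit 0x0,
nat_lit 0x0,
nat_lit 0x0,
nat_lit 0x0,
nat_lit 0x0,
nat_lit 0x0,
nat_lit 0x0,
nat_lit 0x0,
nat_lit 0x0,
nat_lit 0x0,
nat_lit 0x0,
nat_lit 0x0,
nat_lit 0x0,
nat_lit 0x0,
nat_lit 0x0,
nat_lit 0x0,
nat_lit 0x0,
nat_lit 0x0,
nat_lit 0x0,
nat_lit 0x0,
nat_lit 0x0,
nat_lit 0x0,
nat_lit 0x0,
nat_lit 0x0,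
nat_lit 0x0,
nat_lit 0x0,
nat_lit 0x0,
nat_lit 0x0,
nat_lit 0x0,
nat_lit 0x0,
nat_lit 0x0,
nat_lit 0x0,
nat_lit 0x0,
nat_lit 0x0,
nat_lit 0x0,
nat_lit 0x0,
nat_lit 0x0,
nat_lit 0x0,
nat_lit 0x0,
nat_lit 0x0,
nat_lit 0x0,
nat_lit 0x0,
nat_lit 0x0,
nat_lit 0x0,
nat_lit 0x0,
nat_lit 0x0,
nat_lit 0x0,
nat_lit 0x0,
nat_lit 0x0,
nat_lit 0x0,
nat_lit 0x0,
nat_lit 0x0,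
nat_lit 0x0,
nat_lit 0x0,
nat_lit 0x0,
nat_lit 0x0,
nat_lit 0x0,
nat_lit 0x0,
nat_lit 0x0,
nat_lit 0x0,
nat_lit 0x0,
nat_lit 0x0,
nat_lit 0x0,
nat_lit 0x0,
nat_lit 0x0,
nat_lit 0x0,
nat_lit 0x0,
nat_lit 0x0,
nat_lit 0x0,
nat_lit 0x0]

theorem ok2500 : checkFacts facts ip words 256 subs 18473 items2500 2500 = true := by decide +kernel

theorem len2500 : Nat.beq items2500.length 500 = true := by decide +kernel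

noncomputable def items3000 : List ℕ := [
nat_lit 0x0,
nat_lit 0x0,
nat_lit 0x0,
nat_lit 0x0,
nat_lit 0x0,
nat_lit 0x0,
nat_lit 0x0,
nat_lit 0x0,
nat_lit 0x0,
nat_lit 0x0,
nat_lit 0x0,
nat_lit 0x0,
nat_lit 0x0,
nat_lit 0x0,
nat_lit 0x0,
nat_lit 0x0,
nat_lit 0x0,
nat_lit 0x0,
nat_lit 0x0,
nat_lit 0x0,
nat_lit 0x0,
nat_lit 0x0,
nat_lit 0x0,
nat_lit 0x0,
nat_lit 0x0,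
nat_lit 0x0,
nat_lit 0x0,
nat_lit 0x0,
nat_lit 0x0,
nat_lit 0x0,
nat_lit 0x0,
nat_lit 0x0,
nat_lit 0x0,
nat_lit 0x0,
nat_lit 0x0,
nat_lit 0x0,
nat_lit 0x0,
nat_lit 0x0,
nat_lit 0x0,
nat_lit 0x0,
nat_lit 0x0,
nat_lit 0x0,
nat_lit 0x0,
nat_lit 0x0,
nat_lit 0x0,
nat_lit 0x0,
nat_lit 0x0,
nat_lit 0x0,
nat_lit 0x0,
nat_lit 0x0,
nat_lit 0x0,
nat_lit 0x0,
nat_lit 0x0,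
nat_lit 0x0,
nat_lit 0x0,
nat_lit 0x0,
nat_lit 0x0,
nat_lit 0x0,
nat_lit 0x0,
nat_lit 0x0,
nat_lit 0x0,
nat_lit 0x0,
nat_lit 0x0,
nat_lit 0x0,
nat_lit 0x0,
nat_lit 0x0,
nat_lit 0x0,
nat_lit 0x0,
nat_lit 0x0,
nat_lit 0x0,
nat_lit 0x0,
nat_lit 0x0,
nat_lit 0x0,
nat_lit 0x0,
nat_lit 0x0,
nat_lit 0x0,
nat_lit 0x0,
nat_lit 0x0,
nat_lit 0x0,
nat_lit 0x0,
nat_lit 0x0,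
nat_lit 0x0,
nat_lit 0x0,
nat_lit 0x0,
nat_lit 0x0,
nat_lit 0x0,
nat_lit 0x0,
nat_lit 0x0,
nat_lit 0x0,
nat_lit 0x0,
nat_lit 0x0,
nat_lit 0x0,
nat_lit 0x0,
nat_lit 0x0,
nat_lit 0x0,
nat_lit 0x0,
nat_lit 0x0,
nat_lit 0x0,
nat_lit 0x0,
nat_lit 0x0,
nat_lit 0x0,
nat_lit 0x0,
nat_lit 0x0,
nat_lit 0x0,
nat_lit 0x0,
nat_lit 0x0,
nat_lit 0x0,
nat_lit 0x0,
nat_lit 0x0,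
nat_lit 0x0,
nat_lit 0x0,
nat_lit 0x0,
nat_lit 0x0,
nat_lit 0x0,
nat_lit 0x0,
nat_lit 0x0,
nat_lit 0x0,
nat_lit 0x0,
nat_lit 0x0,
nat_lit 0x0,
nat_lit 0x0,
nat_lit 0x0,
nat_lit 0x0,
nat_lit 0x0,
nat_lit 0x0,
nat_lit 0x0,
nat_lit 0x0,
nat_lit 0x0,
nat_lit 0x0,
nat_lit 0x0,
nat_lit 0x0,
nat_lit 0x0,
nat_lit 0x0,
nat_lit 0x0,
nat_lit 0x0,
nat_lit 0x0,
nat_lit 0x0,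
nat_lit 0x0,
nat_lit 0x0,
nat_lit 0x0,
nat_lit 0x0,
nat_lit 0x0,
nat_lit 0x0,
nat_lit 0x0,
nat_lit 0x0,
nat_lit 0x0,
nat_lit 0x0,
nat_lit 0x0,
nat_lit 0x0,
nat_lit 0x0,
nat_lit 0x0,
nat_lit 0x0,
nat_lit 0x0,
nat_lit 0x0,
nat_lit 0x0,
nat_lit 0x0,
nat_lit 0x0,
nat_lit 0x0,
nat_lit 0x0,
nat_lit 0x0,
nat_lit 0x0,
nat_lit 0x0,
nat_lit 0x0,
nat_lit 0x0,
nat_lit 0x0,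
nat_lit 0x0,
nat_lit 0x0,
nat_lit 0x0,
nat_lit 0x0,
nat_lit 0x0,
nat_lit 0x0,
nat_lit 0x0,
nat_lit 0x0,
nat_lit 0x0,
nat_lit 0x0,
nat_lit 0x0,
nat_lit 0x0,
nat_lit 0x0,
nat_lit 0x0,
nat_lit 0x0,
nat_lit 0x0,
nat_lit 0x0,
nat_lit 0x0,
nat_lit 0x0,
nat_lit 0x0,
nat_lit 0x0,
nat_lit 0x0,
nat_lit 0x0,
nat_lit 0x0,
nat_lit 0x0,
nat_lit 0x0,
nat_lit 0x0,
nat_lit 0x0,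
nat_lit 0x0,
nat_lit 0x0,
nat_lit 0x0,
nat_lit 0x0,
nat_lit 0x0,
nat_lit 0x0,
nat_lit 0x0,
nat_lit 0x0,
nat_lit 0x0,
nat_lit 0x0,
nat_lit 0x0,
nat_lit 0x0,
nat_lit 0x0,
nat_lit 0x0,
nat_lit 0x0,
nat_lit 0x0,
nat_lit 0x0,
nat_lit 0x0,
nat_lit 0x0,
nat_lit 0x0,
nat_lit 0x0,
nat_lit 0x0,
nat_lit 0x0,
nat_lit 0x0,
nat_lit 0x0,
nat_lit 0x0,
nat_lit 0x0,
nat_lit 0x0,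
nat_lit 0x0,
nat_lit 0x0,
nat_lit 0x0,
nat_lit 0x0,
nat_lit 0x0,
nat_lit 0x0,
nat_lit 0x0,
nat_lit 0x0,
nat_lit 0x0,
nat_lit 0x0,
nat_lit 0x0,
nat_lit 0x0,
nat_lit 0x0,
nat_lit 0x0,
nat_lit 0x0,
nat_lit 0x0,
nat_lit 0x0,
nat_lit 0x0,
nat_lit 0x0,
nat_lit 0x0,
nat_lit 0x0,
nat_lit 0x0,
nat_lit 0x0,
nat_lit 0x0,
nat_lit 0x0,
nat_lit 0x0,
nat_lit 0x0,
nat_lit 0x0,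
nat_lit 0x0,
nat_lit 0x0,
nat_lit 0x0,
nat_lit 0x0,
nat_lit 0x0,
nat_lit 0x0,
nat_lit 0x0,
nat_lit 0x0,
nat_lit 0x0,
nat_lit 0x0,
nat_lit 0x0,
nat_lit 0x0,
nat_lit 0x0,
nat_lit 0x0,
nat_lit 0x0,
nat_lit 0x0,
nat_lit 0x0,
nat_lit 0x0,
nat_lit 0x0,
nat_lit 0x0,
nat_lit 0x0,
nat_lit 0x0,
nat_lit 0x0,
nat_lit 0x0,
nat_lit 0x0,
nat_lit 0x0,
nat_lit 0x0,
nat_lit 0x0,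
nat_lit 0x0,
nat_lit 0x0,
nat_lit 0x0,
nat_lit 0x0,
nat_lit 0x0,
nat_lit 0x0,
nat_lit 0x0,
nat_lit 0x0,
nat_lit 0x0,
nat_lit 0x0,
nat_lit 0x0,
nat_lit 0x0,
nat_lit 0x0,
nat_lit 0x0,
nat_lit 0x0,
nat_lit 0x0,
nat_lit 0x0,
nat_lit 0x0,
nat_lit 0x0,
nat_lit 0x0,
nat_lit 0x0,
nat_lit 0x0,
nat_lit 0x0,
nat_lit 0x0,
nat_lit 0x0,
nat_lit 0x0,
nat_lit 0x0,
nat_lit 0x0,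
nat_lit 0x0,
nat_lit 0x0,
nat_lit 0x0,
nat_lit 0x0,
nat_lit 0x0,
nat_lit 0x0,
nat_lit 0x0,
nat_lit 0x0,
nat_lit 0x0,
nat_lit 0x0,
nat_lit 0x0,
nat_lit 0x0,
nat_lit 0x0,
nat_lit 0x0,
nat_lit 0x0,
nat_lit 0x0,
nat_lit 0x0,
nat_lit 0x0,
nat_lit 0x0,
nat_lit 0x0,
nat_lit 0x0,
nat_lit 0x0,
nat_lit 0x0,
nat_lit 0x0,
nat_lit 0x0,
nat_lit 0x0,
nat_lit 0x0,
nat_lit 0x0,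
nat_lit 0x0,
nat_lit 0x0,
nat_lit 0x0,
nat_lit 0x0,
nat_lit 0x0,
nat_lit 0x0,
nat_lit 0x0,
nat_lit 0x0,
nat_lit 0x0,
nat_lit 0x0,
nat_lit 0x0,
nat_lit 0x0,
nat_lit 0x0,
nat_lit 0x0,
nat_lit 0x0,
nat_lit 0x0,
nat_lit 0x0,
nat_lit 0x0,
nat_lit 0x0,
nat_lit 0x0,
nat_lit 0x0,
nat_lit 0x0,
nat_lit 0x0,
nat_lit 0x0,
nat_lit 0x0,
nat_lit 0x0,
nat_lit 0x0,
nat_lit 0x0,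
nat_lit 0x0,
nat_lit 0x0,
nat_lit 0x0,
nat_lit 0x0,
nat_lit 0x0,
nat_lit 0x0,
nat_lit 0x0,
nat_lit 0x0,
nat_lit 0x0,
nat_lit 0x0,
nat_lit 0x0,
nat_lit 0x0,
nat_lit 0x0,
nat_lit 0x0,
nat_lit 0x0,
nat_lit 0x0,
nat_lit 0x0,
nat_lit 0x0,
nat_lit 0x0,
nat_lit 0x0,
nat_lit 0x0,
nat_lit 0x0,
nat_lit 0x0,
nat_lit 0x0,
nat_lit 0x0,
nat_lit 0x0,
nat_lit 0x0,
nat_lit 0x0,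
nat_lit 0x0,
nat_lit 0x0,
nat_lit 0x0,
nat_lit 0x0,
nat_lit 0x0,
nat_lit 0x0,
nat_lit 0x0,
nat_lit 0x0,
nat_lit 0x0,
nat_lit 0x0,
nat_lit 0x0,
nat_lit 0x0,
nat_lit 0x0,
nat_lit 0x0,
nat_lit 0x0,
nat_lit 0x0,
nat_lit 0x0,
nat_lit 0x0,
nat_lit 0x0,
nat_lit 0x0,
nat_lit 0x0,
nat_lit 0x0,
nat_lit 0x0,
nat_lit 0x0,
nat_lit 0x0,
nat_lit 0x0,
nat_lit 0x0,
nat_lit 0x0,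
nat_lit 0x0,
nat_lit 0x0,
nat_lit 0x0,
nat_lit 0x0,
nat_lit 0x0,
nat_lit 0x0,
nat_lit 0x0,
nat_lit 0x0,
nat_lit 0x0,
nat_lit 0x0,
nat_lit 0x0,
nat_lit 0x0,
nat_lit 0x0,
nat_lit 0x0,
nat_lit 0x0,
nat_lit 0x0,
nat_lit 0x0,
nat_lit 0x0,
nat_lit 0x0,
nat_lit 0x0,
nat_lit 0x0,
nat_lit 0x0,
nat_lit 0x0,
nat_lit 0x0,
nat_lit 0x0,
nat_lit 0x0,
nat_lit 0x0,
nat_lit 0x0,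
nat_lit 0x0,
nat_lit 0x0,
nat_lit 0x0,
nat_lit 0x0,
nat_lit 0x0,
nat_lit 0x0,
nat_lit 0x0,
nat_lit 0x0,
nat_lit 0x0,
nat_lit 0x0,
nat_lit 0x0,
nat_lit 0x0,
nat_lit 0x0,
nat_lit 0x0,
nat_lit 0x0,
nat_lit 0x0,
nat_lit 0x0,
nat_lit 0x0,
nat_lit 0x0,
nat_lit 0x0,
nat_lit 0x0,
nat_lit 0x0,
nat_lit 0x0,
nat_lit 0x0,
nat_lit 0x0,
nat_lit 0x0,
nat_lit 0x0,
nat_lit 0x0,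
nat_lit 0x0,
nat_lit 0x0,
nat_lit 0x0,
nat_lit 0x0,
nat_lit 0x0,
nat_lit 0x0,
nat_lit 0x0,
nat_lit 0x0,
nat_lit 0x0,
nat_lit 0x0,
nat_lit 0x0,
nat_lit 0x0,
nat_lit 0x0,
nat_lit 0x0,
nat_lit 0x0,
nat_lit 0x0,
nat_lit 0x0,
nat_lit 0x0,
nat_lit 0x0,
nat_lit 0x0,
nat_lit 0x0,
nat_lit 0x0,
nat_lit 0x0,
nat_lit 0x0,
nat_lit 0x0,
nat_lit 0x0,
nat_lit 0x0]

theorem ok3000 : checkFacts facts ip words 256 subs 18473 items3000 3000 = true := by decide +kernel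

theorem len3000 : Nat.beq items3000.length 500 = true := by decide +kernel

noncomputable def items3500 : List ℕ := [
nat_lit 0x0,
nat_lit 0x0,
nat_lit 0x0,
nat_lit 0x0,
nat_lit 0x0,
nat_lit 0x0,
nat_lit 0x0,
nat_lit 0x0,
nat_lit 0x0,
nat_lit 0x0,
nat_lit 0x0,
nat_lit 0x0,
nat_lit 0x0,
nat_lit 0x0,
nat_lit 0x0,
nat_lit 0x0,
nat_lit 0x0,
nat_lit 0x0,
nat_lit 0x0,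
nat_lit 0x0,
nat_lit 0x0,
nat_lit 0x0,
nat_lit 0x0,
nat_lit 0x0,
nat_lit 0x0,
nat_lit 0x0,
nat_lit 0x0,
nat_lit 0x0,
nat_lit 0x0,
nat_lit 0x0,
nat_lit 0x0,
nat_lit 0x0,
nat_lit 0x0,
nat_lit 0x0,
nat_lit 0x0,
nat_lit 0x0,
nat_lit 0x0,
nat_lit 0x0,
nat_lit 0x0,
nat_lit 0x0,
nat_lit 0x0,
nat_lit 0x0,
nat_lit 0x0,
nat_lit 0x0,
nat_lit 0x0,
nat_lit 0x0,
nat_lit 0x0,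
nat_lit 0x0,
nat_lit 0x0,
nat_lit 0x0,
nat_lit 0x0,
nat_lit 0x0,
nat_lit 0x0,
nat_lit 0x0,
nat_lit 0x0,
nat_lit 0x0,
nat_lit 0x0,
nat_lit 0x0,
nat_lit 0x0,
nat_lit 0x0,
nat_lit 0x0,
nat_lit 0x0,
nat_lit 0x0,
nat_lit 0x0,
nat_lit 0x0,
nat_lit 0x0,
nat_lit 0x0,
nat_lit 0x0,
nat_lit 0x0,
nat_lit 0x0,
nat_lit 0x0,
nat_lit 0x0,
nat_lit 0x0,
nat_lit 0x0,
nat_lit 0x0,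
nat_lit 0x0,
nat_lit 0x0,
nat_lit 0x0,
nat_lit 0x0,
nat_lit 0x0,
nat_lit 0x0,
nat_lit 0x0,
nat_lit 0x0,
nat_lit 0x0,
nat_lit 0x0,
nat_lit 0x0,
nat_lit 0x0,
nat_lit 0x0,
nat_lit 0x0,
nat_lit 0x0,
nat_lit 0x0,
nat_lit 0x0,
nat_lit 0x0,
nat_lit 0x0,
nat_lit 0x0,
nat_lit 0x0,
nat_lit 0x0,
nat_lit 0x0,
nat_lit 0x0,
nat_lit 0x0,
nat_lit 0x0,
nat_lit 0x0,
nat_lit 0x0,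
nat_lit 0x0,
nat_lit 0x0,
nat_lit 0x0,
nat_lit 0x0,
nat_lit 0x0,
nat_lit 0x0,
nat_lit 0x0,
nat_lit 0x0,
nat_lit 0x0,
nat_lit 0x0,
nat_lit 0x0,
nat_lit 0x0,
nat_lit 0x0,
nat_lit 0x0,
nat_lit 0x0,
nat_lit 0x0,
nat_lit 0x0,
nat_lit 0x0,
nat_lit 0x0,
nat_lit 0x0,
nat_lit 0x0,
nat_lit 0x0,
nat_lit 0x0,
nat_lit 0x0,
nat_lit 0x0,
nat_lit 0x0,
nat_lit 0x0,
nat_lit 0x0,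
nat_lit 0x0,
nat_lit 0x0,
nat_lit 0x0,
nat_lit 0x0,
nat_lit 0x0,
nat_lit 0x0,
nat_lit 0x0,
nat_lit 0x0,
nat_lit 0x0,
nat_lit 0x0,
nat_lit 0x0,
nat_lit 0x0,
nat_lit 0x0,
nat_lit 0x0,
nat_lit 0x0,
nat_lit 0x0,
nat_lit 0x0,
nat_lit 0x0,
nat_lit 0x0,
nat_lit 0x0,
nat_lit 0x0,
nat_lit 0x0,
nat_lit 0x0,
nat_lit 0x0,
nat_lit 0x0,
nat_lit 0x0,
nat_lit 0x0,
nat_lit 0x0,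
nat_lit 0x0,
nat_lit 0x0,
nat_lit 0x0,
nat_lit 0x0,
nat_lit 0x0,
nat_lit 0x0,
nat_lit 0x0,
nat_lit 0x0,
nat_lit 0x0,
nat_lit 0x0,
nat_lit 0x0,
nat_lit 0x0,
nat_lit 0x0,
nat_lit 0x0,
nat_lit 0x0,
nat_lit 0x0,
nat_lit 0x0,
nat_lit 0x0,
nat_lit 0x0,
nat_lit 0x0,
nat_lit 0x0,
nat_lit 0x0,
nat_lit 0x0,
nat_lit 0x0,
nat_lit 0x0,
nat_lit 0x0,
nat_lit 0x0,
nat_lit 0x0,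
nat_lit 0x0,
nat_lit 0x0,
nat_lit 0x0,
nat_lit 0x0,
nat_lit 0x0,
nat_lit 0x0,
nat_lit 0x0,
nat_lit 0x0,
nat_lit 0x0,
nat_lit 0x0,
nat_lit 0x0,
nat_lit 0x0,
nat_lit 0x0,
nat_lit 0x0,
nat_lit 0x0,
nat_lit 0x0,
nat_lit 0x0,
nat_lit 0x0,
nat_lit 0x0,
nat_lit 0x0,
nat_lit 0x0,
nat_lit 0x0,
nat_lit 0x0,
nat_lit 0x0,
nat_lit 0x0,
nat_lit 0x0,
nat_lit 0x0,
nat_lit 0x0,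
nat_lit 0x0,
nat_lit 0x0,
nat_lit 0x0,
nat_lit 0x0,
nat_lit 0x0,
nat_lit 0x0,
nat_lit 0x0,
nat_lit 0x0,
nat_lit 0x0,
nat_lit 0x0,
nat_lit 0x0,
nat_lit 0x0,
nat_lit 0x0,
nat_lit 0x0,
nat_lit 0x0,
nat_lit 0x0,
nat_lit 0x0,
nat_lit 0x0,
nat_lit 0x0,
nat_lit 0x0,
nat_lit 0x0,
nat_lit 0x0,
nat_lit 0x0,
nat_lit 0x0,
nat_lit 0x0,
nat_lit 0x0,
nat_lit 0x0,
nat_lit 0x0,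
nat_lit 0x0,
nat_lit 0x0,
nat_lit 0x0,
nat_lit 0x0,
nat_lit 0x0,
nat_lit 0x0,
nat_lit 0x0,
nat_lit 0x0,
nat_lit 0x0,
nat_lit 0x0,
nat_lit 0x0,
nat_lit 0x0,
nat_lit 0x0,
nat_lit 0x0,
nat_lit 0x0,
nat_lit 0x0,
nat_lit 0x0,
nat_lit 0x0,
nat_lit 0x0,
nat_lit 0x0,
nat_lit 0x0,
nat_lit 0x0,
nat_lit 0x0,
nat_lit 0x0,
nat_lit 0x0,
nat_lit 0x0,
nat_lit 0x0,
nat_lit 0x0,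
nat_lit 0x0,
nat_lit 0x0,
nat_lit 0x0,
nat_lit 0x0,
nat_lit 0x0,
nat_lit 0x0,
nat_lit 0x0,
nat_lit 0x0,
nat_lit 0x0,
nat_lit 0x0,
nat_lit 0x0,
nat_lit 0x0,
nat_lit 0x0,
nat_lit 0x0,
nat_lit 0x0,
nat_lit 0x0,
nat_lit 0x0,
nat_lit 0x0,
nat_lit 0x0,
nat_lit 0x0,
nat_lit 0x0,
nat_lit 0x0,
nat_lit 0x0,
nat_lit 0x0,
nat_lit 0x0,
nat_lit 0x0,
nat_lit 0x0,
nat_lit 0x0,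
nat_lit 0x0,
nat_lit 0x0,
nat_lit 0x0,
nat_lit 0x0,
nat_lit 0x0,
nat_lit 0x0,
nat_lit 0x0,
nat_lit 0x0,
nat_lit 0x0,
nat_lit 0x0,
nat_lit 0x0,
nat_lit 0x0,
nat_lit 0x0,
nat_lit 0x0,
nat_lit 0x0,
nat_lit 0x0,
nat_lit 0x0,
nat_lit 0x0,
nat_lit 0x0,
nat_lit 0x0,
nat_lit 0x0,
nat_lit 0x0,
nat_lit 0x0,
nat_lit 0x0,
nat_lit 0x0,
nat_lit 0x0,
nat_lit 0x0,
nat_lit 0x0,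
nat_lit 0x0,
nat_lit 0x0,
nat_lit 0x0,
nat_lit 0x0,
nat_lit 0x0,
nat_lit 0x0,
nat_lit 0x0,
nat_lit 0x0,
nat_lit 0x0,
nat_lit 0x0,
nat_lit 0x0,
nat_lit 0x0,
nat_lit 0x0,
nat_lit 0x0,
nat_lit 0x0,
nat_lit 0x0,
nat_lit 0x0,
nat_lit 0x0,
nat_lit 0x0,
nat_lit 0x0,
nat_lit 0x0,
nat_lit 0x0,
nat_lit 0x0,
nat_lit 0x0,
nat_lit 0x0,
nat_lit 0x0,
nat_lit 0x0,
nat_lit 0x0,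
nat_lit 0x0,
nat_lit 0x0,
nat_lit 0x0,
nat_lit 0x0,
nat_lit 0x0,
nat_lit 0x0,
nat_lit 0x0,
nat_lit 0x0,
nat_lit 0x0,
nat_lit 0x0,
nat_lit 0x0,
nat_lit 0x0,
nat_lit 0x0,
nat_lit 0x0,
nat_lit 0x0,
nat_lit 0x0,
nat_lit 0x0,
nat_lit 0x0,
nat_lit 0x0,
nat_lit 0x0,
nat_lit 0x0,
nat_lit 0x0,
nat_lit 0x0,
nat_lit 0x0,
nat_lit 0x0,
nat_lit 0x0,
nat_lit 0x0,
nat_lit 0x0,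
nat_lit 0x0,
nat_lit 0x0,
nat_lit 0x0,
nat_lit 0x0,
nat_lit 0x0,
nat_lit 0x0,
nat_lit 0x0,
nat_lit 0x0,
nat_lit 0x0,
nat_lit 0x0,
nat_lit 0x0,
nat_lit 0x0,
nat_lit 0x0,
nat_lit 0x0,
nat_lit 0x0,
nat_lit 0x0,
nat_lit 0x0,
nat_lit 0x0,
nat_lit 0x0,
nat_lit 0x0,
nat_lit 0x0,
nat_lit 0x0,
nat_lit 0x0,
nat_lit 0x0,
nat_lit 0x0,
nat_lit 0x0,
nat_lit 0x0,
nat_lit 0x0,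
nat_lit 0x0,
nat_lit 0x0,
nat_lit 0x0,
nat_lit 0x0,
nat_lit 0x0,
nat_lit 0x0,
nat_lit 0x0,
nat_lit 0x0,
nat_lit 0x0,
nat_lit 0x0,
nat_lit 0x0,
nat_lit 0x0,
nat_lit 0x0,
nat_lit 0x0,
nat_lit 0x0,
nat_lit 0x0,
nat_lit 0x0,
nat_lit 0x0,
nat_lit 0x0,
nat_lit 0x0,
nat_lit 0x0,
nat_lit 0x0,
nat_lit 0x0,
nat_lit 0x0,
nat_lit 0x0,
nat_lit 0x0,
nat_lit 0x0,
nat_lit 0x0,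
nat_lit 0x0,
nat_lit 0x0,
nat_lit 0x0,
nat_lit 0x0,
nat_lit 0x0,
nat_lit 0x0,
nat_lit 0x0,
nat_lit 0x0,
nat_lit 0x0,
nat_lit 0x0,
nat_lit 0x0,
nat_lit 0x0,
nat_lit 0x0,
nat_lit 0x0,
nat_lit 0x0,
nat_lit 0x0,
nat_lit 0x0,
nat_lit 0x0,
nat_lit 0x0,
nat_lit 0x0,
nat_lit 0x0,
nat_lit 0x0,
nat_lit 0x0,
nat_lit 0x0,
nat_lit 0x0,
nat_lit 0x0,
nat_lit 0x0,
nat_lit 0x0,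
nat_lit 0x0,
nat_lit 0x0,
nat_lit 0x0,
nat_lit 0x0,
nat_lit 0x0,
nat_lit 0x0,
nat_lit 0x0,
nat_lit 0x0,
nat_lit 0x0,
nat_lit 0x0,
nat_lit 0x0,
nat_lit 0x0,
nat_lit 0x0,
nat_lit 0x0,
nat_lit 0x0,
nat_lit 0x0,
nat_lit 0x0,
nat_lit 0x0,
nat_lit 0x0,
nat_lit 0x0,
nat_lit 0x0,
nat_lit 0x0,
nat_lit 0x0,
nat_lit 0x0,
nat_lit 0x0,
nat_lit 0x0,
nat_lit 0x0,
nat_lit 0x0,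
nat_lit 0x0,
nat_lit 0x0,
nat_lit 0x0,
nat_lit 0x0,
nat_lit 0x0]

theorem ok3500 : checkFacts facts ip words 256 subs 18473 items3500 3500 = true := by decide +kernel

theorem len3500 : Nat.beq items3500.length 500 = true := by decide +kernel

noncomputable def items4000 : List ℕ := [
nat_lit 0x0,
nat_lit 0x0,
nat_lit 0x0,
nat_lit 0x0,
nat_lit 0x0,
nat_lit 0x0,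
nat_lit 0x0,
nat_lit 0x0,
nat_lit 0x0,
nat_lit 0x0,
nat_lit 0x0,
nat_lit 0x0,
nat_lit 0x0,
nat_lit 0x0,
nat_lit 0x0,
nat_lit 0x0,
nat_lit 0x0,
nat_lit 0x0,
nat_lit 0x0,
nat_lit 0x0,
nat_lit 0x0,
nat_lit 0x0,
nat_lit 0x0,
nat_lit 0x0,
nat_lit 0x0,
nat_lit 0x0,
nat_lit 0x0,
nat_lit 0x0,
nat_lit 0x0,
nat_lit 0x0,
nat_lit 0x0,
nat_lit 0x0,
nat_lit 0x0,
nat_lit 0x0,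
nat_lit 0x0,
nat_lit 0x0,
nat_lit 0x0,
nat_lit 0x0,
nat_lit 0x0,
nat_lit 0x0,
nat_lit 0x0,
nat_lit 0x0,
nat_lit 0x0,
nat_lit 0x0,
nat_lit 0x0,
nat_lit 0x0,
nat_lit 0x0,
nat_lit 0x0,
nat_lit 0x0,
nat_lit 0x0,
nat_lit 0x0,
nat_lit 0x0,
nat_lit 0x0,
nat_lit 0x0,
nat_lit 0x0,
nat_lit 0x0,
nat_lit 0x0,
nat_lit 0x0,
nat_lit 0x0,
nat_lit 0x0,
nat_lit 0x0,
nat_lit 0x0,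
nat_lit 0x0,
nat_lit 0x0,
nat_lit 0x0,
nat_lit 0x0,
nat_lit 0x0,
nat_lit 0x0,
nat_lit 0x0,
nat_lit 0x0,
nat_lit 0x0,
nat_lit 0x0,
nat_lit 0x0,
nat_lit 0x0,
nat_lit 0x0,
nat_lit 0x0,
nat_lit 0x0,
nat_lit 0x0,
nat_lit 0x0,
nat_lit 0x0,
nat_lit 0x0,
nat_lit 0x0,
nat_lit 0x0,
nat_lit 0x0,
nat_lit 0x0,
nat_lit 0x0,
nat_lit 0x0,
nat_lit 0x0,
nat_lit 0x0,
nat_lit 0x0,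
nat_lit 0x0,
nat_lit 0x0,
nat_lit 0x0,
nat_lit 0x0,
nat_lit 0x0,
nat_lit 0x0,
nat_lit 0x0,
nat_lit 0x0,
nat_lit 0x0,
nat_lit 0x0,
nat_lit 0x0,
nat_lit 0x0,
nat_lit 0x0,
nat_lit 0x0,
nat_lit 0x0,
nat_lit 0x0,
nat_lit 0x0,
nat_lit 0x0,
nat_lit 0x0,
nat_lit 0x0,
nat_lit 0x0,
nat_lit 0x0,
nat_lit 0x0,
nat_lit 0x0,
nat_lit 0x0,
nat_lit 0x0,
nat_lit 0x0,
nat_lit 0x0,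
nat_lit 0x0,
nat_lit 0x0,
nat_lit 0x0,
nat_lit 0x0,
nat_lit 0x0,
nat_lit 0x0,
nat_lit 0x0,
nat_lit 0x0,
nat_lit 0x0,
nat_lit 0x0,
nat_lit 0x0,
nat_lit 0x0,
nat_lit 0x0,
nat_lit 0x0,
nat_lit 0x0,
nat_lit 0x0,
nat_lit 0x0,
nat_lit 0x0,
nat_lit 0x0,
nat_lit 0x0,
nat_lit 0x0,
nat_lit 0x0,
nat_lit 0x0,
nat_lit 0x0,
nat_lit 0x0,
nat_lit 0x0,
nat_lit 0x0,
nat_lit 0x0,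
nat_lit 0x0,
nat_lit 0x0,
nat_lit 0x0,
nat_lit 0x0,
nat_lit 0x0,
nat_lit 0x0,
nat_lit 0x0,
nat_lit 0x0,
nat_lit 0x0,
nat_lit 0x0,
nat_lit 0x0,
nat_lit 0x0,
nat_lit 0x0,
nat_lit 0x0,
nat_lit 0x0,
nat_lit 0x0,
nat_lit 0x0,
nat_lit 0x0,
nat_lit 0x0,
nat_lit 0x0,
nat_lit 0x0,
nat_lit 0x0,
nat_lit 0x0,
nat_lit 0x0,
nat_lit 0x0,
nat_lit 0x0,
nat_lit 0x0,
nat_lit 0x0,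
nat_lit 0x0,
nat_lit 0x0,
nat_lit 0x0,
nat_lit 0x0,
nat_lit 0x0,
nat_lit 0x0,
nat_lit 0x0,
nat_lit 0x0,
nat_lit 0x0,
nat_lit 0x0,
nat_lit 0x0,
nat_lit 0x0,
nat_lit 0x0,
nat_lit 0x0,
nat_lit 0x0,
nat_lit 0x0,
nat_lit 0x0,
nat_lit 0x0,
nat_lit 0x0,
nat_lit 0x0,
nat_lit 0x0,
nat_lit 0x0,
nat_lit 0x0,
nat_lit 0x0,
nat_lit 0x0,
nat_lit 0x0,
nat_lit 0x0,
nat_lit 0x0,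
nat_lit 0x0,
nat_lit 0x0,
nat_lit 0x0,
nat_lit 0x0,
nat_lit 0x0,
nat_lit 0x0,
nat_lit 0x0,
nat_lit 0x0,
nat_lit 0x0,
nat_lit 0x0,
nat_lit 0x0,
nat_lit 0x0,
nat_lit 0x0,
nat_lit 0x0,
nat_lit 0x0,
nat_lit 0x0,
nat_lit 0x0,
nat_lit 0x0,
nat_lit 0x0,
nat_lit 0x0,
nat_lit 0x0,
nat_lit 0x0,
nat_lit 0x0,
nat_lit 0x0,
nat_lit 0x0,
nat_lit 0x0,
nat_lit 0x0,
nat_lit 0x0,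
nat_lit 0x0,
nat_lit 0x0,
nat_lit 0x0,
nat_lit 0x0,
nat_lit 0x0,
nat_lit 0x0,
nat_lit 0x0,
nat_lit 0x0,
nat_lit 0x0,
nat_lit 0x0,
nat_lit 0x0,
nat_lit 0x0,
nat_lit 0x0,
nat_lit 0x0,
nat_lit 0x0,
nat_lit 0x0,
nat_lit 0x0,
nat_lit 0x0,
nat_lit 0x0,
nat_lit 0x0,
nat_lit 0x0,
nat_lit 0x0,
nat_lit 0x0,
nat_lit 0x0,
nat_lit 0x0,
nat_lit 0x0,
nat_lit 0x0,
nat_lit 0x0,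
nat_lit 0x0,
nat_lit 0x0,
nat_lit 0x0,
nat_lit 0x0,
nat_lit 0x0,
nat_lit 0x0,
nat_lit 0x0,
nat_lit 0x0,
nat_lit 0x0,
nat_lit 0x0,
nat_lit 0x0,
nat_lit 0x0,
nat_lit 0x0,
nat_lit 0x0,
nat_lit 0x0,
nat_lit 0x0,
nat_lit 0x0,
nat_lit 0x0,
nat_lit 0x0,
nat_lit 0x0,
nat_lit 0x0,
nat_lit 0x0,
nat_lit 0x0,
nat_lit 0x0,
nat_lit 0x0,
nat_lit 0x0,
nat_lit 0x0,
nat_lit 0x0,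
nat_lit 0x0,
nat_lit 0x0,
nat_lit 0x0,
nat_lit 0x0,
nat_lit 0x0,
nat_lit 0x0,
nat_lit 0x0,
nat_lit 0x0,
nat_lit 0x0,
nat_lit 0x0,
nat_lit 0x0,
nat_lit 0x0,
nat_lit 0x0,
nat_lit 0x0,
nat_lit 0x0,
nat_lit 0x0,
nat_lit 0x0,
nat_lit 0x0,
nat_lit 0x0,
nat_lit 0x0,
nat_lit 0x0,
nat_lit 0x0,
nat_lit 0x0,
nat_lit 0x0,
nat_lit 0x0,
nat_lit 0x0,
nat_lit 0x0,
nat_lit 0x0,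
nat_lit 0x0,
nat_lit 0x0,
nat_lit 0x0,
nat_lit 0x0,
nat_lit 0x0,
nat_lit 0x0,
nat_lit 0x0,
nat_lit 0x0,
nat_lit 0x0,
nat_lit 0x0,
nat_lit 0x0,
nat_lit 0x0,
nat_lit 0x0,
nat_lit 0x0,
nat_lit 0x0,
nat_lit 0x0,
nat_lit 0x0,
nat_lit 0x0,
nat_lit 0x0,
nat_lit 0x0,
nat_lit 0x0,
nat_lit 0x0,
nat_lit 0x0,
nat_lit 0x0,
nat_lit 0x0,
nat_lit 0x0,
nat_lit 0x0,
nat_lit 0x0,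
nat_lit 0x0,
nat_lit 0x0,
nat_lit 0x0,
nat_lit 0x0,
nat_lit 0x0,
nat_lit 0x0,
nat_lit 0x0,
nat_lit 0x0,
nat_lit 0x0,
nat_lit 0x0,
nat_lit 0x0,
nat_lit 0x0,
nat_lit 0x0,
nat_lit 0x0,
nat_lit 0x0,
nat_lit 0x0,
nat_lit 0x0,
nat_lit 0x0,
nat_lit 0x0,
nat_lit 0x0,
nat_lit 0x0,
nat_lit 0x0,
nat_lit 0x0,
nat_lit 0x0,
nat_lit 0x0,
nat_lit 0x0,
nat_lit 0x0,
nat_lit 0x0,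
nat_lit 0x0,
nat_lit 0x0,
nat_lit 0x0,
nat_lit 0x0,
nat_lit 0x0,
nat_lit 0x0,
nat_lit 0x0,
nat_lit 0x0,
nat_lit 0x0,
nat_lit 0x0,
nat_lit 0x0,
nat_lit 0x0,
nat_lit 0x0,
nat_lit 0x0,
nat_lit 0x0,
nat_lit 0x0,
nat_lit 0x0,
nat_lit 0x0,
nat_lit 0x0,
nat_lit 0x0,
nat_lit 0x0,
nat_lit 0x0,
nat_lit 0x0,
nat_lit 0x0,
nat_lit 0x0,
nat_lit 0x0,
nat_lit 0x0,
nat_lit 0x0,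
nat_lit 0x0,
nat_lit 0x0,
nat_lit 0x0,
nat_lit 0x0,
nat_lit 0x0,
nat_lit 0x0,
nat_lit 0x0,
nat_lit 0x0,
nat_lit 0x0,
nat_lit 0x0,
nat_lit 0x0,
nat_lit 0x0,
nat_lit 0x0,
nat_lit 0x0,
nat_lit 0x0,
nat_lit 0x0,
nat_lit 0x0,
nat_lit 0x0,
nat_lit 0x0,
nat_lit 0x0,
nat_lit 0x0,
nat_lit 0x0,
nat_lit 0x0,
nat_lit 0x0,
nat_lit 0x0,
nat_lit 0x0,
nat_lit 0x0,
nat_lit 0x0,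
nat_lit 0x0,
nat_lit 0x0,
nat_lit 0x0,
nat_lit 0x0,
nat_lit 0x0,
nat_lit 0x0,
nat_lit 0x0,
nat_lit 0x0,
nat_lit 0x0,
nat_lit 0x0,
nat_lit 0x0,
nat_lit 0x0,
nat_lit 0x0,
nat_lit 0x0,
nat_lit 0x0,
nat_lit 0x0,
nat_lit 0x0,
nat_lit 0x0,
nat_lit 0x0,
nat_lit 0x0,
nat_lit 0x0,
nat_lit 0x0,
nat_lit 0x0,
nat_lit 0x0,
nat_lit 0x0,
nat_lit 0x0,
nat_lit 0x0,
nat_lit 0x0,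
nat_lit 0x0,
nat_lit 0x0,
nat_lit 0x0,
nat_lit 0x0,
nat_lit 0x0,
nat_lit 0x0,
nat_lit 0x0,
nat_lit 0x0,
nat_lit 0x0,
nat_lit 0x0,
nat_lit 0x0,
nat_lit 0x0,
nat_lit 0x0,
nat_lit 0x0,
nat_lit 0x0,
nat_lit 0x0,
nat_lit 0x0,
nat_lit 0x0,
nat_lit 0x0,
nat_lit 0x0,
nat_lit 0x0,
nat_lit 0x0,
nat_lit 0x0,
nat_lit 0x0,
nat_lit 0x0,
nat_lit 0x0,
nat_lit 0x0,
nat_lit 0x0,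
nat_lit 0x0,
nat_lit 0x0,
nat_lit 0x0,
nat_lit 0x0,
nat_lit 0x0,
nat_lit 0x0,
nat_lit 0x0,
nat_lit 0x0,
nat_lit 0x0,
nat_lit 0x0,
nat_lit 0x0,
nat_lit 0x0,
nat_lit 0x0,
nat_lit 0x0,
nat_lit 0x0,
nat_lit 0x0,
nat_lit 0x0,
nat_lit 0x0]

theorem ok4000 : checkFacts facts ip words 256 subs 18473 items4000 4000 = true := by decide +kernel

theorem len4000 : Nat.beq items4000.length 500 = true := by decide +kernel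

noncomputable def items4500 : List ℕ := [
nat_lit 0x0,
nat_lit 0x0,
nat_lit 0x0,
nat_lit 0x0,
nat_lit 0x0,
nat_lit 0x0,
nat_lit 0x0,
nat_lit 0x0,
nat_lit 0x0,
nat_lit 0x0,
nat_lit 0x0,
nat_lit 0x0,
nat_lit 0x0,
nat_lit 0x0,
nat_lit 0x0,
nat_lit 0x0,
nat_lit 0x0,
nat_lit 0x0,
nat_lit 0x0,
nat_lit 0x0,
nat_lit 0x0,
nat_lit 0x0,
nat_lit 0x0,
nat_lit 0x0,
nat_lit 0x0,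
nat_lit 0x0,
nat_lit 0x0,
nat_lit 0x0,
nat_lit 0x0,
nat_lit 0x0,
nat_lit 0x0,
nat_lit 0x0,
nat_lit 0x0,
nat_lit 0x0,
nat_lit 0x0,
nat_lit 0x0,
nat_lit 0x0,
nat_lit 0x0,
nat_lit 0x0,
nat_lit 0x0,
nat_lit 0x0,
nat_lit 0x0,
nat_lit 0x0,
nat_lit 0x0,
nat_lit 0x0,
nat_lit 0x0,
nat_lit 0x0,
nat_lit 0x0,
nat_lit 0x0,
nat_lit 0x0,
nat_lit 0x0,
nat_lit 0x0,
nat_lit 0x0,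
nat_lit 0x0,
nat_lit 0x0,
nat_lit 0x0,
nat_lit 0x0,
nat_lit 0x0,
nat_lit 0x0,
nat_lit 0x0,
nat_lit 0x0,
nat_lit 0x0,
nat_lit 0x0,
nat_lit 0x0,
nat_lit 0x0,
nat_lit 0x0,
nat_lit 0x0,
nat_lit 0x0,
nat_lit 0x0,
nat_lit 0x0,
nat_lit 0x0,
nat_lit 0x0,
nat_lit 0x0,
nat_lit 0x0,
nat_lit 0x0,
nat_lit 0x0,
nat_lit 0x0,
nat_lit 0x0,
nat_lit 0x0,
nat_lit 0x0,
nat_lit 0x0,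
nat_lit 0x0,
nat_lit 0x0,
nat_lit 0x0,
nat_lit 0x0,
nat_lit 0x0,
nat_lit 0x0,
nat_lit 0x0,
nat_lit 0x0,
nat_lit 0x0,
nat_lit 0x0,
nat_lit 0x0,
nat_lit 0x0,
nat_lit 0x0,
nat_lit 0x0,
nat_lit 0x0,
nat_lit 0x0,
nat_lit 0x0,
nat_lit 0x0,
nat_lit 0x0,
nat_lit 0x0,
nat_lit 0x0,
nat_lit 0x0,
nat_lit 0x0,
nat_lit 0x0,
nat_lit 0x0,
nat_lit 0x0,
nat_lit 0x0,
nat_lit 0x0,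
nat_lit 0x0,
nat_lit 0x0,
nat_lit 0x0,
nat_lit 0x0,
nat_lit 0x0,
nat_lit 0x0,
nat_lit 0x0,
nat_lit 0x0,
nat_lit 0x0,
nat_lit 0x0,
nat_lit 0x0,
nat_lit 0x0,
nat_lit 0x0,
nat_lit 0x0,
nat_lit 0x0,
nat_lit 0x0,
nat_lit 0x0,
nat_lit 0x0,
nat_lit 0x0,
nat_lit 0x0,
nat_lit 0x0,
nat_lit 0x0,
nat_lit 0x0,
nat_lit 0x0,
nat_lit 0x0,
nat_lit 0x0,
nat_lit 0x0,
nat_lit 0x0,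
nat_lit 0x0,
nat_lit 0x0,
nat_lit 0x0,
nat_lit 0x0,
nat_lit 0x0,
nat_lit 0x0,
nat_lit 0x0,
nat_lit 0x0,
nat_lit 0x0,
nat_lit 0x0,
nat_lit 0x0,
nat_lit 0x0,
nat_lit 0x0,
nat_lit 0x0,
nat_lit 0x0,
nat_lit 0x0,
nat_lit 0x0,
nat_lit 0x0,
nat_lit 0x0,
nat_lit 0x0,
nat_lit 0x0,
nat_lit 0x0,
nat_lit 0x0,
nat_lit 0x0,
nat_lit 0x0,
nat_lit 0x0,
nat_lit 0x0,
nat_lit 0x0,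
nat_lit 0x0,
nat_lit 0x0,
nat_lit 0x0,
nat_lit 0x0,
nat_lit 0x0,
nat_lit 0x0,
nat_lit 0x0,
nat_lit 0x0,
nat_lit 0x0,
nat_lit 0x0,
nat_lit 0x0,
nat_lit 0x0,
nat_lit 0x0,
nat_lit 0x0,
nat_lit 0x0,
nat_lit 0x0,
nat_lit 0x0,
nat_lit 0x0,
nat_lit 0x0,
nat_lit 0x0,
nat_lit 0x0,
nat_lit 0x0,
nat_lit 0x0,
nat_lit 0x0,
nat_lit 0x0,
nat_lit 0x0,
nat_lit 0x0,
nat_lit 0x0,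
nat_lit 0x0,
nat_lit 0x0,
nat_lit 0x0,
nat_lit 0x0,
nat_lit 0x0,
nat_lit 0x0,
nat_lit 0x0,
nat_lit 0x0,
nat_lit 0x0,
nat_lit 0x0,
nat_lit 0x0,
nat_lit 0x0,
nat_lit 0x0,
nat_lit 0x0,
nat_lit 0x0,
nat_lit 0x0,
nat_lit 0x0,
nat_lit 0x0,
nat_lit 0x0,
nat_lit 0x0,
nat_lit 0x0,
nat_lit 0x0,
nat_lit 0x0,
nat_lit 0x0,
nat_lit 0x0,
nat_lit 0x0,
nat_lit 0x0,
nat_lit 0x0,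
nat_lit 0x0,
nat_lit 0x0,
nat_lit 0x0,
nat_lit 0x0,
nat_lit 0x0,
nat_lit 0x0,
nat_lit 0x0,
nat_lit 0x0,
nat_lit 0x0,
nat_lit 0x0,
nat_lit 0x0,
nat_lit 0x0,
nat_lit 0x0,
nat_lit 0x0,
nat_lit 0x0,
nat_lit 0x0,
nat_lit 0x0,
nat_lit 0x0,
nat_lit 0x0,
nat_lit 0x0,
nat_lit 0x0,
nat_lit 0x0,
nat_lit 0x0,
nat_lit 0x0,
nat_lit 0x0,
nat_lit 0x0,
nat_lit 0x0,
nat_lit 0x0,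
nat_lit 0x0,
nat_lit 0x0,
nat_lit 0x0,
nat_lit 0x0,
nat_lit 0x0,
nat_lit 0x0,
nat_lit 0x0,
nat_lit 0x0,
nat_lit 0x0,
nat_lit 0x0,
nat_lit 0x0,
nat_lit 0x0,
nat_lit 0x0,
nat_lit 0x0,
nat_lit 0x0,
nat_lit 0x0,
nat_lit 0x0,
nat_lit 0x0,
nat_lit 0x0,
nat_lit 0x0,
nat_lit 0x0,
nat_lit 0x0,
nat_lit 0x0,
nat_lit 0x0,
nat_lit 0x0,
nat_lit 0x0,
nat_lit 0x0,
nat_lit 0x0,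
nat_lit 0x0,
nat_lit 0x0,
nat_lit 0x0,
nat_lit 0x0,
nat_lit 0x0,
nat_lit 0x0,
nat_lit 0x0,
nat_lit 0x0,
nat_lit 0x0,
nat_lit 0x0,
nat_lit 0x0,
nat_lit 0x0,
nat_lit 0x0,
nat_lit 0x0,
nat_lit 0x0,
nat_lit 0x0,
nat_lit 0x0,
nat_lit 0x0,
nat_lit 0x0,
nat_lit 0x0,
nat_lit 0x0,
nat_lit 0x0,
nat_lit 0x0,
nat_lit 0x0,
nat_lit 0x0,
nat_lit 0x0,
nat_lit 0x0,
nat_lit 0x0,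
nat_lit 0x0,
nat_lit 0x0,
nat_lit 0x0,
nat_lit 0x0,
nat_lit 0x0,
nat_lit 0x0,
nat_lit 0x0,
nat_lit 0x0,
nat_lit 0x0,
nat_lit 0x0,
nat_lit 0x0,
nat_lit 0x0,
nat_lit 0x0,
nat_lit 0x0,
nat_lit 0x0,
nat_lit 0x0,
nat_lit 0x0,
nat_lit 0x0,
nat_lit 0x0,
nat_lit 0x0,
nat_lit 0x0,
nat_lit 0x0,
nat_lit 0x0,
nat_lit 0x0,
nat_lit 0x0,
nat_lit 0x0,
nat_lit 0x0,
nat_lit 0x0,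
nat_lit 0x0,
nat_lit 0x0,
nat_lit 0x0,
nat_lit 0x0,
nat_lit 0x0,
nat_lit 0x0,
nat_lit 0x0,
nat_lit 0x0,
nat_lit 0x0,
nat_lit 0x0,
nat_lit 0x0,
nat_lit 0x0,
nat_lit 0x0,
nat_lit 0x0,
nat_lit 0x0,
nat_lit 0x0,
nat_lit 0x0,
nat_lit 0x0,
nat_lit 0x0,
nat_lit 0x0,
nat_lit 0x0,
nat_lit 0x0,
nat_lit 0x0,
nat_lit 0x0,
nat_lit 0x0,
nat_lit 0x0,
nat_lit 0x0,
nat_lit 0x0,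
nat_lit 0x0,
nat_lit 0x0,
nat_lit 0x0,
nat_lit 0x0,
nat_lit 0x0,
nat_lit 0x0,
nat_lit 0x0,
nat_lit 0x0,
nat_lit 0x0,
nat_lit 0x0,
nat_lit 0x0,
nat_lit 0x0,
nat_lit 0x0,
nat_lit 0x0,
nat_lit 0x0,
nat_lit 0x0,
nat_lit 0x0,
nat_lit 0x0,
nat_lit 0x0,
nat_lit 0x0,
nat_lit 0x0,
nat_lit 0x0,
nat_lit 0x0,
nat_lit 0x0,
nat_lit 0x0,
nat_lit 0x0,
nat_lit 0x0,
nat_lit 0x0,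
nat_lit 0x0,
nat_lit 0x0,
nat_lit 0x0,
nat_lit 0x0,
nat_lit 0x0,
nat_lit 0x0,
nat_lit 0x0,
nat_lit 0x0,
nat_lit 0x0,
nat_lit 0x0,
nat_lit 0x0,
nat_lit 0x0,
nat_lit 0x0,
nat_lit 0x0,
nat_lit 0x0,
nat_lit 0x0,
nat_lit 0x0,
nat_lit 0x0,
nat_lit 0x0,
nat_lit 0x0,
nat_lit 0x0,
nat_lit 0x0,
nat_lit 0x0,
nat_lit 0x0,
nat_lit 0x0,
nat_lit 0x0,
nat_lit 0x0,
nat_lit 0x0,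
nat_lit 0x0,
nat_lit 0x0,
nat_lit 0x0,
nat_lit 0x0,
nat_lit 0x0,
nat_lit 0x0,
nat_lit 0x0,
nat_lit 0x0,
nat_lit 0x0,
nat_lit 0x0,
nat_lit 0x0,
nat_lit 0x0,
nat_lit 0x0,
nat_lit 0x0,
nat_lit 0x0,
nat_lit 0x0,
nat_lit 0x0,
nat_lit 0x0,
nat_lit 0x0,
nat_lit 0x0,
nat_lit 0x0,
nat_lit 0x0,
nat_lit 0x0,
nat_lit 0x0,
nat_lit 0x0,
nat_lit 0x0,
nat_lit 0x0,
nat_lit 0x0,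
nat_lit 0x0,
nat_lit 0x0,
nat_lit 0x0,
nat_lit 0x0,
nat_lit 0x0,
nat_lit 0x0,
nat_lit 0x0,
nat_lit 0x0,
nat_lit 0x0,
nat_lit 0x0,
nat_lit 0x0,
nat_lit 0x0,
nat_lit 0x0,
nat_lit 0x0,
nat_lit 0x0,
nat_lit 0x0,
nat_lit 0x0,
nat_lit 0x0,
nat_lit 0x0,
nat_lit 0x0,
nat_lit 0x0,
nat_lit 0x0,
nat_lit 0x0,
nat_lit 0x0,
nat_lit 0x0,
nat_lit 0x0,
nat_lit 0x0,
nat_lit 0x0,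
nat_lit 0x0,
nat_lit 0x0,
nat_lit 0x0,
nat_lit 0x0,
nat_lit 0x0,
nat_lit 0x0,
nat_lit 0x0,
nat_lit 0x0,
nat_lit 0x0,
nat_lit 0x0,
nat_lit 0x0,
nat_lit 0x0,
nat_lit 0x0,
nat_lit 0x0,
nat_lit 0x0,
nat_lit 0x0,
nat_lit 0x0,
nat_lit 0x0,
nat_lit 0x0,
nat_lit 0x0,
nat_lit 0x0,
nat_lit 0x0,
nat_lit 0x0,
nat_lit 0x0,
nat_lit 0x0,
nat_lit 0x0,
nat_lit 0x0]

theorem ok4500 : checkFacts facts ip words 256 subs 18473 items4500 4500 = true := by decide +kernel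

theorem len4500 : Nat.beq items4500.length 500 = true := by decide +kernel

noncomputable def items5000 : List ℕ := [
nat_lit 0x0,
nat_lit 0x0,
nat_lit 0x0,
nat_lit 0x0,
nat_lit 0x0,
nat_lit 0x0,
nat_lit 0x0,
nat_lit 0x0,
nat_lit 0x0,
nat_lit 0x0,
nat_lit 0x0,
nat_lit 0x0,
nat_lit 0x0,
nat_lit 0x0,
nat_lit 0x0,
nat_lit 0x0,
nat_lit 0x0,
nat_lit 0x0,
nat_lit 0x0,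
nat_lit 0x0,
nat_lit 0x0,
nat_lit 0x0,
nat_lit 0x0,
nat_lit 0x0,
nat_lit 0x0,
nat_lit 0x0,
nat_lit 0x0,
nat_lit 0x0,
nat_lit 0x0,
nat_lit 0x0,
nat_lit 0x0,
nat_lit 0x0,
nat_lit 0x0,
nat_lit 0x0,
nat_lit 0x0,
nat_lit 0x0,
nat_lit 0x0,
nat_lit 0x0,
nat_lit 0x0,
nat_lit 0x0,
nat_lit 0x0,
nat_lit 0x0,
nat_lit 0x0,
nat_lit 0x0,
nat_lit 0x0,
nat_lit 0x0,
nat_lit 0x0,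
nat_lit 0x0,
nat_lit 0x0,
nat_lit 0x0,
nat_lit 0x0,
nat_lit 0x0,
nat_lit 0x0,
nat_lit 0x0,
nat_lit 0x0,
nat_lit 0x0,
nat_lit 0x0,
nat_lit 0x0,
nat_lit 0x0,
nat_lit 0x0,
nat_lit 0x0,
nat_lit 0x0,
nat_lit 0x0,
nat_lit 0x0,
nat_lit 0x0,
nat_lit 0x0,
nat_lit 0x0,
nat_lit 0x0,
nat_lit 0x0,
nat_lit 0x0,
nat_lit 0x0,
nat_lit 0x0,
nat_lit 0x0,
nat_lit 0x0,
nat_lit 0x0,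
nat_lit 0x0,
nat_lit 0x0,
nat_lit 0x0,
nat_lit 0x0,
nat_lit 0x0,
nat_lit 0x0,
nat_lit 0x0,
nat_lit 0x0,
nat_lit 0x0,
nat_lit 0x0,
nat_lit 0x0,
nat_lit 0x0,
nat_lit 0x0,
nat_lit 0x0,
nat_lit 0x0,
nat_lit 0x0,
nat_lit 0x0,
nat_lit 0x0,
nat_lit 0x0,
nat_lit 0x0,
nat_lit 0x0,
nat_lit 0x0,
nat_lit 0x0,
nat_lit 0x0,
nat_lit 0x0,
nat_lit 0x0,
nat_lit 0x0,
nat_lit 0x0,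
nat_lit 0x0,
nat_lit 0x0,
nat_lit 0x0,
nat_lit 0x0,
nat_lit 0x0,
nat_lit 0x0,
nat_lit 0x0,
nat_lit 0x0,
nat_lit 0x0,
nat_lit 0x0,
nat_lit 0x0,
nat_lit 0x0,
nat_lit 0x0,
nat_lit 0x0,
nat_lit 0x0,
nat_lit 0x0,
nat_lit 0x0,
nat_lit 0x0,
nat_lit 0x0,
nat_lit 0x0,
nat_lit 0x0,
nat_lit 0x0,
nat_lit 0x0,
nat_lit 0x0,
nat_lit 0x0,
nat_lit 0x0,
nat_lit 0x0,
nat_lit 0x0,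
nat_lit 0x0,
nat_lit 0x0,
nat_lit 0x0,
nat_lit 0x0,
nat_lit 0x0,
nat_lit 0x0,
nat_lit 0x0,
nat_lit 0x0,
nat_lit 0x0,
nat_lit 0x0,
nat_lit 0x0,
nat_lit 0x0,
nat_lit 0x0,
nat_lit 0x0,
nat_lit 0x0,
nat_lit 0x0,
nat_lit 0x0,
nat_lit 0x0,
nat_lit 0x0,
nat_lit 0x0,
nat_lit 0x0,
nat_lit 0x0,
nat_lit 0x0,
nat_lit 0x0,
nat_lit 0x0,
nat_lit 0x0,
nat_lit 0x0,
nat_lit 0x0,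
nat_lit 0x0,
nat_lit 0x0,
nat_lit 0x0,
nat_lit 0x0,
nat_lit 0x0,
nat_lit 0x0,
nat_lit 0x0,
nat_lit 0x0,
nat_lit 0x0,
nat_lit 0x0,
nat_lit 0x0,
nat_lit 0x0,
nat_lit 0x0,
nat_lit 0x0,
nat_lit 0x0,
nat_lit 0x0,
nat_lit 0x0,
nat_lit 0x0,
nat_lit 0x0,
nat_lit 0x0,
nat_lit 0x0,
nat_lit 0x0,
nat_lit 0x0,
nat_lit 0x0,
nat_lit 0x0,
nat_lit 0x0,
nat_lit 0x0,
nat_lit 0x0,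
nat_lit 0x0,
nat_lit 0x0,
nat_lit 0x0,
nat_lit 0x0,
nat_lit 0x0,
nat_lit 0x0,
nat_lit 0x0,
nat_lit 0x0,
nat_lit 0x0,
nat_lit 0x0,
nat_lit 0x0,
nat_lit 0x0,
nat_lit 0x0,
nat_lit 0x0,
nat_lit 0x0,
nat_lit 0x0,
nat_lit 0x0,
nat_lit 0x0,
nat_lit 0x0,
nat_lit 0x0,
nat_lit 0x0,
nat_lit 0x0,
nat_lit 0x0,
nat_lit 0x0,
nat_lit 0x0,
nat_lit 0x0,
nat_lit 0x0,
nat_lit 0x0,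
nat_lit 0x0,
nat_lit 0x0,
nat_lit 0x0,
nat_lit 0x0,
nat_lit 0x0,
nat_lit 0x0,
nat_lit 0x0,
nat_lit 0x0,
nat_lit 0x0,
nat_lit 0x0,
nat_lit 0x0,
nat_lit 0x0,
nat_lit 0x0,
nat_lit 0x0,
nat_lit 0x0,
nat_lit 0x0,
nat_lit 0x0,
nat_lit 0x0,
nat_lit 0x0,
nat_lit 0x0,
nat_lit 0x0,
nat_lit 0x0,
nat_lit 0x0,
nat_lit 0x0,
nat_lit 0x0,
nat_lit 0x0,
nat_lit 0x0,
nat_lit 0x0,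
nat_lit 0x0,
nat_lit 0x0,
nat_lit 0x0,
nat_lit 0x0,
nat_lit 0x0,
nat_lit 0x0,
nat_lit 0x0,
nat_lit 0x0,
nat_lit 0x0,
nat_lit 0x0,
nat_lit 0x0,
nat_lit 0x0,
nat_lit 0x0,
nat_lit 0x0,
nat_lit 0x0,
nat_lit 0x0,
nat_lit 0x0,
nat_lit 0x0,
nat_lit 0x0,
nat_lit 0x0,
nat_lit 0x0,
nat_lit 0x0,
nat_lit 0x0,
nat_lit 0x0,
nat_lit 0x0,
nat_lit 0x0,
nat_lit 0x0,
nat_lit 0x0,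
nat_lit 0x0,
nat_lit 0x0,
nat_lit 0x0,
nat_lit 0x0,
nat_lit 0x0,
nat_lit 0x0,
nat_lit 0x0,
nat_lit 0x0,
nat_lit 0x0,
nat_lit 0x0,
nat_lit 0x0,
nat_lit 0x0,
nat_lit 0x0,
nat_lit 0x0,
nat_lit 0x0,
nat_lit 0x0,
nat_lit 0x0,
nat_lit 0x0,
nat_lit 0x0,
nat_lit 0x0,
nat_lit 0x0,
nat_lit 0x0,
nat_lit 0x0,
nat_lit 0x0,
nat_lit 0x0,
nat_lit 0x0,
nat_lit 0x0,
nat_lit 0x0,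
nat_lit 0x0,
nat_lit 0x0,
nat_lit 0x0,
nat_lit 0x0,
nat_lit 0x0,
nat_lit 0x0,
nat_lit 0x0,
nat_lit 0x0,
nat_lit 0x0,
nat_lit 0x0,
nat_lit 0x0,
nat_lit 0x0,
nat_lit 0x0,
nat_lit 0x0,
nat_lit 0x0,
nat_lit 0x0,
nat_lit 0x0,
nat_lit 0x0,
nat_lit 0x0,
nat_lit 0x0,
nat_lit 0x0,
nat_lit 0x0,
nat_lit 0x0,
nat_lit 0x0,
nat_lit 0x0,
nat_lit 0x0,
nat_lit 0x0,
nat_lit 0x0,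
nat_lit 0x0,
nat_lit 0x0,
nat_lit 0x0,
nat_lit 0x0,
nat_lit 0x0,
nat_lit 0x0,
nat_lit 0x0,
nat_lit 0x0,
nat_lit 0x0,
nat_lit 0x0,
nat_lit 0x0,
nat_lit 0x0,
nat_lit 0x0,
nat_lit 0x0,
nat_lit 0x0,
nat_lit 0x0,
nat_lit 0x0,
nat_lit 0x0,
nat_lit 0x0,
nat_lit 0x0,
nat_lit 0x0,
nat_lit 0x0,
nat_lit 0x0,
nat_lit 0x0,
nat_lit 0x0,
nat_lit 0x0,
nat_lit 0x0,
nat_lit 0x0,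
nat_lit 0x0,
nat_lit 0x0,
nat_lit 0x0,
nat_lit 0x0,
nat_lit 0x0,
nat_lit 0x0,
nat_lit 0x0,
nat_lit 0x0,
nat_lit 0x0,
nat_lit 0x0,
nat_lit 0x0,
nat_lit 0x0,
nat_lit 0x0,
nat_lit 0x0,
nat_lit 0x0,
nat_lit 0x0,
nat_lit 0x0,
nat_lit 0x0,
nat_lit 0x0,
nat_lit 0x0,
nat_lit 0x0,
nat_lit 0x0,
nat_lit 0x0,
nat_lit 0x0,
nat_lit 0x0,
nat_lit 0x0,
nat_lit 0x0,
nat_lit 0x0,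
nat_lit 0x0,
nat_lit 0x0,
nat_lit 0x0,
nat_lit 0x0,
nat_lit 0x0,
nat_lit 0x0,
nat_lit 0x0,
nat_lit 0x0,
nat_lit 0x0,
nat_lit 0x0,
nat_lit 0x0,
nat_lit 0x0,
nat_lit 0x0,
nat_lit 0x0,
nat_lit 0x0,
nat_lit 0x0,
nat_lit 0x0,
nat_lit 0x0,
nat_lit 0x0,
nat_lit 0x0,
nat_lit 0x0,
nat_lit 0x0,
nat_lit 0x0,
nat_lit 0x0,
nat_lit 0x0,
nat_lit 0x0,
nat_lit 0x0,
nat_lit 0x0,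
nat_lit 0x0,
nat_lit 0x0,
nat_lit 0x0,
nat_lit 0x0,
nat_lit 0x0,
nat_lit 0x0,
nat_lit 0x0,
nat_lit 0x0,
nat_lit 0x0,
nat_lit 0x0,
nat_lit 0x0,
nat_lit 0x0,
nat_lit 0x0,
nat_lit 0x0,
nat_lit 0x0,
nat_lit 0x0,
nat_lit 0x0,
nat_lit 0x0,
nat_lit 0x0,
nat_lit 0x0,
nat_lit 0x0,
nat_lit 0x0,
nat_lit 0x0,
nat_lit 0x0,
nat_lit 0x0,
nat_lit 0x0,
nat_lit 0x0,
nat_lit 0x0,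
nat_lit 0x0,
nat_lit 0x0,
nat_lit 0x0,
nat_lit 0x0,
nat_lit 0x0,
nat_lit 0x0,
nat_lit 0x0,
nat_lit 0x0,
nat_lit 0x0,
nat_lit 0x0,
nat_lit 0x0,
nat_lit 0x0,
nat_lit 0x0,
nat_lit 0x0,
nat_lit 0x0,
nat_lit 0x0,
nat_lit 0x0,
nat_lit 0x0,
nat_lit 0x0,
nat_lit 0x0,
nat_lit 0x0,
nat_lit 0x0,
nat_lit 0x0,
nat_lit 0x0,
nat_lit 0x0,
nat_lit 0x0,
nat_lit 0x0,
nat_lit 0x0,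
nat_lit 0x0,
nat_lit 0x0,
nat_lit 0x0,
nat_lit 0x0,
nat_lit 0x0,
nat_lit 0x0,
nat_lit 0x0,
nat_lit 0x0,
nat_lit 0x0,
nat_lit 0x0,
nat_lit 0x0,
nat_lit 0x0,
nat_lit 0x0,
nat_lit 0x0,
nat_lit 0x0,
nat_lit 0x0,
nat_lit 0x0,
nat_lit 0x0,
nat_lit 0x0,
nat_lit 0x0,
nat_lit 0x0,
nat_lit 0x0,
nat_lit 0x0,
nat_lit 0x0,
nat_lit 0x0,
nat_lit 0x0,
nat_lit 0x0,
nat_lit 0x0,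
nat_lit 0x0,
nat_lit 0x0,
nat_lit 0x0,
nat_lit 0x0,
nat_lit 0x0]

theorem ok5000 : checkFacts facts ip words 256 subs 18473 items5000 5000 = true := by decide +kernel

theorem len5000 : Nat.beq items5000.length 500 = true := by decide +kernel

noncomputable def items5500 : List ℕ := [
nat_lit 0x0,
nat_lit 0x0,
nat_lit 0x0,
nat_lit 0x0,
nat_lit 0x0,
nat_lit 0x0,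
nat_lit 0x0,
nat_lit 0x0,
nat_lit 0x0,
nat_lit 0x0,
nat_lit 0x0,
nat_lit 0x0,
nat_lit 0x0,
nat_lit 0x0,
nat_lit 0x0,
nat_lit 0x0,
nat_lit 0x0,
nat_lit 0x0,
nat_lit 0x0,
nat_lit 0x0,
nat_lit 0x0,
nat_lit 0x0,
nat_lit 0x0,
nat_lit 0x0,
nat_lit 0x0,
nat_lit 0x0,
nat_lit 0x0,
nat_lit 0x0,
nat_lit 0x0,
nat_lit 0x0,
nat_lit 0x0,
nat_lit 0x0,
nat_lit 0x0,
nat_lit 0x0,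
nat_lit 0x0,
nat_lit 0x0,
nat_lit 0x0,
nat_lit 0x0,
nat_lit 0x0,
nat_lit 0x0,
nat_lit 0x0,
nat_lit 0x0,
nat_lit 0x0,
nat_lit 0x0,
nat_lit 0x0,
nat_lit 0x0,
nat_lit 0x0,
nat_lit 0x0,
nat_lit 0x0,
nat_lit 0x0,
nat_lit 0x0,
nat_lit 0x0,
nat_lit 0x0,
nat_lit 0x0,
nat_lit 0x0,
nat_lit 0x0,
nat_lit 0x0,
nat_lit 0x0,
nat_lit 0x0,
nat_lit 0x0,
nat_lit 0x0,
nat_lit 0x0,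
nat_lit 0x0,
nat_lit 0x0,
nat_lit 0x0,
nat_lit 0x0,
nat_lit 0x0,
nat_lit 0x0,
nat_lit 0x0,
nat_lit 0x0,
nat_lit 0x0,
nat_lit 0x0,
nat_lit 0x0,
nat_lit 0x0,
nat_lit 0x0,
nat_lit 0x0,
nat_lit 0x0,
nat_lit 0x0,
nat_lit 0x0,
nat_lit 0x0,
nat_lit 0x0,
nat_lit 0x0,
nat_lit 0x0,
nat_lit 0x0,
nat_lit 0x0,
nat_lit 0x0,
nat_lit 0x0,
nat_lit 0x0,
nat_lit 0x0,
nat_lit 0x0,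
nat_lit 0x0,
nat_lit 0x0,
nat_lit 0x0,
nat_lit 0x0,
nat_lit 0x0,
nat_lit 0x0,
nat_lit 0x0,
nat_lit 0x0,
nat_lit 0x0,
nat_lit 0x0,
nat_lit 0x0,
nat_lit 0x0,
nat_lit 0x0,
nat_lit 0x0,
nat_lit 0x0,
nat_lit 0x0,
nat_lit 0x0,
nat_lit 0x0,
nat_lit 0x0,
nat_lit 0x0,
nat_lit 0x0,
nat_lit 0x0,
nat_lit 0x0,
nat_lit 0x0,
nat_lit 0x0,
nat_lit 0x0,
nat_lit 0x0,
nat_lit 0x0,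
nat_lit 0x0,
nat_lit 0x0,
nat_lit 0x0,
nat_lit 0x0,
nat_lit 0x0,
nat_lit 0x0,
nat_lit 0x0,
nat_lit 0x0,
nat_lit 0x0,
nat_lit 0x0,
nat_lit 0x0,
nat_lit 0x0,
nat_lit 0x0,
nat_lit 0x0,
nat_lit 0x0,
nat_lit 0x0,
nat_lit 0x0,
nat_lit 0x0,
nat_lit 0x0,
nat_lit 0x0,
nat_lit 0x0,
nat_lit 0x0,
nat_lit 0x0,
nat_lit 0x0,
nat_lit 0x0,
nat_lit 0x0,
nat_lit 0x0,
nat_lit 0x0,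
nat_lit 0x0,
nat_lit 0x0,
nat_lit 0x0,
nat_lit 0x0,
nat_lit 0x0,
nat_lit 0x0,
nat_lit 0x0,
nat_lit 0x0,
nat_lit 0x0,
nat_lit 0x0,
nat_lit 0x0,
nat_lit 0x0,
nat_lit 0x0,
nat_lit 0x0,
nat_lit 0x0,
nat_lit 0x0,
nat_lit 0x0,
nat_lit 0x0,
nat_lit 0x0,
nat_lit 0x0,
nat_lit 0x0,
nat_lit 0x0,
nat_lit 0x0,
nat_lit 0x0,
nat_lit 0x0,
nat_lit 0x0,
nat_lit 0x0,
nat_lit 0x0,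
nat_lit 0x0,
nat_lit 0x0,
nat_lit 0x0,
nat_lit 0x0,
nat_lit 0x0,
nat_lit 0x0,
nat_lit 0x0,
nat_lit 0x0,
nat_lit 0x0,
nat_lit 0x0,
nat_lit 0x0,
nat_lit 0x0,
nat_lit 0x0,
nat_lit 0x0,
nat_lit 0x0,
nat_lit 0x0,
nat_lit 0x0,
nat_lit 0x0,
nat_lit 0x0,
nat_lit 0x0,
nat_lit 0x0,
nat_lit 0x0,
nat_lit 0x0,
nat_lit 0x0,
nat_lit 0x0,
nat_lit 0x0,
nat_lit 0x0,
nat_lit 0x0,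
nat_lit 0x0,
nat_lit 0x0,
nat_lit 0x0,
nat_lit 0x0,
nat_lit 0x0,
nat_lit 0x0,
nat_lit 0x0,
nat_lit 0x0,
nat_lit 0x0,
nat_lit 0x0,
nat_lit 0x0,
nat_lit 0x0,
nat_lit 0x0,
nat_lit 0x0,
nat_lit 0x0,
nat_lit 0x0,
nat_lit 0x0,
nat_lit 0x0,
nat_lit 0x0,
nat_lit 0x0,
nat_lit 0x0,
nat_lit 0x0,
nat_lit 0x0,
nat_lit 0x0,
nat_lit 0x0,
nat_lit 0x0,
nat_lit 0x0,
nat_lit 0x0,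
nat_lit 0x0,
nat_lit 0x0,
nat_lit 0x0,
nat_lit 0x0,
nat_lit 0x0,
nat_lit 0x0,
nat_lit 0x0,
nat_lit 0x0,
nat_lit 0x0,
nat_lit 0x0,
nat_lit 0x0,
nat_lit 0x0,
nat_lit 0x0,
nat_lit 0x0,
nat_lit 0x0,
nat_lit 0x0,
nat_lit 0x0,
nat_lit 0x0,
nat_lit 0x0,
nat_lit 0x0,
nat_lit 0x0,
nat_lit 0x0,
nat_lit 0x0,
nat_lit 0x0,
nat_lit 0x0,
nat_lit 0x0,
nat_lit 0x0,
nat_lit 0x0,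
nat_lit 0x0,
nat_lit 0x0,
nat_lit 0x0,
nat_lit 0x0,
nat_lit 0x0,
nat_lit 0x0,
nat_lit 0x0,
nat_lit 0x0,
nat_lit 0x0,
nat_lit 0x0,
nat_lit 0x0,
nat_lit 0x0,
nat_lit 0x0,
nat_lit 0x0,
nat_lit 0x0,
nat_lit 0x0,
nat_lit 0x0,
nat_lit 0x0,
nat_lit 0x0,
nat_lit 0x0,
nat_lit 0x0,
nat_lit 0x0,
nat_lit 0x0,
nat_lit 0x0,
nat_lit 0x0,
nat_lit 0x0,
nat_lit 0x0,
nat_lit 0x0,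
nat_lit 0x0,
nat_lit 0x0,
nat_lit 0x0,
nat_lit 0x0,
nat_lit 0x0,
nat_lit 0x0,
nat_lit 0x0,
nat_lit 0x0,
nat_lit 0x0,
nat_lit 0x0,
nat_lit 0x0,
nat_lit 0x0,
nat_lit 0x0,
nat_lit 0x0,
nat_lit 0x0,
nat_lit 0x0,
nat_lit 0x0,
nat_lit 0x0,
nat_lit 0x0,
nat_lit 0x0,
nat_lit 0x0,
nat_lit 0x0,
nat_lit 0x0,
nat_lit 0x0,
nat_lit 0x0,
nat_lit 0x0,
nat_lit 0x0,
nat_lit 0x0,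
nat_lit 0x0,
nat_lit 0x0,
nat_lit 0x0,
nat_lit 0x0,
nat_lit 0x0,
nat_lit 0x0,
nat_lit 0x0,
nat_lit 0x0,
nat_lit 0x0,
nat_lit 0x0,
nat_lit 0x0,
nat_lit 0x0,
nat_lit 0x0,
nat_lit 0x0,
nat_lit 0x0,
nat_lit 0x0,
nat_lit 0x0,
nat_lit 0x0,
nat_lit 0x0,
nat_lit 0x0,
nat_lit 0x0,
nat_lit 0x0,
nat_lit 0x0,
nat_lit 0x0,
nat_lit 0x0,
nat_lit 0x0,
nat_lit 0x0,
nat_lit 0x0,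
nat_lit 0x0,
nat_lit 0x0,
nat_lit 0x0,
nat_lit 0x0,
nat_lit 0x0,
nat_lit 0x0,
nat_lit 0x0,
nat_lit 0x0,
nat_lit 0x0,
nat_lit 0x0,
nat_lit 0x0,
nat_lit 0x0,
nat_lit 0x0,
nat_lit 0x0,
nat_lit 0x0,
nat_lit 0x0,
nat_lit 0x0,
nat_lit 0x0,
nat_lit 0x0,
nat_lit 0x0,
nat_lit 0x0,
nat_lit 0x0,
nat_lit 0x0,
nat_lit 0x0,
nat_lit 0x0,
nat_lit 0x0,
nat_lit 0x0,
nat_lit 0x0,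
nat_lit 0x0,
nat_lit 0x0,
nat_lit 0x0,
nat_lit 0x0,
nat_lit 0x0,
nat_lit 0x0,
nat_lit 0x0,
nat_lit 0x0,
nat_lit 0x0,
nat_lit 0x0,
nat_lit 0x0,
nat_lit 0x0,
nat_lit 0x0,
nat_lit 0x0,
nat_lit 0x0,
nat_lit 0x0,
nat_lit 0x0,
nat_lit 0x0,
nat_lit 0x0,
nat_lit 0x0,
nat_lit 0x0,
nat_lit 0x0,
nat_lit 0x0,
nat_lit 0x0,
nat_lit 0x0,
nat_lit 0x0,
nat_lit 0x0,
nat_lit 0x0,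
nat_lit 0x0,
nat_lit 0x0,
nat_lit 0x0,
nat_lit 0x0,
nat_lit 0x0,
nat_lit 0x0,
nat_lit 0x0,
nat_lit 0x0,
nat_lit 0x0,
nat_lit 0x0,
nat_lit 0x0,
nat_lit 0x0,
nat_lit 0x0,
nat_lit 0x0,
nat_lit 0x0,
nat_lit 0x0,
nat_lit 0x0,
nat_lit 0x0,
nat_lit 0x0,
nat_lit 0x0,
nat_lit 0x0,
nat_lit 0x0,
nat_lit 0x0,
nat_lit 0x0,
nat_lit 0x0,
nat_lit 0x0,
nat_lit 0x0,
nat_lit 0x0,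
nat_lit 0x0,
nat_lit 0x0,
nat_lit 0x0,
nat_lit 0x0,
nat_lit 0x0,
nat_lit 0x0,
nat_lit 0x0,
nat_lit 0x0,
nat_lit 0x0,
nat_lit 0x0,
nat_lit 0x0,
nat_lit 0x0,
nat_lit 0x0,
nat_lit 0x0,
nat_lit 0x0,
nat_lit 0x0,
nat_lit 0x0,
nat_lit 0x0,
nat_lit 0x0,
nat_lit 0x0,
nat_lit 0x0,
nat_lit 0x0,
nat_lit 0x0,
nat_lit 0x0,
nat_lit 0x0,
nat_lit 0x0,
nat_lit 0x0,
nat_lit 0x0,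
nat_lit 0x0,
nat_lit 0x0,
nat_lit 0x0,
nat_lit 0x0,
nat_lit 0x0,
nat_lit 0x0,
nat_lit 0x0,
nat_lit 0x0,
nat_lit 0x0,
nat_lit 0x0,
nat_lit 0x0,
nat_lit 0x0,
nat_lit 0x0,
nat_lit 0x0,
nat_lit 0x0,
nat_lit 0x0,
nat_lit 0x0,
nat_lit 0x0,
nat_lit 0x0,
nat_lit 0x0,
nat_lit 0x0,
nat_lit 0x0,
nat_lit 0x0,
nat_lit 0x0,
nat_lit 0x0,
nat_lit 0x0,
nat_lit 0x0,
nat_lit 0x0,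
nat_lit 0x0,
nat_lit 0x0,
nat_lit 0x0,
nat_lit 0x0,
nat_lit 0x0,
nat_lit 0x0,
nat_lit 0x0,
nat_lit 0x0,
nat_lit 0x0,
nat_lit 0x0,
nat_lit 0x0,
nat_lit 0x0,
nat_lit 0x0,
nat_lit 0x0,
nat_lit 0x0,
nat_lit 0x0,
nat_lit 0x0,
nat_lit 0x0]

theorem ok5500 : checkFacts facts ip words 256 subs 18473 items5500 5500 = true := by decide +kernel

theorem len5500 : Nat.beq items5500.length 500 = true := by decide +kernel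

noncomputable def items6000 : List ℕ := [
nat_lit 0x0,
nat_lit 0x0,
nat_lit 0x0,
nat_lit 0x0,
nat_lit 0x0,
nat_lit 0x0,
nat_lit 0x0,
nat_lit 0x0,
nat_lit 0x0,
nat_lit 0x0,
nat_lit 0x0,
nat_lit 0x0,
nat_lit 0x0,
nat_lit 0x0,
nat_lit 0x0,
nat_lit 0x0,
nat_lit 0x0,
nat_lit 0x0,
nat_lit 0x0,
nat_lit 0x0,
nat_lit 0x0,
nat_lit 0x0,
nat_lit 0x0,
nat_lit 0x0,
nat_lit 0x0,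
nat_lit 0x0,
nat_lit 0x0,
nat_lit 0x0,
nat_lit 0x0,
nat_lit 0x0,
nat_lit 0x0,
nat_lit 0x0,
nat_lit 0x0,
nat_lit 0x0,
nat_lit 0x0,
nat_lit 0x0,
nat_lit 0x0,
nat_lit 0x0,
nat_lit 0x0,
nat_lit 0x0,
nat_lit 0x0,
nat_lit 0x0,
nat_lit 0x0,
nat_lit 0x0,
nat_lit 0x0,
nat_lit 0x0,
nat_lit 0x0,
nat_lit 0x0,
nat_lit 0x0,
nat_lit 0x0,
nat_lit 0x0,
nat_lit 0x0,
nat_lit 0x0,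
nat_lit 0x0,
nat_lit 0x0,
nat_lit 0x0,
nat_lit 0x0,
nat_lit 0x0,
nat_lit 0x0,
nat_lit 0x0,
nat_lit 0x0,
nat_lit 0x0,
nat_lit 0x0,
nat_lit 0x0,
nat_lit 0x0,
nat_lit 0x0,
nat_lit 0x0,
nat_lit 0x0,
nat_lit 0x0,
nat_lit 0x0,
nat_lit 0x0,
nat_lit 0x0,
nat_lit 0x0,
nat_lit 0x0,
nat_lit 0x0,
nat_lit 0x0,
nat_lit 0x0,
nat_lit 0x0,
nat_lit 0x0,
nat_lit 0x0,
nat_lit 0x0,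
nat_lit 0x0,
nat_lit 0x0,
nat_lit 0x0,
nat_lit 0x0,
nat_lit 0x0,
nat_lit 0x0,
nat_lit 0x0,
nat_lit 0x0,
nat_lit 0x0,
nat_lit 0x0,
nat_lit 0x0,
nat_lit 0x0,
nat_lit 0x0,
nat_lit 0x0,
nat_lit 0x0,
nat_lit 0x0,
nat_lit 0x0,
nat_lit 0x0,
nat_lit 0x0,
nat_lit 0x0,
nat_lit 0x0,
nat_lit 0x0,
nat_lit 0x0,
nat_lit 0x0,
nat_lit 0x0,
nat_lit 0x0,
nat_lit 0x0,
nat_lit 0x0,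
nat_lit 0x0,
nat_lit 0x0,
nat_lit 0x0,
nat_lit 0x0,
nat_lit 0x0,
nat_lit 0x0,
nat_lit 0x0,
nat_lit 0x0,
nat_lit 0x0,
nat_lit 0x0,
nat_lit 0x0,
nat_lit 0x0,
nat_lit 0x0,
nat_lit 0x0,
nat_lit 0x0,
nat_lit 0x0,
nat_lit 0x0,
nat_lit 0x0,
nat_lit 0x0,
nat_lit 0x0,
nat_lit 0x0,
nat_lit 0x0,
nat_lit 0x0,
nat_lit 0x0,
nat_lit 0x0,
nat_lit 0x0,
nat_lit 0x0,
nat_lit 0x0,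
nat_lit 0x0,
nat_lit 0x0,
nat_lit 0x0,
nat_lit 0x0,
nat_lit 0x0,
nat_lit 0x0,
nat_lit 0x0,
nat_lit 0x0,
nat_lit 0x0,
nat_lit 0x0,
nat_lit 0x0,
nat_lit 0x0,
nat_lit 0x0,
nat_lit 0x0,
nat_lit 0x0,
nat_lit 0x0,
nat_lit 0x0,
nat_lit 0x0,
nat_lit 0x0,
nat_lit 0x0,
nat_lit 0x0,
nat_lit 0x0,
nat_lit 0x0,
nat_lit 0x0,
nat_lit 0x0,
nat_lit 0x0,
nat_lit 0x0,
nat_lit 0x0,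
nat_lit 0x0,
nat_lit 0x0,
nat_lit 0x0,
nat_lit 0x0,
nat_lit 0x0,
nat_lit 0x0,
nat_lit 0x0,
nat_lit 0x0,
nat_lit 0x0,
nat_lit 0x0,
nat_lit 0x0,
nat_lit 0x0,
nat_lit 0x0,
nat_lit 0x0,
nat_lit 0x0,
nat_lit 0x0,
nat_lit 0x0,
nat_lit 0x0,
nat_lit 0x0,
nat_lit 0x0,
nat_lit 0x0,
nat_lit 0x0,
nat_lit 0x0,
nat_lit 0x0,
nat_lit 0x0,
nat_lit 0x0,
nat_lit 0x0,
nat_lit 0x0,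
nat_lit 0x0,
nat_lit 0x0,
nat_lit 0x0,
nat_lit 0x0,
nat_lit 0x0,
nat_lit 0x0,
nat_lit 0x0,
nat_lit 0x0,
nat_lit 0x0,
nat_lit 0x0,
nat_lit 0x0,
nat_lit 0x0,
nat_lit 0x0,
nat_lit 0x0,
nat_lit 0x0,
nat_lit 0x0,
nat_lit 0x0,
nat_lit 0x0,
nat_lit 0x0,
nat_lit 0x0,
nat_lit 0x0,
nat_lit 0x0,
nat_lit 0x0,
nat_lit 0x0,
nat_lit 0x0,
nat_lit 0x0,
nat_lit 0x0,
nat_lit 0x0,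
nat_lit 0x0,
nat_lit 0x0,
nat_lit 0x0,
nat_lit 0x0,
nat_lit 0x0,
nat_lit 0x0,
nat_lit 0x0,
nat_lit 0x0,
nat_lit 0x0,
nat_lit 0x0,
nat_lit 0x0,
nat_lit 0x0,
nat_lit 0x0,
nat_lit 0x0,
nat_lit 0x0,
nat_lit 0x0,
nat_lit 0x0,
nat_lit 0x0,
nat_lit 0x0,
nat_lit 0x0,
nat_lit 0x0,
nat_lit 0x0,
nat_lit 0x0,
nat_lit 0x0,
nat_lit 0x0,
nat_lit 0x0,
nat_lit 0x0,
nat_lit 0x0,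
nat_lit 0x0,
nat_lit 0x0,
nat_lit 0x0,
nat_lit 0x0,
nat_lit 0x0,
nat_lit 0x0,
nat_lit 0x0,
nat_lit 0x0,
nat_lit 0x0,
nat_lit 0x0,
nat_lit 0x0,
nat_lit 0x0,
nat_lit 0x0,
nat_lit 0x0,
nat_lit 0x0,
nat_lit 0x0,
nat_lit 0x0,
nat_lit 0x0,
nat_lit 0x0,
nat_lit 0x0,
nat_lit 0x0,
nat_lit 0x0,
nat_lit 0x0,
nat_lit 0x0,
nat_lit 0x0,
nat_lit 0x0,
nat_lit 0x0,
nat_lit 0x0,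
nat_lit 0x0,
nat_lit 0x0,
nat_lit 0x0,
nat_lit 0x0,
nat_lit 0x0,
nat_lit 0x0,
nat_lit 0x0,
nat_lit 0x0,
nat_lit 0x0,
nat_lit 0x0,
nat_lit 0x0,
nat_lit 0x0,
nat_lit 0x0,
nat_lit 0x0,
nat_lit 0x0,
nat_lit 0x0,
nat_lit 0x0,
nat_lit 0x0,
nat_lit 0x0,
nat_lit 0x0,
nat_lit 0x0,
nat_lit 0x0,
nat_lit 0x0,
nat_lit 0x0,
nat_lit 0x0,
nat_lit 0x0,
nat_lit 0x0,
nat_lit 0x0,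
nat_lit 0x0,
nat_lit 0x0,
nat_lit 0x0,
nat_lit 0x0,
nat_lit 0x0,
nat_lit 0x0,
nat_lit 0x0,
nat_lit 0x0,
nat_lit 0x0,
nat_lit 0x0,
nat_lit 0x0,
nat_lit 0x0,
nat_lit 0x0,
nat_lit 0x0,
nat_lit 0x0,
nat_lit 0x0,
nat_lit 0x0,
nat_lit 0x0,
nat_lit 0x0,
nat_lit 0x0,
nat_lit 0x0,
nat_lit 0x0,
nat_lit 0x0,
nat_lit 0x0,
nat_lit 0x0,
nat_lit 0x0,
nat_lit 0x0,
nat_lit 0x0,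
nat_lit 0x0,
nat_lit 0x0,
nat_lit 0x0,
nat_lit 0x0,
nat_lit 0x0,
nat_lit 0x0,
nat_lit 0x0,
nat_lit 0x0,
nat_lit 0x0,
nat_lit 0x0,
nat_lit 0x0,
nat_lit 0x0,
nat_lit 0x0,
nat_lit 0x0,
nat_lit 0x0,
nat_lit 0x0,
nat_lit 0x0,
nat_lit 0x0,
nat_lit 0x0,
nat_lit 0x0,
nat_lit 0x0,
nat_lit 0x0,
nat_lit 0x0,
nat_lit 0x0,
nat_lit 0x0,
nat_lit 0x0,
nat_lit 0x0,
nat_lit 0x0,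
nat_lit 0x0,
nat_lit 0x0,
nat_lit 0x0,
nat_lit 0x0,
nat_lit 0x0,
nat_lit 0x0,
nat_lit 0x0,
nat_lit 0x0,
nat_lit 0x0,
nat_lit 0x0,
nat_lit 0x0,
nat_lit 0x0,
nat_lit 0x0,
nat_lit 0x0,
nat_lit 0x0,
nat_lit 0x0,
nat_lit 0x0,
nat_lit 0x0,
nat_lit 0x0,
nat_lit 0x0,
nat_lit 0x0,
nat_lit 0x0,
nat_lit 0x0,
nat_lit 0x0,
nat_lit 0x0,
nat_lit 0x0,
nat_lit 0x0,
nat_lit 0x0,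
nat_lit 0x0,
nat_lit 0x0,
nat_lit 0x0,
nat_lit 0x0,
nat_lit 0x0,
nat_lit 0x0,
nat_lit 0x0,
nat_lit 0x0,
nat_lit 0x0,
nat_lit 0x0,
nat_lit 0x0,
nat_lit 0x0,
nat_lit 0x0,
nat_lit 0x0,
nat_lit 0x0,
nat_lit 0x0,
nat_lit 0x0,
nat_lit 0x0,
nat_lit 0x0,
nat_lit 0x0,
nat_lit 0x0,
nat_lit 0x0,
nat_lit 0x0,
nat_lit 0x0,
nat_lit 0x0,
nat_lit 0x0,
nat_lit 0x0,
nat_lit 0x0,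
nat_lit 0x0,
nat_lit 0x0,
nat_lit 0x0,
nat_lit 0x0,
nat_lit 0x0,
nat_lit 0x0,
nat_lit 0x0,
nat_lit 0x0,
nat_lit 0x0,
nat_lit 0x0,
nat_lit 0x0,
nat_lit 0x0,
nat_lit 0x0,
nat_lit 0x0,
nat_lit 0x0,
nat_lit 0x0,
nat_lit 0x0,
nat_lit 0x0,
nat_lit 0x0,
nat_lit 0x0,
nat_lit 0x0,
nat_lit 0x0,
nat_lit 0x0,
nat_lit 0x0,
nat_lit 0x0,
nat_lit 0x0,
nat_lit 0x0,
nat_lit 0x0,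
nat_lit 0x0,
nat_lit 0x0,
nat_lit 0x0,
nat_lit 0x0,
nat_lit 0x0,
nat_lit 0x0,
nat_lit 0x0,
nat_lit 0x0,
nat_lit 0x0,
nat_lit 0x0,
nat_lit 0x0,
nat_lit 0x0,
nat_lit 0x0,
nat_lit 0x0,
nat_lit 0x0,
nat_lit 0x0,
nat_lit 0x0,
nat_lit 0x0,
nat_lit 0x0,
nat_lit 0x0,
nat_lit 0x0,
nat_lit 0x0,
nat_lit 0x0,
nat_lit 0x0,
nat_lit 0x0,
nat_lit 0x0,
nat_lit 0x0,
nat_lit 0x0,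
nat_lit 0x0,
nat_lit 0x0,
nat_lit 0x0,
nat_lit 0x0,
nat_lit 0x0,
nat_lit 0x0,
nat_lit 0x0,
nat_lit 0x0,
nat_lit 0x0,
nat_lit 0x0,
nat_lit 0x0,
nat_lit 0x0,
nat_lit 0x0,
nat_lit 0x0,
nat_lit 0x0,
nat_lit 0x0,
nat_lit 0x0,
nat_lit 0x0,
nat_lit 0x0,
nat_lit 0x0,
nat_lit 0x0,
nat_lit 0x0,
nat_lit 0x0,
nat_lit 0x0,
nat_lit 0x0,
nat_lit 0x0,
nat_lit 0x0]

theorem ok6000 : checkFacts facts ip words 256 subs 18473 items6000 6000 = true := by decide +kernel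

theorem len6000 : Nat.beq items6000.length 500 = true := by decide +kernel

noncomputable def items6500 : List ℕ := [
nat_lit 0x0,
nat_lit 0x0,
nat_lit 0x0,
nat_lit 0x0,
nat_lit 0x0,
nat_lit 0x0,
nat_lit 0x0,
nat_lit 0x0,
nat_lit 0x0,
nat_lit 0x0,
nat_lit 0x0,
nat_lit 0x0,
nat_lit 0x0,
nat_lit 0x0,
nat_lit 0x0,
nat_lit 0x0,
nat_lit 0x0,
nat_lit 0x0,
nat_lit 0x0,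
nat_lit 0x0,
nat_lit 0x0,
nat_lit 0x0,
nat_lit 0x0,
nat_lit 0x0,
nat_lit 0x0,
nat_lit 0x0,
nat_lit 0x0,
nat_lit 0x0,
nat_lit 0x0,
nat_lit 0x0,
nat_lit 0x0,
nat_lit 0x0,
nat_lit 0x0,
nat_lit 0x0,
nat_lit 0x0,
nat_lit 0x0,
nat_lit 0x0,
nat_lit 0x0,
nat_lit 0x0,
nat_lit 0x0,
nat_lit 0x0,
nat_lit 0x0,
nat_lit 0x0,
nat_lit 0x0,
nat_lit 0x0,
nat_lit 0x0,
nat_lit 0x0,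
nat_lit 0x0,
nat_lit 0x0,
nat_lit 0x0,
nat_lit 0x0,
nat_lit 0x0,
nat_lit 0x0,
nat_lit 0x0,
nat_lit 0x0,
nat_lit 0x0,
nat_lit 0x0,
nat_lit 0x0,
nat_lit 0x0,
nat_lit 0x0,
nat_lit 0x0,
nat_lit 0x0,
nat_lit 0x0,
nat_lit 0x0,
nat_lit 0x0,
nat_lit 0x0,
nat_lit 0x0,
nat_lit 0x0,
nat_lit 0x0,
nat_lit 0x0,
nat_lit 0x0,
nat_lit 0x0,
nat_lit 0x0,
nat_lit 0x0,
nat_lit 0x0,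
nat_lit 0x0,
nat_lit 0x0,
nat_lit 0x0,
nat_lit 0x0,
nat_lit 0x0,
nat_lit 0x0,
nat_lit 0x0,
nat_lit 0x0,
nat_lit 0x0,
nat_lit 0x0,
nat_lit 0x0,
nat_lit 0x0,
nat_lit 0x0,
nat_lit 0x0,
nat_lit 0x0,
nat_lit 0x0,
nat_lit 0x0,
nat_lit 0x0,
nat_lit 0x0,
nat_lit 0x0,
nat_lit 0x0,
nat_lit 0x0,
nat_lit 0x0,
nat_lit 0x0,
nat_lit 0x0,
nat_lit 0x0,
nat_lit 0x0,
nat_lit 0x0,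
nat_lit 0x0,
nat_lit 0x0,
nat_lit 0x0,
nat_lit 0x0,
nat_lit 0x0,
nat_lit 0x0,
nat_lit 0x0,
nat_lit 0x0,
nat_lit 0x0,
nat_lit 0x0,
nat_lit 0x0,
nat_lit 0x0,
nat_lit 0x0,
nat_lit 0x0,
nat_lit 0x0,
nat_lit 0x0,
nat_lit 0x0,
nat_lit 0x0,
nat_lit 0x0,
nat_lit 0x0,
nat_lit 0x0,
nat_lit 0x0,
nat_lit 0x0,
nat_lit 0x0,
nat_lit 0x0,
nat_lit 0x0,
nat_lit 0x0,
nat_lit 0x0,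
nat_lit 0x0,
nat_lit 0x0,
nat_lit 0x0,
nat_lit 0x0,
nat_lit 0x0,
nat_lit 0x0,
nat_lit 0x0,
nat_lit 0x0,
nat_lit 0x0,
nat_lit 0x0,
nat_lit 0x0,
nat_lit 0x0,
nat_lit 0x0,
nat_lit 0x0,
nat_lit 0x0,
nat_lit 0x0,
nat_lit 0x0,
nat_lit 0x0,
nat_lit 0x0,
nat_lit 0x0,
nat_lit 0x0,
nat_lit 0x0,
nat_lit 0x0,
nat_lit 0x0,
nat_lit 0x0,
nat_lit 0x0,
nat_lit 0x0,
nat_lit 0x0,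
nat_lit 0x0,
nat_lit 0x0,
nat_lit 0x0,
nat_lit 0x0,
nat_lit 0x0,
nat_lit 0x0,
nat_lit 0x0,
nat_lit 0x0,
nat_lit 0x0,
nat_lit 0x0,
nat_lit 0x0,
nat_lit 0x0,
nat_lit 0x0,
nat_lit 0x0,
nat_lit 0x0,
nat_lit 0x0,
nat_lit 0x0,
nat_lit 0x0,
nat_lit 0x0,
nat_lit 0x0,
nat_lit 0x0,
nat_lit 0x0,
nat_lit 0x0,
nat_lit 0x0,
nat_lit 0x0,
nat_lit 0x0,
nat_lit 0x0,
nat_lit 0x0,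
nat_lit 0x0,
nat_lit 0x0,
nat_lit 0x0,
nat_lit 0x0,
nat_lit 0x0,
nat_lit 0x0,
nat_lit 0x0,
nat_lit 0x0,
nat_lit 0x0,
nat_lit 0x0,
nat_lit 0x0,
nat_lit 0x0,
nat_lit 0x0,
nat_lit 0x0,
nat_lit 0x0,
nat_lit 0x0,
nat_lit 0x0,
nat_lit 0x0,
nat_lit 0x0,
nat_lit 0x0,
nat_lit 0x0,
nat_lit 0x0,
nat_lit 0x0,
nat_lit 0x0,
nat_lit 0x0,
nat_lit 0x0,
nat_lit 0x0,
nat_lit 0x0,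
nat_lit 0x0,
nat_lit 0x0,
nat_lit 0x0,
nat_lit 0x0,
nat_lit 0x0,
nat_lit 0x0,
nat_lit 0x0,
nat_lit 0x0,
nat_lit 0x0,
nat_lit 0x0,
nat_lit 0x0,
nat_lit 0x0,
nat_lit 0x0,
nat_lit 0x0,
nat_lit 0x0,
nat_lit 0x0,
nat_lit 0x0,
nat_lit 0x0,
nat_lit 0x0,
nat_lit 0x0,
nat_lit 0x0,
nat_lit 0x0,
nat_lit 0x0,
nat_lit 0x0,
nat_lit 0x0,
nat_lit 0x0,
nat_lit 0x0,
nat_lit 0x0,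
nat_lit 0x0,
nat_lit 0x0,
nat_lit 0x0,
nat_lit 0x0,
nat_lit 0x0,
nat_lit 0x0,
nat_lit 0x0,
nat_lit 0x0,
nat_lit 0x0,
nat_lit 0x0,
nat_lit 0x0,
nat_lit 0x0,
nat_lit 0x0,
nat_lit 0x0,
nat_lit 0x0,
nat_lit 0x0,
nat_lit 0x0,
nat_lit 0x0,
nat_lit 0x0,
nat_lit 0x0,
nat_lit 0x0,
nat_lit 0x0,
nat_lit 0x0,
nat_lit 0x0,
nat_lit 0x0,
nat_lit 0x0,
nat_lit 0x0,
nat_lit 0x0,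
nat_lit 0x0,
nat_lit 0x0,
nat_lit 0x0,
nat_lit 0x0,
nat_lit 0x0,
nat_lit 0x0,
nat_lit 0x0,
nat_lit 0x0,
nat_lit 0x0,
nat_lit 0x0,
nat_lit 0x0,
nat_lit 0x0,
nat_lit 0x0,
nat_lit 0x0,
nat_lit 0x0,
nat_lit 0x0,
nat_lit 0x0,
nat_lit 0x0,
nat_lit 0x0,
nat_lit 0x0,
nat_lit 0x0,
nat_lit 0x0,
nat_lit 0x0,
nat_lit 0x0,
nat_lit 0x0,
nat_lit 0x0,
nat_lit 0x0,
nat_lit 0x0,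
nat_lit 0x0,
nat_lit 0x0,
nat_lit 0x0,
nat_lit 0x0,
nat_lit 0x0,
nat_lit 0x0,
nat_lit 0x0,
nat_lit 0x0,
nat_lit 0x0,
nat_lit 0x0,
nat_lit 0x0,
nat_lit 0x0,
nat_lit 0x0,
nat_lit 0x0,
nat_lit 0x0,
nat_lit 0x0,
nat_lit 0x0,
nat_lit 0x0,
nat_lit 0x0,
nat_lit 0x0,
nat_lit 0x0,
nat_lit 0x0,
nat_lit 0x0,
nat_lit 0x0,
nat_lit 0x0,
nat_lit 0x0,
nat_lit 0x0,
nat_lit 0x0,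
nat_lit 0x0,
nat_lit 0x0,
nat_lit 0x0,
nat_lit 0x0,
nat_lit 0x0,
nat_lit 0x0,
nat_lit 0x0,
nat_lit 0x0,
nat_lit 0x0,
nat_lit 0x0,
nat_lit 0x0,
nat_lit 0x0,
nat_lit 0x0,
nat_lit 0x0,
nat_lit 0x0,
nat_lit 0x0,
nat_lit 0x0,
nat_lit 0x0,
nat_lit 0x0,
nat_lit 0x0,
nat_lit 0x0,
nat_lit 0x0,
nat_lit 0x0,
nat_lit 0x0,
nat_lit 0x0,
nat_lit 0x0,
nat_lit 0x0,
nat_lit 0x0,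
nat_lit 0x0,
nat_lit 0x0,
nat_lit 0x0,
nat_lit 0x0,
nat_lit 0x0,
nat_lit 0x0,
nat_lit 0x0,
nat_lit 0x0,
nat_lit 0x0,
nat_lit 0x0,
nat_lit 0x0,
nat_lit 0x0,
nat_lit 0x0,
nat_lit 0x0,
nat_lit 0x0,
nat_lit 0x0,
nat_lit 0x0,
nat_lit 0x0,
nat_lit 0x0,
nat_lit 0x0,
nat_lit 0x0,
nat_lit 0x0,
nat_lit 0x0,
nat_lit 0x0,
nat_lit 0x0,
nat_lit 0x0,
nat_lit 0x0,
nat_lit 0x0,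
nat_lit 0x0,
nat_lit 0x0,
nat_lit 0x0,
nat_lit 0x0,
nat_lit 0x0,
nat_lit 0x0,
nat_lit 0x0,
nat_lit 0x0,
nat_lit 0x0,
nat_lit 0x0,
nat_lit 0x0,
nat_lit 0x0,
nat_lit 0x0,
nat_lit 0x0,
nat_lit 0x0,
nat_lit 0x0,
nat_lit 0x0,
nat_lit 0x0,
nat_lit 0x0,
nat_lit 0x0,
nat_lit 0x0,
nat_lit 0x0,
nat_lit 0x0,
nat_lit 0x0,
nat_lit 0x0,
nat_lit 0x0,
nat_lit 0x0,
nat_lit 0x0,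
nat_lit 0x0,
nat_lit 0x0,
nat_lit 0x0,
nat_lit 0x0,
nat_lit 0x0,
nat_lit 0x0,
nat_lit 0x0,
nat_lit 0x0,
nat_lit 0x0,
nat_lit 0x0,
nat_lit 0x0,
nat_lit 0x0,
nat_lit 0x0,
nat_lit 0x0,
nat_lit 0x0,
nat_lit 0x0,
nat_lit 0x0,
nat_lit 0x0,
nat_lit 0x0,
nat_lit 0x0,
nat_lit 0x0,
nat_lit 0x0,
nat_lit 0x0,
nat_lit 0x0,
nat_lit 0x0,
nat_lit 0x0,
nat_lit 0x0,
nat_lit 0x0,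
nat_lit 0x0,
nat_lit 0x0,
nat_lit 0x0,
nat_lit 0x0,
nat_lit 0x0,
nat_lit 0x0,
nat_lit 0x0,
nat_lit 0x0,
nat_lit 0x0,
nat_lit 0x0,
nat_lit 0x0,
nat_lit 0x0,
nat_lit 0x0,
nat_lit 0x0,
nat_lit 0x0,
nat_lit 0x0,
nat_lit 0x0,
nat_lit 0x0,
nat_lit 0x0,
nat_lit 0x0,
nat_lit 0x0,
nat_lit 0x0,
nat_lit 0x0,
nat_lit 0x0,
nat_lit 0x0,
nat_lit 0x0,
nat_lit 0x0,
nat_lit 0x0,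
nat_lit 0x0,
nat_lit 0x0,
nat_lit 0x0,
nat_lit 0x0,
nat_lit 0x0,
nat_lit 0x0,
nat_lit 0x0,
nat_lit 0x0,
nat_lit 0x0,
nat_lit 0x0,
nat_lit 0x0,
nat_lit 0x0,
nat_lit 0x0,
nat_lit 0x0,
nat_lit 0x0,
nat_lit 0x0,
nat_lit 0x0,
nat_lit 0x0,
nat_lit 0x0,
nat_lit 0x0,
nat_lit 0x0,
nat_lit 0x0,
nat_lit 0x0,
nat_lit 0x0,
nat_lit 0x0,
nat_lit 0x0,
nat_lit 0x0,
nat_lit 0x0,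
nat_lit 0x0,
nat_lit 0x0,
nat_lit 0x0,
nat_lit 0x0,
nat_lit 0x0]

theorem ok6500 : checkFacts facts ip words 256 subs 18473 items6500 6500 = true := by decide +kernel

theorem len6500 : Nat.beq items6500.length 500 = true := by decide +kernel

noncomputable def items7000 : List ℕ := [
nat_lit 0x0,
nat_lit 0x0,
nat_lit 0x0,
nat_lit 0x0,
nat_lit 0x0,
nat_lit 0x0,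
nat_lit 0x0,
nat_lit 0x0,
nat_lit 0x0,
nat_lit 0x0,
nat_lit 0x0,
nat_lit 0x0,
nat_lit 0x0,
nat_lit 0x0,
nat_lit 0x0,
nat_lit 0x0,
nat_lit 0x0,
nat_lit 0x0,
nat_lit 0x0,
nat_lit 0x0,
nat_lit 0x0,
nat_lit 0x0,
nat_lit 0x0,
nat_lit 0x0,
nat_lit 0x0,
nat_lit 0x0,
nat_lit 0x0,
nat_lit 0x0,
nat_lit 0x0,
nat_lit 0x0,
nat_lit 0x0,
nat_lit 0x0,
nat_lit 0x0,
nat_lit 0x0,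
nat_lit 0x0,
nat_lit 0x0,
nat_lit 0x0,
nat_lit 0x0,
nat_lit 0x0,
nat_lit 0x0,
nat_lit 0x0,
nat_lit 0x0,
nat_lit 0x0,
nat_lit 0x0,
nat_lit 0x0,
nat_lit 0x0,
nat_lit 0x0,
nat_lit 0x0,
nat_lit 0x0,
nat_lit 0x0,
nat_lit 0x0,
nat_lit 0x0,
nat_lit 0x0,
nat_lit 0x0,
nat_lit 0x0,
nat_lit 0x0,
nat_lit 0x0,
nat_lit 0x0,
nat_lit 0x0,
nat_lit 0x0,
nat_lit 0x0,
nat_lit 0x0,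
nat_lit 0x0,
nat_lit 0x0,
nat_lit 0x0,
nat_lit 0x0,
nat_lit 0x0,
nat_lit 0x0,
nat_lit 0x0,
nat_lit 0x0,
nat_lit 0x0,
nat_lit 0x0,
nat_lit 0x0,
nat_lit 0x0,
nat_lit 0x0,
nat_lit 0x0,
nat_lit 0x0,
nat_lit 0x0,
nat_lit 0x0,
nat_lit 0x0,
nat_lit 0x0,
nat_lit 0x0,
nat_lit 0x0,
nat_lit 0x0,
nat_lit 0x0,
nat_lit 0x0,
nat_lit 0x0,
nat_lit 0x0,
nat_lit 0x0,
nat_lit 0x0,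
nat_lit 0x0,
nat_lit 0x0,
nat_lit 0x0,
nat_lit 0x0,
nat_lit 0x0,
nat_lit 0x0,
nat_lit 0x0,
nat_lit 0x0,
nat_lit 0x0,
nat_lit 0x0,
nat_lit 0x0,
nat_lit 0x0,
nat_lit 0x0,
nat_lit 0x0,
nat_lit 0x0,
nat_lit 0x0,
nat_lit 0x0,
nat_lit 0x0,
nat_lit 0x0,
nat_lit 0x0,
nat_lit 0x0,
nat_lit 0x0,
nat_lit 0x0,
nat_lit 0x0,
nat_lit 0x0,
nat_lit 0x0,
nat_lit 0x0,
nat_lit 0x0,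
nat_lit 0x0,
nat_lit 0x0,
nat_lit 0x0,
nat_lit 0x0,
nat_lit 0x0,
nat_lit 0x0,
nat_lit 0x0,
nat_lit 0x0,
nat_lit 0x0,
nat_lit 0x0,
nat_lit 0x0,
nat_lit 0x0,
nat_lit 0x0,
nat_lit 0x0,
nat_lit 0x0,
nat_lit 0x0,
nat_lit 0x0,
nat_lit 0x0,
nat_lit 0x0,
nat_lit 0x0,
nat_lit 0x0,
nat_lit 0x0,
nat_lit 0x0,
nat_lit 0x0,
nat_lit 0x0,
nat_lit 0x0,
nat_lit 0x0,
nat_lit 0x0,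
nat_lit 0x0,
nat_lit 0x0,
nat_lit 0x0,
nat_lit 0x0,
nat_lit 0x0,
nat_lit 0x0,
nat_lit 0x0,
nat_lit 0x0,
nat_lit 0x0,
nat_lit 0x0,
nat_lit 0x0,
nat_lit 0x0,
nat_lit 0x0,
nat_lit 0x0,
nat_lit 0x0,
nat_lit 0x0,
nat_lit 0x0,
nat_lit 0x0,
nat_lit 0x0,
nat_lit 0x0,
nat_lit 0x0,
nat_lit 0x0,
nat_lit 0x0,
nat_lit 0x0,
nat_lit 0x0,
nat_lit 0x0,
nat_lit 0x0,
nat_lit 0x0,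
nat_lit 0x0,
nat_lit 0x0,
nat_lit 0x0,
nat_lit 0x0,
nat_lit 0x0,
nat_lit 0x0,
nat_lit 0x0,
nat_lit 0x0,
nat_lit 0x0,
nat_lit 0x0,
nat_lit 0x0,
nat_lit 0x0,
nat_lit 0x0,
nat_lit 0x0,
nat_lit 0x0,
nat_lit 0x0,
nat_lit 0x0,
nat_lit 0x0,
nat_lit 0x0,
nat_lit 0x0,
nat_lit 0x0,
nat_lit 0x0,
nat_lit 0x0,
nat_lit 0x0,
nat_lit 0x0,
nat_lit 0x0,
nat_lit 0x0,
nat_lit 0x0,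
nat_lit 0x0,
nat_lit 0x0,
nat_lit 0x0,
nat_lit 0x0,
nat_lit 0x0,
nat_lit 0x0,
nat_lit 0x0,
nat_lit 0x0,
nat_lit 0x0,
nat_lit 0x0,
nat_lit 0x0,
nat_lit 0x0,
nat_lit 0x0,
nat_lit 0x0,
nat_lit 0x0,
nat_lit 0x0,
nat_lit 0x0,
nat_lit 0x0,
nat_lit 0x0,
nat_lit 0x0,
nat_lit 0x0,
nat_lit 0x0,
nat_lit 0x0,
nat_lit 0x0,
nat_lit 0x0,
nat_lit 0x0,
nat_lit 0x0,
nat_lit 0x0,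
nat_lit 0x0,
nat_lit 0x0,
nat_lit 0x0,
nat_lit 0x0,
nat_lit 0x0,
nat_lit 0x0,
nat_lit 0x0,
nat_lit 0x0,
nat_lit 0x0,
nat_lit 0x0,
nat_lit 0x0,
nat_lit 0x0,
nat_lit 0x0,
nat_lit 0x0,
nat_lit 0x0,
nat_lit 0x0,
nat_lit 0x0,
nat_lit 0x0,
nat_lit 0x0,
nat_lit 0x0,
nat_lit 0x0,
nat_lit 0x0,
nat_lit 0x0,
nat_lit 0x0,
nat_lit 0x0,
nat_lit 0x0,
nat_lit 0x0,
nat_lit 0x0,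
nat_lit 0x0,
nat_lit 0x0,
nat_lit 0x0,
nat_lit 0x0,
nat_lit 0x0,
nat_lit 0x0,
nat_lit 0x0,
nat_lit 0x0,
nat_lit 0x0,
nat_lit 0x0,
nat_lit 0x0,
nat_lit 0x0,
nat_lit 0x0,
nat_lit 0x0,
nat_lit 0x0,
nat_lit 0x0,
nat_lit 0x0,
nat_lit 0x0,
nat_lit 0x0,
nat_lit 0x0,
nat_lit 0x0,
nat_lit 0x0,
nat_lit 0x0,
nat_lit 0x0,
nat_lit 0x0,
nat_lit 0x0,
nat_lit 0x0,
nat_lit 0x0,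
nat_lit 0x0,
nat_lit 0x0,
nat_lit 0x0,
nat_lit 0x0,
nat_lit 0x0,
nat_lit 0x0,
nat_lit 0x0,
nat_lit 0x0,
nat_lit 0x0,
nat_lit 0x0,
nat_lit 0x0,
nat_lit 0x0,
nat_lit 0x0,
nat_lit 0x0,
nat_lit 0x0,
nat_lit 0x0,
nat_lit 0x0,
nat_lit 0x0,
nat_lit 0x0,
nat_lit 0x0,
nat_lit 0x0,
nat_lit 0x0,
nat_lit 0x0,
nat_lit 0x0,
nat_lit 0x0,
nat_lit 0x0,
nat_lit 0x0,
nat_lit 0x0,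
nat_lit 0x0,
nat_lit 0x0,
nat_lit 0x0,
nat_lit 0x0,
nat_lit 0x0,
nat_lit 0x0,
nat_lit 0x0,
nat_lit 0x0,
nat_lit 0x0,
nat_lit 0x0,
nat_lit 0x0,
nat_lit 0x0,
nat_lit 0x0,
nat_lit 0x0,
nat_lit 0x0,
nat_lit 0x0,
nat_lit 0x0,
nat_lit 0x0,
nat_lit 0x0,
nat_lit 0x0,
nat_lit 0x0,
nat_lit 0x0,
nat_lit 0x0,
nat_lit 0x0,
nat_lit 0x0,
nat_lit 0x0,
nat_lit 0x0,
nat_lit 0x0,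
nat_lit 0x0,
nat_lit 0x0,
nat_lit 0x0,
nat_lit 0x0,
nat_lit 0x0,
nat_lit 0x0,
nat_lit 0x0,
nat_lit 0x0,
nat_lit 0x0,
nat_lit 0x0,
nat_lit 0x0,
nat_lit 0x0,
nat_lit 0x0,
nat_lit 0x0,
nat_lit 0x0,
nat_lit 0x0,
nat_lit 0x0,
nat_lit 0x0,
nat_lit 0x0,
nat_lit 0x0,
nat_lit 0x0,
nat_lit 0x0,
nat_lit 0x0,
nat_lit 0x0,
nat_lit 0x0,
nat_lit 0x0,
nat_lit 0x0,
nat_lit 0x0,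
nat_lit 0x0,
nat_lit 0x0,
nat_lit 0x0,
nat_lit 0x0,
nat_lit 0x0,
nat_lit 0x0,
nat_lit 0x0,
nat_lit 0x0,
nat_lit 0x0,
nat_lit 0x0,
nat_lit 0x0,
nat_lit 0x0,
nat_lit 0x0,
nat_lit 0x0,
nat_lit 0x0,
nat_lit 0x0,
nat_lit 0x0,
nat_lit 0x0,
nat_lit 0x0,
nat_lit 0x0,
nat_lit 0x0,
nat_lit 0x0,
nat_lit 0x0,
nat_lit 0x0,
nat_lit 0x0,
nat_lit 0x0,
nat_lit 0x0,
nat_lit 0x0,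
nat_lit 0x0,
nat_lit 0x0,
nat_lit 0x0,
nat_lit 0x0,
nat_lit 0x0,
nat_lit 0x0,
nat_lit 0x0,
nat_lit 0x0,
nat_lit 0x0,
nat_lit 0x0,
nat_lit 0x0,
nat_lit 0x0,
nat_lit 0x0,
nat_lit 0x0,
nat_lit 0x0,
nat_lit 0x0,
nat_lit 0x0,
nat_lit 0x0,
nat_lit 0x0,
nat_lit 0x0,
nat_lit 0x0,
nat_lit 0x0,
nat_lit 0x0,
nat_lit 0x0,
nat_lit 0x0,
nat_lit 0x0,
nat_lit 0x0,
nat_lit 0x0,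
nat_lit 0x0,
nat_lit 0x0,
nat_lit 0x0,
nat_lit 0x0,
nat_lit 0x0,
nat_lit 0x0,
nat_lit 0x0,
nat_lit 0x0,
nat_lit 0x0,
nat_lit 0x0,
nat_lit 0x0,
nat_lit 0x0,
nat_lit 0x0,
nat_lit 0x0,
nat_lit 0x0,
nat_lit 0x0,
nat_lit 0x0,
nat_lit 0x0,
nat_lit 0x0,
nat_lit 0x0,
nat_lit 0x0,
nat_lit 0x0,
nat_lit 0x0,
nat_lit 0x0,
nat_lit 0x0,
nat_lit 0x0,
nat_lit 0x0,
nat_lit 0x0,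
nat_lit 0x0,
nat_lit 0x0,
nat_lit 0x0,
nat_lit 0x0,
nat_lit 0x0,
nat_lit 0x0,
nat_lit 0x0,
nat_lit 0x0,
nat_lit 0x0,
nat_lit 0x0,
nat_lit 0x0,
nat_lit 0x0,
nat_lit 0x0,
nat_lit 0x0,
nat_lit 0x0,
nat_lit 0x0,
nat_lit 0x0,
nat_lit 0x0,
nat_lit 0x0,
nat_lit 0x0,
nat_lit 0x0,
nat_lit 0x0,
nat_lit 0x0,
nat_lit 0x0,
nat_lit 0x0,
nat_lit 0x0,
nat_lit 0x0,
nat_lit 0x0,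
nat_lit 0x0,
nat_lit 0x0,
nat_lit 0x0,
nat_lit 0x0,
nat_lit 0x0,
nat_lit 0x0,
nat_lit 0x0,
nat_lit 0x0,
nat_lit 0x0,
nat_lit 0x0,
nat_lit 0x0,
nat_lit 0x0,
nat_lit 0x0,
nat_lit 0x0,
nat_lit 0x0,
nat_lit 0x0,
nat_lit 0x0,
nat_lit 0x0]

theorem ok7000 : checkFacts facts ip words 256 subs 18473 items7000 7000 = true := by decide +kernel

theorem len7000 : Nat.beq items7000.length 500 = true := by decide +kernel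

noncomputable def items7500 : List ℕ := [
nat_lit 0x0,
nat_lit 0x0,
nat_lit 0x0,
nat_lit 0x0,
nat_lit 0x0,
nat_lit 0x0,
nat_lit 0x0,
nat_lit 0x0,
nat_lit 0x0,
nat_lit 0x0,
nat_lit 0x0,
nat_lit 0x0,
nat_lit 0x0,
nat_lit 0x0,
nat_lit 0x0,
nat_lit 0x0,
nat_lit 0x0,
nat_lit 0x0,
nat_lit 0x0,
nat_lit 0x0,
nat_lit 0x0,
nat_lit 0x0,
nat_lit 0x0,
nat_lit 0x0,
nat_lit 0x0,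
nat_lit 0x0,
nat_lit 0x0,
nat_lit 0x0,
nat_lit 0x0,
nat_lit 0x0,
nat_lit 0x0,
nat_lit 0x0,
nat_lit 0x0,
nat_lit 0x0,
nat_lit 0x0,
nat_lit 0x0,
nat_lit 0x0,
nat_lit 0x0,
nat_lit 0x0,
nat_lit 0x0,
nat_lit 0x0,
nat_lit 0x0,
nat_lit 0x0,
nat_lit 0x0,
nat_lit 0x0,
nat_lit 0x0,
nat_lit 0x0,
nat_lit 0x0,
nat_lit 0x0,
nat_lit 0x0,
nat_lit 0x0,
nat_lit 0x0,
nat_lit 0x0,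
nat_lit 0x0,
nat_lit 0x0,
nat_lit 0x0,
nat_lit 0x0,
nat_lit 0x0,
nat_lit 0x0,
nat_lit 0x0,
nat_lit 0x0,
nat_lit 0x0,
nat_lit 0x0,
nat_lit 0x0,
nat_lit 0x0,
nat_lit 0x0,
nat_lit 0x0,
nat_lit 0x0,
nat_lit 0x0,
nat_lit 0x0,
nat_lit 0x0,
nat_lit 0x0,
nat_lit 0x0,
nat_lit 0x0,
nat_lit 0x0,
nat_lit 0x0,
nat_lit 0x0,
nat_lit 0x0,
nat_lit 0x0,
nat_lit 0x0,
nat_lit 0x0,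
nat_lit 0x0,
nat_lit 0x0,
nat_lit 0x0,
nat_lit 0x0,
nat_lit 0x0,
nat_lit 0x0,
nat_lit 0x0,
nat_lit 0x0,
nat_lit 0x0,
nat_lit 0x0,
nat_lit 0x0,
nat_lit 0x0,
nat_lit 0x0,
nat_lit 0x0,
nat_lit 0x0,
nat_lit 0x0,
nat_lit 0x0,
nat_lit 0x0,
nat_lit 0x0,
nat_lit 0x0,
nat_lit 0x0,
nat_lit 0x0,
nat_lit 0x0,
nat_lit 0x0,
nat_lit 0x0,
nat_lit 0x0,
nat_lit 0x0,
nat_lit 0x0,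
nat_lit 0x0,
nat_lit 0x0,
nat_lit 0x0,
nat_lit 0x0,
nat_lit 0x0,
nat_lit 0x0,
nat_lit 0x0,
nat_lit 0x0,
nat_lit 0x0,
nat_lit 0x0,
nat_lit 0x0,
nat_lit 0x0,
nat_lit 0x0,
nat_lit 0x0,
nat_lit 0x0,
nat_lit 0x0,
nat_lit 0x0,
nat_lit 0x0,
nat_lit 0x0,
nat_lit 0x0,
nat_lit 0x0,
nat_lit 0x0,
nat_lit 0x0,
nat_lit 0x0,
nat_lit 0x0,
nat_lit 0x0,
nat_lit 0x0,
nat_lit 0x0,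
nat_lit 0x0,
nat_lit 0x0,
nat_lit 0x0,
nat_lit 0x0,
nat_lit 0x0,
nat_lit 0x0,
nat_lit 0x0,
nat_lit 0x0,
nat_lit 0x0,
nat_lit 0x0,
nat_lit 0x0,
nat_lit 0x0,
nat_lit 0x0,
nat_lit 0x0,
nat_lit 0x0,
nat_lit 0x0,
nat_lit 0x0,
nat_lit 0x0,
nat_lit 0x0,
nat_lit 0x0,
nat_lit 0x0,
nat_lit 0x0,
nat_lit 0x0,
nat_lit 0x0,
nat_lit 0x0,
nat_lit 0x0,
nat_lit 0x0,
nat_lit 0x0,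
nat_lit 0x0,
nat_lit 0x0,
nat_lit 0x0,
nat_lit 0x0,
nat_lit 0x0,
nat_lit 0x0,
nat_lit 0x0,
nat_lit 0x0,
nat_lit 0x0,
nat_lit 0x0,
nat_lit 0x0,
nat_lit 0x0,
nat_lit 0x0,
nat_lit 0x0,
nat_lit 0x0,
nat_lit 0x0,
nat_lit 0x0,
nat_lit 0x0,
nat_lit 0x0,
nat_lit 0x0,
nat_lit 0x0,
nat_lit 0x0,
nat_lit 0x0,
nat_lit 0x0,
nat_lit 0x0,
nat_lit 0x0,
nat_lit 0x0,
nat_lit 0x0,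
nat_lit 0x0,
nat_lit 0x0,
nat_lit 0x0,
nat_lit 0x0,
nat_lit 0x0,
nat_lit 0x0,
nat_lit 0x0,
nat_lit 0x0,
nat_lit 0x0,
nat_lit 0x0,
nat_lit 0x0,
nat_lit 0x0,
nat_lit 0x0,
nat_lit 0x0,
nat_lit 0x0,
nat_lit 0x0,
nat_lit 0x0,
nat_lit 0x0,
nat_lit 0x0,
nat_lit 0x0,
nat_lit 0x0,
nat_lit 0x0,
nat_lit 0x0,
nat_lit 0x0,
nat_lit 0x0,
nat_lit 0x0,
nat_lit 0x0,
nat_lit 0x0,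
nat_lit 0x0,
nat_lit 0x0,
nat_lit 0x0,
nat_lit 0x0,
nat_lit 0x0,
nat_lit 0x0,
nat_lit 0x0,
nat_lit 0x0,
nat_lit 0x0,
nat_lit 0x0,
nat_lit 0x0,
nat_lit 0x0,
nat_lit 0x0,
nat_lit 0x0,
nat_lit 0x0,
nat_lit 0x0,
nat_lit 0x0,
nat_lit 0x0,
nat_lit 0x0,
nat_lit 0x0,
nat_lit 0x0,
nat_lit 0x0,
nat_lit 0x0,
nat_lit 0x0,
nat_lit 0x0,
nat_lit 0x0,
nat_lit 0x0,
nat_lit 0x0,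
nat_lit 0x0,
nat_lit 0x0,
nat_lit 0x0,
nat_lit 0x0,
nat_lit 0x0,
nat_lit 0x0,
nat_lit 0x0,
nat_lit 0x0,
nat_lit 0x0,
nat_lit 0x0,
nat_lit 0x0,
nat_lit 0x0,
nat_lit 0x0,
nat_lit 0x0,
nat_lit 0x0,
nat_lit 0x0,
nat_lit 0x0,
nat_lit 0x0,
nat_lit 0x0,
nat_lit 0x0,
nat_lit 0x0,
nat_lit 0x0,
nat_lit 0x0,
nat_lit 0x0,
nat_lit 0x0,
nat_lit 0x0,
nat_lit 0x0,
nat_lit 0x0,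
nat_lit 0x0,
nat_lit 0x0,
nat_lit 0x0,
nat_lit 0x0,
nat_lit 0x0,
nat_lit 0x0,
nat_lit 0x0,
nat_lit 0x0,
nat_lit 0x0,
nat_lit 0x0,
nat_lit 0x0,
nat_lit 0x0,
nat_lit 0x0,
nat_lit 0x0,
nat_lit 0x0,
nat_lit 0x0,
nat_lit 0x0,
nat_lit 0x0,
nat_lit 0x0,
nat_lit 0x0,
nat_lit 0x0,
nat_lit 0x0,
nat_lit 0x0,
nat_lit 0x0,
nat_lit 0x0,
nat_lit 0x0,
nat_lit 0x0,
nat_lit 0x0,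
nat_lit 0x0,
nat_lit 0x0,
nat_lit 0x0,
nat_lit 0x0,
nat_lit 0x0,
nat_lit 0x0,
nat_lit 0x0,
nat_lit 0x0,
nat_lit 0x0,
nat_lit 0x0,
nat_lit 0x0,
nat_lit 0x0,
nat_lit 0x0,
nat_lit 0x0,
nat_lit 0x0,
nat_lit 0x0,
nat_lit 0x0,
nat_lit 0x0,
nat_lit 0x0,
nat_lit 0x0,
nat_lit 0x0,
nat_lit 0x0,
nat_lit 0x0,
nat_lit 0x0,
nat_lit 0x0,
nat_lit 0x0,
nat_lit 0x0,
nat_lit 0x0,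
nat_lit 0x0,
nat_lit 0x0,
nat_lit 0x0,
nat_lit 0x0,
nat_lit 0x0,
nat_lit 0x0,
nat_lit 0x0,
nat_lit 0x0,
nat_lit 0x0,
nat_lit 0x0,
nat_lit 0x0,
nat_lit 0x0,
nat_lit 0x0,
nat_lit 0x0,
nat_lit 0x0,
nat_lit 0x0,
nat_lit 0x0,
nat_lit 0x0,
nat_lit 0x0,
nat_lit 0x0,
nat_lit 0x0,
nat_lit 0x0,
nat_lit 0x0,
nat_lit 0x0,
nat_lit 0x0,
nat_lit 0x0,
nat_lit 0x0,
nat_lit 0x0,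
nat_lit 0x0,
nat_lit 0x0,
nat_lit 0x0,
nat_lit 0x0,
nat_lit 0x0,
nat_lit 0x0,
nat_lit 0x0,
nat_lit 0x0,
nat_lit 0x0,
nat_lit 0x0,
nat_lit 0x0,
nat_lit 0x0,
nat_lit 0x0,
nat_lit 0x0,
nat_lit 0x0,
nat_lit 0x0,
nat_lit 0x0,
nat_lit 0x0,
nat_lit 0x0,
nat_lit 0x0,
nat_lit 0x0,
nat_lit 0x0,
nat_lit 0x0,
nat_lit 0x0,
nat_lit 0x0,
nat_lit 0x0,
nat_lit 0x0,
nat_lit 0x0,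
nat_lit 0x0,
nat_lit 0x0,
nat_lit 0x0,
nat_lit 0x0,
nat_lit 0x0,
nat_lit 0x0,
nat_lit 0x0,
nat_lit 0x0,
nat_lit 0x0,
nat_lit 0x0,
nat_lit 0x0,
nat_lit 0x0,
nat_lit 0x0,
nat_lit 0x0,
nat_lit 0x0,
nat_lit 0x0,
nat_lit 0x0,
nat_lit 0x0,
nat_lit 0x0,
nat_lit 0x0,
nat_lit 0x0,
nat_lit 0x0,
nat_lit 0x0,
nat_lit 0x0,
nat_lit 0x0,
nat_lit 0x0,
nat_lit 0x0,
nat_lit 0x0,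
nat_lit 0x0,
nat_lit 0x0,
nat_lit 0x0,
nat_lit 0x0,
nat_lit 0x0,
nat_lit 0x0,
nat_lit 0x0,
nat_lit 0x0,
nat_lit 0x0,
nat_lit 0x0,
nat_lit 0x0,
nat_lit 0x0,
nat_lit 0x0,
nat_lit 0x0,
nat_lit 0x0,
nat_lit 0x0,
nat_lit 0x0,
nat_lit 0x0,
nat_lit 0x0,
nat_lit 0x0,
nat_lit 0x0,
nat_lit 0x0,
nat_lit 0x0,
nat_lit 0x0,
nat_lit 0x0,
nat_lit 0x0,
nat_lit 0x0,
nat_lit 0x0,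
nat_lit 0x0,
nat_lit 0x0,
nat_lit 0x0,
nat_lit 0x0,
nat_lit 0x0,
nat_lit 0x0,
nat_lit 0x0,
nat_lit 0x0,
nat_lit 0x0,
nat_lit 0x0,
nat_lit 0x0,
nat_lit 0x0,
nat_lit 0x0,
nat_lit 0x0,
nat_lit 0x0,
nat_lit 0x0,
nat_lit 0x0,
nat_lit 0x0,
nat_lit 0x0,
nat_lit 0x0,
nat_lit 0x0,
nat_lit 0x0,
nat_lit 0x0,
nat_lit 0x0,
nat_lit 0x0,
nat_lit 0x0,
nat_lit 0x0,
nat_lit 0x0,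
nat_lit 0x0,
nat_lit 0x0,
nat_lit 0x0,
nat_lit 0x0,
nat_lit 0x0,
nat_lit 0x0,
nat_lit 0x0,
nat_lit 0x0,
nat_lit 0x0,
nat_lit 0x0,
nat_lit 0x0,
nat_lit 0x0,
nat_lit 0x0,
nat_lit 0x0,
nat_lit 0x0,
nat_lit 0x0,
nat_lit 0x0,
nat_lit 0x0,
nat_lit 0x0,
nat_lit 0x0,
nat_lit 0x0,
nat_lit 0x0,
nat_lit 0x0,
nat_lit 0x0,
nat_lit 0x0,
nat_lit 0x0,
nat_lit 0x0]

theorem ok7500 : checkFacts facts ip words 256 subs 18473 items7500 7500 = true := by decide +kernel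

theorem len7500 : Nat.beq items7500.length 500 = true := by decide +kernel

theorem part0 : ∀ j, 0 ≤ j → j < 8000 → ∃ item, checkFact facts ip words 256 subs 18473 j item = true := by
  intro j h0 hj
  rcases Nat.lt_or_ge j 500 with h | h
  · exact checkFacts_spec _ _ _ _ _ _ items0 0 ok0 j (by omega) (by have := Nat.eq_of_beq_eq_true len0; omega)
  rcases Nat.lt_or_ge j 1000 with h | h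
  · exact checkFacts_spec _ _ _ _ _ _ items500 500 ok500 j (by omega) (by have := Nat.eq_of_beq_eq_true len500; omega)
  rcases Nat.lt_or_ge j 1500 with h | h
  · exact checkFacts_spec _ _ _ _ _ _ items1000 1000 ok1000 j (by omega) (by have := Nat.eq_of_beq_eq_true len1000; omega)
  rcases Nat.lt_or_ge j 2000 with h | h
  · exact checkFacts_spec _ _ _ _ _ _ items1500 1500 ok1500 j (by omega) (by have := Nat.eq_of_beq_eq_true len1500; omega)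
  rcases Nat.lt_or_ge j 2500 with h | h
  · exact checkFacts_spec _ _ _ _ _ _ items2000 2000 ok2000 j (by omega) (by have := Nat.eq_of_beq_eq_true len2000; omega)
  rcases Nat.lt_or_ge j 3000 with h | h
  · exact checkFacts_spec _ _ _ _ _ _ items2500 2500 ok2500 j (by omega) (by have := Nat.eq_of_beq_eq_true len2500; omega)
  rcases Nat.lt_or_ge j 3500 with h | h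
  · exact checkFacts_spec _ _ _ _ _ _ items3000 3000 ok3000 j (by omega) (by have := Nat.eq_of_beq_eq_true len3000; omega)
  rcases Nat.lt_or_ge j 4000 with h | h
  · exact checkFacts_spec _ _ _ _ _ _ items3500 3500 ok3500 j (by omega) (by have := Nat.eq_of_beq_eq_true len3500; omega)
  rcases Nat.lt_or_ge j 4500 with h | h
  · exact checkFacts_spec _ _ _ _ _ _ items4000 4000 ok4000 j (by omega) (by have := Nat.eq_of_beq_eq_true len4000; omega)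
  rcases Nat.lt_or_ge j 5000 with h | h
  · exact checkFacts_spec _ _ _ _ _ _ items4500 4500 ok4500 j (by omega) (by have := Nat.eq_of_beq_eq_true len4500; omega)
  rcases Nat.lt_or_ge j 5500 with h | h
  · exact checkFacts_spec _ _ _ _ _ _ items5000 5000 ok5000 j (by omega) (by have := Nat.eq_of_beq_eq_true len5000; omega)
  rcases Nat.lt_or_ge j 6000 with h | h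
  · exact checkFacts_spec _ _ _ _ _ _ items5500 5500 ok5500 j (by omega) (by have := Nat.eq_of_beq_eq_true len5500; omega)
  rcases Nat.lt_or_ge j 6500 with h | h
  · exact checkFacts_spec _ _ _ _ _ _ items6000 6000 ok6000 j (by omega) (by have := Nat.eq_of_beq_eq_true len6000; omega)
  rcases Nat.lt_or_ge j 7000 with h | h
  · exact checkFacts_spec _ _ _ _ _ _ items6500 6500 ok6500 j (by omega) (by have := Nat.eq_of_beq_eq_true len6500; omega)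
  rcases Nat.lt_or_ge j 7500 with h | h
  · exact checkFacts_spec _ _ _ _ _ _ items7000 7000 ok7000 j (by omega) (by have := Nat.eq_of_beq_eq_true len7000; omega)
  rcases Nat.lt_or_ge j 8000 with h | h
  · exact checkFacts_spec _ _ _ _ _ _ items7500 7500 ok7500 j (by omega) (by have := Nat.eq_of_beq_eq_true len7500; omega)
  omega

end CfsgLib.HNDouble.Cert
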