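import Cfsg.Agent.Lib.CosetEnum.LetterCert
import Cfsg.Agent.Lib.HNDouble.Data

/-!
A relation derived by a partial enumeration over the trivial subgroup: a closed path of facts at the
base representative shows that the word along it is trivial.
-/

set_option autoImplicit false

namespace CfsgLib.HNDouble

open CfsgLib.CosetEnum

/-- The last step of a derivation: the path returns to the base and spells the word. -/
noncomputable def closeAt (code : ℕ) (cur acc rest : ℕ) : Bool :=
  Nat.beq cur 0 && Nat.beq rest 0 && Nat.beq acc code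

/-- The check of the derivation of `x⁴`. -/
noncomputable def fourCheck (F W : Tr) (wb N nf : ℕ) (items : List ℕ) (path : ℕ) : Bool :=
  W.fits wb 16 && listEq (W.entries wb 16) (allCodes ip 5 rels) && Nat.beq items.length nf &&
    checkFacts F ip W wb (.leaf 0) N items 0 && walk F ip nf (closeAt (codeOf [0, 0, 0, 0])) 1024 0 1 path

variable {G : Type*} [Group G] {g : ℕ → G}

/-- A checked derivation gives the relation in every group satisfying the relators. -/
theorem four_of_check (h15 : g 15 = 1) (hinv : ∀ x < 16, g (linv ip x) = (g x)⁻¹)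
    (hls : ∀ l ∈ rels, (∀ x ∈ l, x < 16) ∧ (l.map g).prod = 1) {F W : Tr} {wb N nf : ℕ} {items : List ℕ}
    {path : ℕ} (h : fourCheck F W wb N nf items path = true) : g 0 * g 0 * g 0 * g 0 = 1 := by
  simp only [fourCheck, Bool.and_eq_true] at h
  obtain ⟨⟨⟨⟨hWf, hWe⟩, hlen⟩, hfacts⟩, hpath⟩ := h
  have hW := words_ok h15 hinv 5 (by norm_num) rels hls W wb 16 hWf hWe
  have hS : ∀ k, evalCode g ((Tr.leaf 0).get wb k) ∈ (⊥ : Subgroup G) := fun k => by
    rw [show (Tr.leaf 0).get wb k = 0 by simp [Tr.get], evalCode_zero]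
    exact Subgroup.one_mem _
  have hF := holds_of_checked (H := (⊥ : Subgroup G)) h15 hinv F W wb (.leaf 0) N nf hW hS
    (fun j hj => checkFacts_spec _ _ _ _ _ _ items 0 hfacts j (Nat.zero_le _)
      (by rw [Nat.zero_add, Nat.eq_of_beq_eq_true hlen]; exact hj))
  obtain ⟨c, a, p, h1, -, h2⟩ := walk_sound (g := g) (H := (⊥ : Subgroup G)) h15 hinv F nf _ hF _ _ _ _ le_rfl hpath
  simp only [closeAt, Bool.and_eq_true] at h1
  have e := (h2 1).1 (by rw [rep, evalCode_one]; simp)
  rw [Nat.eq_of_beq_eq_true h1.2, Nat.eq_of_beq_eq_true h1.1.1,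
    evalCode_codeOf h15 _ (by intro x hx; simp at hx; omega), rep] at e
  simpa [mul_assoc] using e

end CfsgLib.HNDouble
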