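import Cfsg.Agent.Lib.HNDouble.Pre
import Cfsg.Agent.Lib.HNDouble.Perms
import Cfsg.Agent.Lib.SchurPerm.HS
import Cfsg.Agent.Lib.PermAut.Check

/-!
The action of the presented group on a hundred points: the image has the Higman-Sims group as its
commutator subgroup, and the kernel lies in the subgroup of the sign words.
-/

set_option autoImplicit false
set_option maxRecDepth 400000

namespace CfsgLib.HNDouble

open CfsgLib.Comp
open scoped commutatorElement

/-- The code of a letter. -/
noncomputable def code (x : ℕ) : ℕ := codes.getD x (PermCode.one 100)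

/-- The code of a word. -/
noncomputable def wcode (l : List ℕ) : ℕ :=
  l.foldr (fun x c => PermCode.mul 100 (code x) c) (PermCode.one 100)

/-- The first of two elements of HS with one common fixed point. -/
def fix1 : ℕ := 1802869807450006846893314732803937147763844184232845802510148140513164606243749227059890986990095967180897503968351568837264037895258737585021721471150350961338219480292625581719922901389600865189176417343481270904219239815159998140489335040

/-- The second of two elements of HS with one common fixed point. -/
def fix2 : ℕ := 1100183612453810518488704732388104101314078840650464570576697039903144376903931275572131477910603448396270710336071713051100347715346574096099199838216315453865882096824786463903859215902622221699924200899882193991408182713557258064518465280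

/-- Membership test in HS. -/
noncomputable def inGrp (c : ℕ) : Bool :=
  PermCode.okb 100 c && PermCode.sift 100 PermAut.HS.genChain c

/-- The transversal codes of the first level of the chain of HS. -/
def orbitCodes : List ℕ := PermAut.HS.genChain.head?.elim [] fun l => l.trans.map fun e => e.1

theorem code_checks : (codes.all (PermCode.okb 100) && Nat.beq codes.length 5 &&
    Nat.beq (wcode [0, 1]) (PermCode.one 100) && Nat.beq (wcode [2, 3]) (PermCode.one 100) &&
    rels.all (fun l => Nat.beq (wcode l) (PermCode.one 100)) &&
    Nat.beq (wcode [0, 0]) (PermCode.one 100) &&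
    PermAut.HS.genGens.all (fun s => PermCode.okb 100 s && PermCode.sift 100 fullChain s)) = true := by
  decide +kernel

theorem gens_eq : fullGens = [code 0, code 2, code 4] ∧ subGens = [code 2, wcode [1, 2, 0]] := by
  decide +kernel

theorem fix_checks : (inGrp fix1 && inGrp fix2 &&
    PermCode.allLt 100 (fun i => Nat.beq i 0 ||
      !(Nat.beq (PermCode.get fix1 i) i && Nat.beq (PermCode.get fix2 i) i)) &&
    Nat.beq (PermCode.get fix1 0) 0 && Nat.beq (PermCode.get fix2 0) 0 &&
    PermCode.allLt 100 (fun i => Nat.beq i 0 ||
      orbitCodes.any fun u => Nat.beq (PermCode.get u 0) i && inGrp u)) = true := by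
  decide +kernel

attribute [local irreducible] codes code PermCode.mul PermCode.one fullGens subGens fix1 fix2

/-- The image of a letter. -/
noncomputable def img (x : ℕ) : Equiv.Perm (Fin 100) := PermCode.val 100 (code x)

theorem code_ok (x : ℕ) : PermCode.Ok 100 (code x) := by
  have h := code_checks
  simp only [Bool.and_eq_true, List.all_eq_true] at h
  rcases Nat.lt_or_ge x codes.length with hx | hx
  · exact PermCode.ok_of_okb (h.1.1.1.1.1.1 _ (by
      rw [code, List.getD_eq_getElem _ _ hx]; exact List.getElem_mem hx))
  · rw [code, List.getD_eq_default _ _ hx]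
    exact PermCode.ok_one (by norm_num)

theorem wcode_val : ∀ l : List ℕ, PermCode.Ok 100 (wcode l) ∧ PermCode.val 100 (wcode l) = (l.map img).prod
  | [] => ⟨PermCode.ok_one (by norm_num), by simp [wcode, PermCode.val_one]⟩
  | x :: l => by
    obtain ⟨i1, i2⟩ := wcode_val l
    refine ⟨PermCode.ok_mul (by norm_num) (code_ok x) i1, ?_⟩
    show PermCode.val 100 (PermCode.mul 100 (code x) (wcode l)) = _
    rw [PermCode.val_mul (by norm_num) (code_ok x) i1, i2]
    simp [img]

theorem img_word_one {l : List ℕ} (h : Nat.beq (wcode l) (PermCode.one 100) = true) :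
    (l.map img).prod = 1 := by
  rw [← (wcode_val l).2, Nat.eq_of_beq_eq_true h, PermCode.val_one (by norm_num)]

theorem lt_img (x : ℕ) : lt (img 0) (img 2) (img 4) x = img x := by
  have h := code_checks
  simp only [Bool.and_eq_true] at h
  match x with
  | 0 => rfl
  | 1 =>
    have e := img_word_one h.1.1.1.1.2
    simp only [List.map_cons, List.map_nil, List.prod_cons, List.prod_nil, mul_one] at e
    exact inv_eq_of_mul_eq_one_right e
  | 2 => rfl
  | 3 =>
    have e := img_word_one h.1.1.1.2
    simp only [List.map_cons, List.map_nil, List.prod_cons, List.prod_nil, mul_one] at e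
    exact inv_eq_of_mul_eq_one_right e
  | 4 => rfl
  | n + 5 =>
    show (1 : Equiv.Perm (Fin 100)) = img (n + 5)
    rw [img, code, List.getD_eq_default _ _ (by rw [Nat.eq_of_beq_eq_true h.1.1.1.1.1.2]; omega),
      PermCode.val_one (by norm_num)]

theorem wv_img (l : List ℕ) : wv (img 0) (img 2) (img 4) l = (l.map img).prod := by
  rw [wv, show lt (img 0) (img 2) (img 4) = img from funext lt_img]

theorem rels_img : RelsHold (img 0) (img 2) (img 4) := fun l hl => by
  have h := code_checks
  simp only [Bool.and_eq_true, List.all_eq_true] at h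
  rw [wv_img]
  exact img_word_one (h.1.1.2 l hl)

/-- The action on a hundred points. -/
noncomputable def psi : P0 →* Equiv.Perm (Fin 100) := lift rels_img

theorem psi_g (l : List ℕ) : psi ((l.map g).prod) = PermCode.val 100 (wcode l) := by
  rw [(wcode_val l).2, ← wv_img]
  exact (map_wv psi px py pz l).trans (by rw [psi, lift_px, lift_py, lift_pz])

theorem psi_px_sq : psi (px * px) = 1 := by
  have h := code_checks
  simp only [Bool.and_eq_true] at h
  rw [show px * px = (([0, 0] : List ℕ).map g).prod by simp [g, lt], psi_g,
    Nat.eq_of_beq_eq_true h.1.2, PermCode.val_one (by norm_num)]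

theorem psi_range : psi.range = PermCode.span 100 fullGens := by
  rw [psi, lift_range, PermCode.span]
  congr 1
  ext z
  simp only [gens_eq.1, Set.mem_insert_iff, Set.mem_singleton_iff, List.mem_cons, List.not_mem_nil,
    or_false, Set.mem_setOf_eq, img]
  constructor
  · rintro (rfl | rfl | rfl)
    exacts [⟨_, Or.inl rfl, rfl⟩, ⟨_, Or.inr (Or.inl rfl), rfl⟩, ⟨_, Or.inr (Or.inr rfl), rfl⟩]
  · rintro ⟨s, rfl | rfl | rfl, rfl⟩
    exacts [Or.inl rfl, Or.inr (Or.inl rfl), Or.inr (Or.inr rfl)]

theorem card_psi_range : Nat.card psi.range = 88704000 := by rw [psi_range, full_card]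

theorem map_subA_le : subA.map psi ≤ PermCode.span 100 subGens := by
  rw [Subgroup.map_le_iff_le_comap, subA, Subgroup.closure_le]
  rintro _ ⟨c, hc, rfl⟩
  rw [SetLike.mem_coe, Subgroup.mem_comap, psi_g]
  simp only [subWords, List.mem_cons, List.not_mem_nil, or_false] at hc
  have h := code_checks
  simp only [Bool.and_eq_true] at h
  rcases hc with rfl | rfl | rfl
  · have e : PermCode.val 100 (wcode [2]) = PermCode.val 100 (code 2) := by
      rw [(wcode_val [2]).2]; simp [img]
    rw [e]
    exact PermCode.one_le 100 _ (by rw [gens_eq.2]; exact List.mem_cons_self ..)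
  · exact PermCode.one_le 100 _ (by rw [gens_eq.2]; exact List.mem_cons_of_mem _ (List.mem_cons_self ..))
  · rw [Nat.eq_of_beq_eq_true h.1.2, PermCode.val_one (by norm_num)]
    exact Subgroup.one_mem _

theorem ker_le_subA : psi.ker ≤ subA := by
  obtain ⟨hfi, hA⟩ := subA_index
  have hk : psi.rangeRestrict.ker = psi.ker := psi.ker_rangeRestrict
  have hsurj := psi.rangeRestrict_surjective
  have hB : (subA ⊔ psi.ker).index = (subA.map psi.rangeRestrict).index := by
    rw [← Subgroup.index_map_eq (subA ⊔ psi.ker) hsurj (hk ▸ le_sup_right), Subgroup.map_sup,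
      (Subgroup.map_eq_bot_iff _).2 hk.ge, sup_bot_eq]
  have hm := (subA.map psi.rangeRestrict).card_mul_index
  have hc : Nat.card (subA.map psi.rangeRestrict) ≤ 126000 := by
    rw [← Subgroup.card_map_of_injective psi.range.subtype_injective, Subgroup.map_map,
      MonoidHom.subtype_comp_rangeRestrict, ← sub_card]
    exact Nat.card_le_card_of_injective _ (Subgroup.inclusion_injective map_subA_le)
  rw [card_psi_range] at hm
  have hge : 704 ≤ (subA ⊔ psi.ker).index := by
    rw [hB]
    by_contra hlt
    have := Nat.mul_le_mul hc (Nat.le_of_lt_succ (show (subA.map psi.rangeRestrict).index < 703 + 1 by omega))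
    omega
  have hr := Subgroup.relIndex_mul_index (H := subA) (K := subA ⊔ psi.ker) le_sup_left
  have hne : subA.index ≠ 0 := hfi.index_ne_zero
  have h1 : subA.relIndex (subA ⊔ psi.ker) = 1 := by
    rcases Nat.lt_or_ge (subA.relIndex (subA ⊔ psi.ker)) 2 with h | h
    · rcases Nat.eq_zero_or_pos (subA.relIndex (subA ⊔ psi.ker)) with h0 | h0
      · rw [h0, zero_mul] at hr; omega
      · omega
    · have := Nat.mul_le_mul h hge
      omega
  exact le_trans le_sup_right (Subgroup.relIndex_eq_one.1 h1)

/-! ### The Higman-Sims group inside the image -/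

/-- HS on a hundred points. -/
local notation "S" => PermAut.HS.grp

theorem grp_le_range : S ≤ psi.range := by
  rw [psi_range]
  have h := code_checks
  simp only [Bool.and_eq_true, List.all_eq_true] at h
  exact PermAut.span_le fun s hs =>
    PermCode.mem_span full_check (h.2 s hs).1 (h.2 s hs).2

theorem simple_grp : IsSimpleGroup S :=
  ((MonoidHom.ofInjective PermAut.HS.act_injective).trans
    (MulEquiv.subgroupCongr PermAut.HS.act_range)).symm.isSimpleGroup_congr.2 PermAut.HS.simple_K

theorem psi_range_ne_grp : ¬ psi.range ≤ S := fun h => by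
  have := Nat.card_le_card_of_injective _ (Subgroup.inclusion_injective h)
  rw [card_psi_range, PermAut.HS.grp_card] at this
  omega

theorem map_commutator_psi : (commutator P0).map psi = S := by
  have hmap : (commutator P0).map psi = ⁅psi.range, psi.range⁆ := by
    rw [commutator_def, Subgroup.map_commutator, ← MonoidHom.range_eq_map]
  rw [hmap]
  refine le_antisymm ?_ ?_
  · have h2 : (Subgroup.subgroupOf S psi.range).index = 2 := by
      have hm := (Subgroup.subgroupOf S psi.range).card_mul_index
      rw [Nat.card_congr (Subgroup.subgroupOfEquivOfLe grp_le_range).toEquiv, card_psi_range,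
        PermAut.HS.grp_card] at hm
      omega
    rw [Subgroup.commutator_le]
    intro p hp q hq
    have key : ⁅(⟨p, hp⟩ : psi.range), ⟨q, hq⟩⁆ ∈ Subgroup.subgroupOf S psi.range := by
      simp only [commutatorElement_def, Subgroup.mul_mem_iff_of_index_two h2, inv_mem_iff]
      tauto
    exact key
  · have hp : commutator S = ⊤ := SchurPerm.HSCase.perfect
    have e : ⁅S, S⁆ = S := by
      rw [← Subgroup.map_subtype_commutator, hp, ← MonoidHom.range_eq_map, Subgroup.range_subtype]
    exact e.symm.le.trans (Subgroup.commutator_mono grp_le_range grp_le_range)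

theorem eq_one_of_centralises {n : Equiv.Perm (Fin 100)} (hn : ∀ p ∈ S, p * n = n * p) : n = 1 := by
  have h := fix_checks
  simp only [Bool.and_eq_true, inGrp] at h
  obtain ⟨⟨⟨⟨⟨h1, h2⟩, hcommon⟩, hf1⟩, hf2⟩, horb⟩ := h
  have ok1 := PermCode.ok_of_okb h1.1
  have ok2 := PermCode.ok_of_okb h2.1
  have move : ∀ {c : ℕ} (hc : PermCode.okb 100 c = true) (hs : PermCode.sift 100 PermAut.HS.genChain c = true)
      (i : Fin 100), PermCode.val 100 c (n i) = n (PermCode.val 100 c i) := fun hc hs i =>
    DFunLike.congr_fun (hn _ (PermCode.mem_span PermAut.HS.gen_check hc hs)) i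
  have h0 : n 0 = 0 := by
    have e1 : PermCode.val 100 fix1 0 = 0 :=
      Fin.ext (by rw [PermCode.val_apply ok1]; exact Nat.eq_of_beq_eq_true hf1)
    have e2 : PermCode.val 100 fix2 0 = 0 :=
      Fin.ext (by rw [PermCode.val_apply ok2]; exact Nat.eq_of_beq_eq_true hf2)
    have m1 := congrArg Fin.val (move h1.1 h1.2 0)
    have m2 := congrArg Fin.val (move h2.1 h2.2 0)
    rw [e1, PermCode.val_apply ok1] at m1
    rw [e2, PermCode.val_apply ok2] at m2
    have hc := PermCode.allLt_spec hcommon _ (n 0).2
    simp only [m1, m2, Bool.or_eq_true, Nat.beq_refl, Bool.and_self, Bool.not_true, Bool.false_eq_true,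
      or_false] at hc
    exact Fin.ext (Nat.eq_of_beq_eq_true hc)
  apply Equiv.ext
  intro i
  rw [Equiv.Perm.one_apply]
  have ho := PermCode.allLt_spec horb i i.2
  simp only [Bool.or_eq_true, List.any_eq_true, Bool.and_eq_true] at ho
  rcases ho with ho | ⟨u, -, hu0, hu1, hu2⟩
  · have : i = 0 := Fin.ext (Nat.eq_of_beq_eq_true ho)
    rw [this, h0]
  · have e : PermCode.val 100 u 0 = i :=
      Fin.ext (by rw [PermCode.val_apply (PermCode.ok_of_okb hu1)]; exact Nat.eq_of_beq_eq_true hu0)
    have := move hu1 hu2 0
    rw [h0, e] at this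
    exact this.symm

end CfsgLib.HNDouble
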