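import Cfsg.Agent.Lib.HNDouble.Data
import Mathlib.GroupTheory.QuotientGroup.Basic
import Mathlib.Tactic.Group

/-!
An element of order five and an involution with product of order three: no element can fix one of two
conjugates of the first and invert the other.
-/

set_option autoImplicit false

namespace CfsgLib.HNDouble

variable {G : Type*} [Group G]

theorem sign_dichotomy {t v c r : G} (h5 : t ^ 5 = 1) (hc : c * c = 1) (h3 : (c * t) ^ 3 = 1)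
    (hv : v = c * t * c) (hrt : r * t * r⁻¹ = t⁻¹) (hrv : r * v * r⁻¹ = v) : t = 1 := by
  have hc' : c = t * v * t := by
    have e : v * t * c * t = 1 := by
      rw [hv, ← h3]
      simp [pow_succ, mul_assoc]
    have e1 : c = t⁻¹ * v⁻¹ * t⁻¹ := by
      calc c = t⁻¹ * v⁻¹ * (v * t * c * t) * t⁻¹ := by group
        _ = t⁻¹ * v⁻¹ * t⁻¹ := by rw [e, mul_one]
    have e2 : c⁻¹ = c := inv_eq_of_mul_eq_one_right hc
    rw [← e2, e1]
    group
  have hsq : v * (t * t) * v = t⁻¹ * t⁻¹ := by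
    have e : (t * v * t) * (t * v * t) = 1 := by rw [← hc']; exact hc
    calc v * (t * t) * v = t⁻¹ * ((t * v * t) * (t * v * t)) * t⁻¹ := by group
      _ = t⁻¹ * t⁻¹ := by rw [e, mul_one]
  have hsq' : v * (t⁻¹ * t⁻¹) * v = t * t := by
    have e := congrArg (fun z => r * z * r⁻¹) hsq
    calc v * (t⁻¹ * t⁻¹) * v = (r * v * r⁻¹) * ((r * t * r⁻¹) * (r * t * r⁻¹)) * (r * v * r⁻¹) := by
          rw [hrv, hrt]
      _ = r * (v * (t * t) * v) * r⁻¹ := by group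
      _ = r * (t⁻¹ * t⁻¹) * r⁻¹ := e
      _ = (r * t * r⁻¹)⁻¹ * (r * t * r⁻¹)⁻¹ := by group
      _ = t * t := by rw [hrt, inv_inv]
  have h4 : t⁻¹ * t⁻¹ * t⁻¹ * t⁻¹ = t := by
    calc t⁻¹ * t⁻¹ * t⁻¹ * t⁻¹ = (t ^ 5)⁻¹ * t := by group
      _ = t := by rw [h5, inv_one, one_mul]
  have hinv : v⁻¹ * t * v = t⁻¹ := by
    have e : v = t⁻¹ * t⁻¹ * v⁻¹ * (t⁻¹ * t⁻¹) := by
      calc v = (v * (t * t) * v) * v⁻¹ * (t⁻¹ * t⁻¹) := by group
        _ = t⁻¹ * t⁻¹ * v⁻¹ * (t⁻¹ * t⁻¹) := by rw [hsq]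
    calc v⁻¹ * t * v = v⁻¹ * (t⁻¹ * t⁻¹ * t⁻¹ * t⁻¹) * v := by rw [h4]
      _ = (t * t) * ((t⁻¹ * t⁻¹ * v⁻¹ * (t⁻¹ * t⁻¹)) * (t⁻¹ * t⁻¹) * v) := by
          group
      _ = (t * t) * (v * (t⁻¹ * t⁻¹) * v) := by rw [← e]
      _ = (t⁻¹ * t⁻¹ * t⁻¹ * t⁻¹)⁻¹ := by rw [hsq']; simp [mul_assoc]
      _ = t⁻¹ := by rw [h4]
  have hv5 : v ^ 5 = 1 := by
    have e : c⁻¹ = c := inv_eq_of_mul_eq_one_right hc
    have e5 := congrArg (fun z => c * z * c⁻¹) h5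
    simp only [← conj_pow, mul_one, mul_inv_cancel] at e5
    rwa [e, ← hv] at e5
  have hflip : ∀ k : ℕ, (v ^ (2 * k + 1))⁻¹ * t * v ^ (2 * k + 1) = t⁻¹ := by
    intro k
    induction k with
    | zero => simpa using hinv
    | succ k ih =>
      have hinv' : v⁻¹ * t⁻¹ * v = t := by
        calc v⁻¹ * t⁻¹ * v = (v⁻¹ * t * v)⁻¹ := by group
          _ = t := by rw [hinv, inv_inv]
      calc (v ^ (2 * (k + 1) + 1))⁻¹ * t * v ^ (2 * (k + 1) + 1)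
          = v⁻¹ * (v⁻¹ * ((v ^ (2 * k + 1))⁻¹ * t * v ^ (2 * k + 1)) * v) * v := by
            rw [show 2 * (k + 1) + 1 = (2 * k + 1) + 1 + 1 from rfl, pow_succ, pow_succ]; group
        _ = t⁻¹ := by rw [ih, hinv', hinv]
  have h1 := hflip 2
  rw [show 2 * 2 + 1 = 5 from rfl, hv5] at h1
  have h2 : t * t = 1 := by
    rw [inv_one, one_mul, mul_one] at h1
    nth_rewrite 2 [h1]
    exact mul_inv_cancel t
  calc t = t ^ 5 * ((t * t) * (t * t))⁻¹ := by group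
    _ = 1 := by rw [h5, h2, one_mul, one_mul, inv_one]

end CfsgLib.HNDouble
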