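import Cfsg.Agent.Lib.HNDouble.Image
import Cfsg.Agent.Lib.HNDouble.Signs
import Cfsg.Agent.Lib.Schur.Multiplier
import Cfsg.Prelude.Def_SporadicB
import Cfsg.Prelude.Def_Spor_Conway

/-!
Four elements satisfying the relations of the presentation of the Harada-Norton group: the first three
generate a group whose commutator subgroup has index two and is a nonsplit double cover of HS.
-/

set_option autoImplicit false

namespace CfsgLib.HNDouble

open scoped commutatorElement

/-- The elements centralising or inverting `t`. -/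
def signs {G : Type*} [Group G] (t : G) : Subgroup G where
  carrier := {m | m * t * m⁻¹ = t ∨ m * t * m⁻¹ = t⁻¹}
  one_mem' := Or.inl (by simp)
  mul_mem' := by
    intro x y hx hy
    have e : x * y * t * (x * y)⁻¹ = x * (y * t * y⁻¹) * x⁻¹ := by group
    show _ ∨ _
    rw [e]
    have i : x * t⁻¹ * x⁻¹ = (x * t * x⁻¹)⁻¹ := by group
    rcases hy with hy | hy <;> rcases hx with hx | hx <;> simp [hy, i, hx]
  inv_mem' := by
    intro x hx
    show _ ∨ _
    rw [inv_inv]
    rcases hx with hx | hx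
    · left
      calc x⁻¹ * t * x = x⁻¹ * (x * t * x⁻¹) * x := by rw [hx]
        _ = t := by group
    · right
      calc x⁻¹ * t * x = x⁻¹ * (x * t * x⁻¹)⁻¹ * x := by rw [hx, inv_inv]
        _ = t⁻¹ := by group

theorem mem_signs {G : Type*} [Group G] {t m : G} :
    m ∈ signs t ↔ m * t * m⁻¹ = t ∨ m * t * m⁻¹ = t⁻¹ := Iff.rfl

/-- The relations. -/
structure Hyp {G : Type} [Group G] (a b c t : G) : Prop where
  rels : RelsHold a b c
  t5 : t ^ 5 = 1
  conj_t : a⁻¹ * t * a * t ^ 2 = 1
  bt : Commute b t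
  ct : (c * t) ^ 3 = 1
  gen : Subgroup.closure ({a, b, c, t} : Set G) = ⊤
  a_sq : a * a ≠ 1
  t_ne : t ≠ 1

section theory

variable {G : Type} [Group G] {a b c t : G} (h : Hyp a b c t)

include h

theorem Hyp.a_inv_t : a⁻¹ * t * a = t ^ 3 := by
  calc a⁻¹ * t * a = a⁻¹ * t * a * t ^ 2 * t ^ 3 := by rw [mul_assoc (a⁻¹ * t * a), ← pow_add, h.t5, mul_one]
    _ = t ^ 3 := by rw [h.conj_t, one_mul]

theorem Hyp.a_t : a * t * a⁻¹ = t ^ 2 := by
  have e : a⁻¹ * t ^ 2 * a = t := by
    calc a⁻¹ * t ^ 2 * a = (a⁻¹ * t * a) ^ 2 := by simpa using (conj_pow (i := 2) (a := a⁻¹) (b := t)).symm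
      _ = t ^ 5 * t := by rw [h.a_inv_t, ← pow_mul, ← pow_succ]
      _ = t := by rw [h.t5, one_mul]
  calc a * t * a⁻¹ = a * (a⁻¹ * t ^ 2 * a) * a⁻¹ := by rw [e]
    _ = t ^ 2 := by group

theorem Hyp.a_four : a * a * a * a = 1 := by
  simpa [lift_px] using congrArg (lift h.rels) px_four

theorem Hyp.e_inv : (a * a)⁻¹ = a * a :=
  inv_eq_of_mul_eq_one_right (by rw [← mul_assoc]; exact h.a_four)

theorem Hyp.e_t : (a * a) * t * (a * a)⁻¹ = t⁻¹ := by
  calc (a * a) * t * (a * a)⁻¹ = a * (a * t * a⁻¹) * a⁻¹ := by group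
    _ = a * t ^ 2 * a⁻¹ := by rw [h.a_t]
    _ = (a * t * a⁻¹) ^ 2 := conj_pow.symm
    _ = t⁻¹ := by
      rw [h.a_t, ← pow_mul]
      exact eq_inv_of_mul_eq_one_left (by rw [← pow_succ]; exact h.t5)

theorem Hyp.c_inv : c⁻¹ = c := inv_eq_of_mul_eq_one_right (c_sq h.rels)

/-- The image of the kernel of the action on a hundred points. -/
noncomputable def Hyp.R : Subgroup G := psi.ker.map (lift h.rels)

theorem Hyp.R_le_signs : h.R ≤ signs t := by
  refine le_trans (Subgroup.map_mono ker_le_subA) ?_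
  rw [subA_eq, Subgroup.map_le_iff_le_comap, Subgroup.closure_le]
  have hb : b * t * b⁻¹ = t := by rw [h.bt.eq, mul_inv_cancel_right]
  rintro z (rfl | rfl | rfl) <;>
    simp only [SetLike.mem_coe, Subgroup.mem_comap, map_mul, map_inv, lift_px, lift_py, mem_signs]
  · exact Or.inl hb
  · left
    calc (a⁻¹ * (b * a)) * t * (a⁻¹ * (b * a))⁻¹ = a⁻¹ * (b * (a * t * a⁻¹) * b⁻¹) * a := by group
      _ = a⁻¹ * (a * t * a⁻¹) * a := by
          rw [h.a_t, ← conj_pow, hb]
      _ = t := by group
  · exact Or.inr h.e_t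

theorem Hyp.R_conj {m r : G} (hm : m ∈ (lift h.rels).range) (hr : r ∈ h.R) : m * r * m⁻¹ ∈ h.R := by
  obtain ⟨p, rfl⟩ := hm
  obtain ⟨k, hk, rfl⟩ := hr
  exact ⟨p * k * p⁻¹, psi.normal_ker.conj_mem k hk p, by simp⟩

theorem Hyp.mem_range : a ∈ (lift h.rels).range ∧ b ∈ (lift h.rels).range ∧ c ∈ (lift h.rels).range :=
  ⟨⟨px, lift_px _⟩, ⟨py, lift_py _⟩, ⟨pz, lift_pz _⟩⟩

theorem Hyp.normalClosure_t : Subgroup.normalClosure ({t} : Set G) = ⊤ := by
  set N := Subgroup.normalClosure ({t} : Set G)
  have ht : (QuotientGroup.mk' N) t = 1 := (QuotientGroup.eq_one_iff _).2 (Subgroup.subset_normalClosure rfl)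
  have hc : (QuotientGroup.mk' N) c = 1 := by
    have e3 := congrArg (QuotientGroup.mk' N) h.ct
    have e2 := congrArg (QuotientGroup.mk' N) (c_sq h.rels)
    rw [map_pow, map_mul, ht, mul_one, map_one] at e3
    rw [map_mul, map_one] at e2
    rwa [pow_succ, pow_two, e2, one_mul] at e3
  have hr := h.rels.map (QuotientGroup.mk' N)
  rw [hc] at hr
  obtain ⟨ha, hb⟩ := trivial_image hr
  rw [eq_top_iff, ← h.gen, Subgroup.closure_le]
  rintro z (rfl | rfl | rfl | rfl)
  · exact (QuotientGroup.eq_one_iff _).1 ha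
  · exact (QuotientGroup.eq_one_iff _).1 hb
  · exact (QuotientGroup.eq_one_iff _).1 hc
  · exact Subgroup.subset_normalClosure rfl

/-- Conjugation preserves the elements of `R` commuting with `t`. -/
def Hyp.Keeps (g : G) : Prop := ∀ r ∈ h.R, Commute r t → g * r * g⁻¹ ∈ h.R ∧ Commute (g * r * g⁻¹) t

theorem Hyp.keeps_pow {g : G} (hg : g ∈ (lift h.rels).range) {k : ℕ} (he : g⁻¹ * t * g = t ^ k) :
    h.Keeps g := fun r hr hrt => by
  refine ⟨h.R_conj hg hr, ?_⟩
  have := (Commute.conj_iff g).2 (he ▸ hrt.pow_right k : Commute r (g⁻¹ * t * g))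
  simpa [mul_assoc] using this

theorem Hyp.keeps_c : h.Keeps c := fun r hr hrt => by
  have hq := h.R_conj h.mem_range.2.2 hr
  refine ⟨hq, ?_⟩
  rcases h.R_le_signs hq with e | e
  · show c * r * c⁻¹ * t = t * (c * r * c⁻¹)
    conv_rhs => rw [← e]
    simp [mul_assoc]
  · exfalso
    have hcc : ∀ x : G, c * (c * x) = x := fun x => by rw [← mul_assoc, c_sq h.rels, one_mul]
    have hv5 : (c * t * c) ^ 5 = 1 := by
      calc (c * t * c) ^ 5 = c * t ^ 5 * c := by simp [pow_succ, mul_assoc, hcc]
        _ = 1 := by rw [h.t5, mul_one, c_sq h.rels]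
    have h3 : (c * (c * t * c)) ^ 3 = 1 := by
      calc (c * (c * t * c)) ^ 3 = c * (c * t) ^ 3 * c := by simp [pow_succ, mul_assoc, hcc]
        _ = 1 := by rw [h.ct, mul_one, c_sq h.rels]
    have hv : t = c * (c * t * c) * c := by simp [mul_assoc, hcc, c_sq h.rels]
    have hrv : r * (c * t * c) * r⁻¹ = (c * t * c)⁻¹ := by
      calc r * (c * t * c) * r⁻¹ = c * (c * r * c⁻¹ * t * (c * r * c⁻¹)⁻¹) * c := by
            simp [mul_assoc, h.c_inv, hcc, c_sq h.rels]
        _ = (c * t * c)⁻¹ := by rw [e]; simp [mul_assoc, h.c_inv]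
    have hrt' : r * t * r⁻¹ = t := by rw [hrt.eq, mul_inv_cancel_right]
    have := sign_dichotomy hv5 (c_sq h.rels) h3 hv hrv hrt'
    apply h.t_ne
    rw [hv, this, mul_one, c_sq h.rels]

theorem Hyp.keeps_all (g : G) : h.Keeps g := by
  let K : Subgroup G :=
    { carrier := {g | h.Keeps g ∧ h.Keeps g⁻¹}
      one_mem' := by
        refine ⟨fun r hr hrt => ?_, fun r hr hrt => ?_⟩ <;> simpa using And.intro hr hrt
      inv_mem' := fun {x} hx => by simpa [and_comm] using hx
      mul_mem' := fun {x y} hx hy => by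
        refine ⟨fun r hr hrt => ?_, fun r hr hrt => ?_⟩
        · obtain ⟨u, v⟩ := hy.1 r hr hrt
          simpa [mul_assoc] using hx.1 _ u v
        · obtain ⟨u, v⟩ := hx.2 r hr hrt
          simpa [mul_assoc] using hy.2 _ u v }
  have hK : K = ⊤ := by
    rw [eq_top_iff, ← h.gen, Subgroup.closure_le]
    rintro z (rfl | rfl | rfl | rfl)
    · exact ⟨h.keeps_pow h.mem_range.1 h.a_inv_t,
        h.keeps_pow (inv_mem h.mem_range.1) (by rw [inv_inv]; exact h.a_t)⟩
    · have e : z * t * z⁻¹ = t := by rw [h.bt.eq, mul_inv_cancel_right]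
      refine ⟨h.keeps_pow (k := 1) h.mem_range.2.1 ?_,
        h.keeps_pow (k := 1) (inv_mem h.mem_range.2.1) (by rw [inv_inv, pow_one]; exact e)⟩
      rw [pow_one, mul_assoc, ← h.bt.eq, inv_mul_cancel_left]
    · exact ⟨h.keeps_c, h.c_inv.symm ▸ h.keeps_c⟩
    · refine ⟨fun r hr hrt => ?_, fun r hr hrt => ?_⟩
      · rw [← hrt.eq, mul_inv_cancel_right]; exact ⟨hr, hrt⟩
      · rw [inv_inv, mul_assoc, hrt.eq, inv_mul_cancel_left]; exact ⟨hr, hrt⟩
  exact (hK ▸ Subgroup.mem_top g : g ∈ K).1

theorem Hyp.fixed_central {r : G} (hr : r ∈ h.R) (hrt : Commute r t) (x : G) : Commute r x := by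
  have hN : (h.R ⊓ Subgroup.centralizer {t}).Normal := by
    refine ⟨fun s hs g => ?_⟩
    obtain ⟨u, v⟩ := h.keeps_all g s hs.1 ((Subgroup.mem_centralizer_singleton_iff.1 hs.2))
    exact ⟨u, Subgroup.mem_centralizer_singleton_iff.2 v⟩
  have hle : Subgroup.normalClosure ({t} : Set G) ≤
      Subgroup.centralizer ((h.R ⊓ Subgroup.centralizer {t} : Subgroup G) : Set G) := by
    refine Subgroup.normalClosure_le_normal ?_
    rintro _ rfl
    exact Subgroup.mem_centralizer_iff.2 fun s hs => Subgroup.mem_centralizer_singleton_iff.1 hs.2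
  have hx := hle (h.normalClosure_t ▸ Subgroup.mem_top x)
  exact Subgroup.mem_centralizer_iff.1 hx r ⟨hr, Subgroup.mem_centralizer_singleton_iff.2 hrt⟩

theorem Hyp.e_central {m : G} (hm : m ∈ (lift h.rels).range) : Commute (a * a) m := by
  rw [lift_range] at hm
  have hle : Subgroup.closure ({a, b, c} : Set G) ≤ Subgroup.centralizer {a * a} := by
    rw [Subgroup.closure_le]
    rintro z (rfl | rfl | rfl) <;> rw [SetLike.mem_coe, Subgroup.mem_centralizer_singleton_iff]
    · simp [mul_assoc]
    · have e := conj_sq h.rels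
      rw [h.e_inv, mul_inv_eq_iff_eq_mul] at e
      exact e
    · have e : z * (a * a) * z⁻¹ = a * a := by
        calc z * (a * a) * z⁻¹ = (z * a * z⁻¹) * (z * a * z⁻¹) := by group
          _ = a * a := by rw [conj_a h.rels, ← mul_inv_rev, h.e_inv]
      rw [mul_inv_eq_iff_eq_mul] at e
      exact e
  exact (Subgroup.mem_centralizer_singleton_iff.1 (hle hm)).symm

theorem Hyp.R_central {r m : G} (hr : r ∈ h.R) (hm : m ∈ (lift h.rels).range) : Commute r m := by
  rcases h.R_le_signs hr with e | e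
  · exact h.fixed_central hr (mul_inv_eq_iff_eq_mul.1 e) m
  · have he : a * a ∈ h.R := ⟨px * px, psi_px_sq, by simp [lift_px]⟩
    have hfix : r * (a * a) * t * (r * (a * a))⁻¹ = t := by
      calc r * (a * a) * t * (r * (a * a))⁻¹ = r * (a * a * t * (a * a)⁻¹) * r⁻¹ := by group
        _ = (r * t * r⁻¹)⁻¹ := by rw [h.e_t]; group
        _ = t := by rw [e, inv_inv]
    have h1 := h.fixed_central (mul_mem hr he) (mul_inv_eq_iff_eq_mul.1 hfix) m
    simpa [mul_assoc] using h1.mul_left (h.e_central hm).inv_left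

end theory

theorem comm_of_gens {Q : Type*} [Group Q] {A B C : Q} (hgen : Subgroup.closure ({A, B, C} : Set Q) = ⊤)
    (hA : A ∈ Subgroup.center Q) (hB : B ∈ Subgroup.center Q) (x : Q) : x ∈ Subgroup.center Q := by
  have hC : C ∈ Subgroup.center Q := by
    refine Subgroup.mem_center_iff.2 fun z => ?_
    have hle : Subgroup.closure ({A, B, C} : Set Q) ≤ Subgroup.centralizer {C} := by
      rw [Subgroup.closure_le]
      rintro z (rfl | rfl | rfl) <;> rw [SetLike.mem_coe, Subgroup.mem_centralizer_singleton_iff]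
      · exact (Subgroup.mem_center_iff.1 hA C).symm
      · exact (Subgroup.mem_center_iff.1 hB C).symm
    exact Subgroup.mem_centralizer_singleton_iff.1 (hle (hgen ▸ Subgroup.mem_top z))
  have hle : Subgroup.closure ({A, B, C} : Set Q) ≤ Subgroup.center Q := by
    rw [Subgroup.closure_le]
    rintro z (rfl | rfl | rfl) <;> assumption
  exact hle (hgen ▸ Subgroup.mem_top x)

theorem map_commutator_of_surjective {X Y : Type} [Group X] [Group Y] (χ : X →* Y)
    (hs : Function.Surjective χ) : (commutator X).map χ = commutator Y := by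
  rw [commutator_def, commutator_def, Subgroup.map_commutator, Subgroup.map_top_of_surjective χ hs]

theorem px_py_mem : px ∈ commutator P0 ∧ py ∈ commutator P0 := mem_commutator rels_pre

section cover

variable {M : Type} [Group M] (Φ : P0 →* M)

theorem gens_map (hs : Function.Surjective Φ) :
    Subgroup.closure ({Φ px, Φ py, Φ pz} : Set M) = ⊤ := by
  rw [← Subgroup.map_top_of_surjective Φ hs, ← pre_closure, MonoidHom.map_closure, Set.image_insert_eq,
    Set.image_insert_eq, Set.image_singleton]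

/-- The structure of a group with central image of the kernel of the action. -/
theorem double_cover (hs : Function.Surjective Φ)
    (hker : ∀ k ∈ psi.ker, Φ k ∈ Subgroup.center M) (hx : Φ (px * px) ≠ 1) :
    (commutator M).index = 2 ∧ Cfsg.IsNonsplitDoubleCover (commutator M) Cfsg.Spor.HS := by
  obtain ⟨hax, hbx⟩ := px_py_mem
  have hga := gens_map Φ hs
  have hmapC := map_commutator_of_surjective Φ hs
  have haM : Φ px ∈ commutator M := hmapC ▸ ⟨px, hax, rfl⟩
  have hbM : Φ py ∈ commutator M := hmapC ▸ ⟨py, hbx, rfl⟩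
  have : IsSimpleGroup PermAut.HS.grp := simple_grp
  -- the kernel inside the commutator subgroup acts trivially
  have hA : ∀ k ∈ Φ.ker ⊓ commutator P0, psi k = 1 := by
    let N := ((Φ.ker ⊓ commutator P0).map psi).subgroupOf PermAut.HS.grp
    have hN : N.Normal := by
      refine ⟨fun n hn g => ?_⟩
      obtain ⟨k, hk, hkn⟩ := hn
      obtain ⟨s, -, hsg⟩ := map_commutator_psi.ge g.2
      refine ⟨s * k * s⁻¹, (inferInstance : (Φ.ker ⊓ commutator P0).Normal).conj_mem k hk s, ?_⟩
      simp [hsg, hkn]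
    rcases hN.eq_bot_or_eq_top with h | h
    · intro k hk
      have hmem : psi k ∈ PermAut.HS.grp := map_commutator_psi ▸ ⟨k, hk.2, rfl⟩
      have : (⟨psi k, hmem⟩ : PermAut.HS.grp) ∈ N := ⟨k, hk, rfl⟩
      rw [h, Subgroup.mem_bot] at this
      exact congrArg Subtype.val this
    · exfalso
      have hc : ∀ m ∈ commutator M, m ∈ Subgroup.center M := by
        intro m hm
        rw [← hmapC] at hm
        obtain ⟨s, hsm, rfl⟩ := hm
        have hmem : psi s ∈ PermAut.HS.grp := map_commutator_psi ▸ ⟨s, hsm, rfl⟩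
        obtain ⟨k, hk, hks⟩ := (h ▸ Subgroup.mem_top _ : (⟨psi s, hmem⟩ : PermAut.HS.grp) ∈ N)
        have : k⁻¹ * s ∈ psi.ker := by simp [MonoidHom.mem_ker, hks]
        have := hker _ this
        rwa [map_mul, map_inv, MonoidHom.mem_ker.1 hk.1, inv_one, one_mul] at this
      have hab : ∀ x : M, x ∈ Subgroup.center M := comm_of_gens hga (hc _ haM) (hc _ hbM)
      have : commutator M = ⊥ := by
        rw [commutator_def, Subgroup.commutator_eq_bot_iff_le_centralizer]
        exact fun x _ => Subgroup.mem_centralizer_iff.2 fun y _ => Subgroup.mem_center_iff.1 (hab x) y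
      apply hx
      rw [map_mul, show Φ px = 1 from Subgroup.mem_bot.1 (this ▸ haM), mul_one]
  -- the map onto HS
  let f : commutator P0 →* commutator M :=
    (Φ.comp (commutator P0).subtype).codRestrict (commutator M) fun s => hmapC ▸ ⟨s, s.2, rfl⟩
  let gS : commutator P0 →* PermAut.HS.grp :=
    (psi.comp (commutator P0).subtype).codRestrict PermAut.HS.grp fun s => map_commutator_psi ▸ ⟨s, s.2, rfl⟩
  have hf : Function.Surjective f := by
    rintro ⟨m, hm⟩
    obtain ⟨s, hs', rfl⟩ := (hmapC ▸ hm : m ∈ (commutator P0).map Φ)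
    exact ⟨⟨s, hs'⟩, rfl⟩
  have hg : Function.Surjective gS := by
    rintro ⟨m, hm⟩
    obtain ⟨s, hs', rfl⟩ := (map_commutator_psi ▸ hm : m ∈ (commutator P0).map psi)
    exact ⟨⟨s, hs'⟩, rfl⟩
  have hfg : f.ker ≤ gS.ker := fun s hs' =>
    Subtype.ext (hA s ⟨congrArg Subtype.val (MonoidHom.mem_ker.1 hs'), s.2⟩)
  let χ : commutator M →* PermAut.HS.grp := MonoidHom.liftOfSurjective f hf ⟨gS, hfg⟩
  have hχ : ∀ s, χ (f s) = gS s := fun s => MonoidHom.liftOfRightInverse_comp_apply f _ _ ⟨gS, hfg⟩ s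
  have hχs : Function.Surjective χ := fun y => let ⟨s, e⟩ := hg y; ⟨f s, (hχ s).trans e⟩
  have hχker : ∀ m ∈ χ.ker, (m : M) ∈ Subgroup.center M := by
    intro m hm
    obtain ⟨s, rfl⟩ := hf m
    rw [MonoidHom.mem_ker, hχ] at hm
    exact hker s (congrArg Subtype.val hm)
  have hχc : χ.ker ≤ Subgroup.center (commutator M) := fun m hm =>
    Subgroup.mem_center_iff.2 fun y => Subtype.ext (Subgroup.mem_center_iff.1 (hχker m hm) y)
  have hgrp : commutator PermAut.HS.grp = ⊤ := SchurPerm.HSCase.perfect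
  -- perfect
  have hperf : commutator (commutator M) = ⊤ := by
    set M2 := (commutator (commutator M)).map (commutator M).subtype
    have hM2 : M2.Normal := by
      rw [show M2 = ⁅commutator M, commutator M⁆ from Subgroup.map_subtype_commutator _]
      infer_instance
    set π := QuotientGroup.mk' M2
    have hπ : ∀ m ∈ commutator M, π m ∈ Subgroup.center (M ⧸ M2) := by
      intro m hm
      have hmem : χ ⟨m, hm⟩ ∈ (commutator (commutator M)).map χ := by
        rw [map_commutator_of_surjective χ hχs, hgrp]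
        exact Subgroup.mem_top _
      obtain ⟨n, hn, hne⟩ := hmem
      have hz : n⁻¹ * ⟨m, hm⟩ ∈ χ.ker := by simp [MonoidHom.mem_ker, hne]
      have hz' := hχker _ hz
      rw [Subgroup.mem_center_iff]
      intro q
      obtain ⟨q, rfl⟩ := QuotientGroup.mk'_surjective M2 q
      have h1 : π (n : M) = 1 := (QuotientGroup.eq_one_iff _).2 ⟨n, hn, rfl⟩
      have e : π m = π ((n⁻¹ * ⟨m, hm⟩ : commutator M) : M) := by
        simp [map_mul, h1]
      rw [e, ← map_mul, ← map_mul, Subgroup.mem_center_iff.1 hz' q]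
    have hgq : Subgroup.closure ({π (Φ px), π (Φ py), π (Φ pz)} : Set (M ⧸ M2)) = ⊤ := by
      rw [← Subgroup.map_top_of_surjective π (QuotientGroup.mk'_surjective M2), ← hga, MonoidHom.map_closure,
        Set.image_insert_eq, Set.image_insert_eq, Set.image_singleton]
    have hcomm := comm_of_gens hgq (hπ _ haM) (hπ _ hbM)
    have hle : commutator M ≤ M2 := by
      rw [commutator_def, Subgroup.commutator_le]
      intro x _ y _
      rw [← QuotientGroup.eq_one_iff]
      show π ⁅x, y⁆ = 1
      rw [map_commutatorElement, commutatorElement_eq_one_iff_mul_comm]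
      exact (Subgroup.mem_center_iff.1 (hcomm (π x)) (π y)).symm
    rw [eq_top_iff]
    intro m _
    obtain ⟨n, hn, e⟩ := hle m.2
    rwa [show m = n from (Subtype.ext e).symm]
  -- finite, stem
  have : Finite (commutator M ⧸ χ.ker) :=
    Finite.of_equiv _ (QuotientGroup.quotientKerEquivOfSurjective χ hχs).toEquiv.symm
  have : Finite (commutator M ⧸ Subgroup.center (commutator M)) :=
    Finite.of_surjective _ (QuotientGroup.map_surjective_of_surjective χ.ker
      (Subgroup.center (commutator M)) (MonoidHom.id _) (QuotientGroup.mk'_surjective _)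
      (by simpa using hχc))
  have hfc := Schur.finite_commutator_of_finite_quotient_center (E := commutator M)
  rw [hperf] at hfc
  have : Finite (commutator M) := Finite.of_equiv _ Subgroup.topEquiv.toEquiv
  obtain ⟨π, hπ⟩ := SchurPerm.HSCase.hasCyclic_two.2 (commutator M) χ ⟨hχs, hχc, hperf ▸ le_top⟩
  have hle2 : Nat.card χ.ker ≤ 2 := by
    have := Nat.card_le_card_of_surjective π hπ
    rwa [show Nat.card (Multiplicative (ZMod 2)) = 2 from Nat.card_zmod 2] at this
  have he : (⟨Φ (px * px), hmapC ▸ ⟨px * px, mul_mem hax hax, rfl⟩⟩ : commutator M) ∈ χ.ker := by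
    have : χ (f ⟨px * px, mul_mem hax hax⟩) = 1 := by
      rw [hχ]
      exact Subtype.ext psi_px_sq
    exact this
  have hcard : Nat.card χ.ker = 2 := by
    refine le_antisymm hle2 ?_
    have : Nontrivial χ.ker := ⟨⟨_, he⟩, 1, fun e => hx (congrArg (fun z : χ.ker => ((z : commutator M) : M)) e)⟩
    exact Finite.one_lt_card
  have hcent : Subgroup.center (commutator M) = χ.ker := by
    refine le_antisymm (fun z hz => ?_) hχc
    rw [MonoidHom.mem_ker]
    apply Subtype.ext
    refine eq_one_of_centralises fun p hp => ?_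
    obtain ⟨y, hy⟩ := hχs ⟨p, hp⟩
    have := congrArg (fun w => ((χ w : PermAut.HS.grp) : Equiv.Perm (Fin 100))) (Subgroup.mem_center_iff.1 hz y)
    simpa [hy] using this
  obtain ⟨eHS⟩ := PermAut.HS.nonempty_equiv
  refine ⟨?_, hcent ▸ hcard, ⟨((QuotientGroup.quotientMulEquivOfEq hcent).trans
    (QuotientGroup.quotientKerEquivOfSurjective χ hχs)).trans eHS.symm⟩, fun L hL => ?_⟩
  · -- index two
    have hr := rels_pre.map Φ
    have hnot : Φ pz ∉ commutator M := by
      intro hz
      rw [← hmapC] at hz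
      obtain ⟨s, hs', hse⟩ := hz
      have hk : s⁻¹ * pz ∈ Φ.ker := by simp [MonoidHom.mem_ker, hse]
      have h1 : psi (s⁻¹ * pz) = 1 := by
        refine eq_one_of_centralises fun p hp => ?_
        obtain ⟨u, hu, rfl⟩ := (map_commutator_psi ▸ hp : p ∈ (commutator P0).map psi)
        have hm : ⁅u, s⁻¹ * pz⁆ ∈ Φ.ker ⊓ commutator P0 :=
          ⟨show Φ _ = 1 by rw [map_commutatorElement, MonoidHom.mem_ker.1 hk, commutatorElement_one_right],
            Subgroup.commutator_mem_commutator (Subgroup.mem_top _) (Subgroup.mem_top _)⟩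
        have := hA _ hm
        rwa [map_commutatorElement, commutatorElement_eq_one_iff_mul_comm] at this
      have hle : (commutator P0).map psi ≤ PermAut.HS.grp := map_commutator_psi.le
      refine psi_range_ne_grp ?_
      rw [MonoidHom.range_eq_map, ← pre_closure, Subgroup.map_le_iff_le_comap, Subgroup.closure_le]
      rintro z (rfl | rfl | rfl)
      · exact hle ⟨_, hax, rfl⟩
      · exact hle ⟨_, hbx, rfl⟩
      · have : psi pz = psi s := by
          rw [map_mul, map_inv, inv_mul_eq_one] at h1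
          exact h1.symm
        exact hle ⟨s, hs', this.symm⟩
    set γ : M ⧸ commutator M := QuotientGroup.mk (Φ pz)
    have htop : Subgroup.zpowers γ = ⊤ := by
      rw [eq_top_iff, ← Subgroup.map_top_of_surjective _ (QuotientGroup.mk'_surjective (commutator M)), ← hga,
        MonoidHom.map_closure, Subgroup.closure_le]
      rintro _ ⟨z, rfl | rfl | rfl, rfl⟩
      · rw [SetLike.mem_coe, show (QuotientGroup.mk' (commutator M)) (Φ px) = 1 from
          (QuotientGroup.eq_one_iff _).2 haM]
        exact one_mem _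
      · rw [SetLike.mem_coe, show (QuotientGroup.mk' (commutator M)) (Φ py) = 1 from
          (QuotientGroup.eq_one_iff _).2 hbM]
        exact one_mem _
      · exact Subgroup.mem_zpowers γ
    have hord : orderOf γ = 2 := orderOf_eq_prime (by
      rw [pow_two, ← QuotientGroup.mk_mul, c_sq hr]; rfl)
      (fun e => hnot ((QuotientGroup.eq_one_iff _).1 e))
    rw [Subgroup.index, ← hord, ← Nat.card_zpowers, htop, Subgroup.card_top]
  · -- no complement
    have hsub : commutator (commutator M) ≤ L := by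
      show ⁅(⊤ : Subgroup (commutator M)), ⊤⁆ ≤ L
      rw [Subgroup.commutator_le]
      intro x _ y _
      obtain ⟨⟨⟨z, hz⟩, ⟨l, hl⟩⟩, rfl⟩ := hL.2 x
      obtain ⟨⟨⟨w, hw⟩, ⟨k, hk⟩⟩, rfl⟩ := hL.2 y
      show ⁅z * l, w * k⁆ ∈ L
      have e : ⁅z * l, w * k⁆ = ⁅l, k⁆ := by
        rw [← Subgroup.mem_center_iff.1 hz l, ← Subgroup.mem_center_iff.1 hw k]
        exact Schur.commutatorElement_mul_center hz hw
      rw [e, commutatorElement_def]
      exact mul_mem (mul_mem (mul_mem hl hk) (inv_mem hl)) (inv_mem hk)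
    rw [hperf, top_le_iff] at hsub
    subst hsub
    have := hL.disjoint
    rw [disjoint_top] at this
    rw [this] at hcent
    rw [← hcent, Subgroup.card_bot] at hcard
    omega

end cover

/-- The subgroup on the first three elements: its commutator subgroup is a double cover of HS. -/
theorem double_cover_of_hyp {G : Type} [Group G] {a b c t : G} (h : Hyp a b c t) :
    ∃ K : Subgroup ↥(Subgroup.closure ({a, b, c} : Set G)), K.Normal ∧ K.index = 2 ∧
      Cfsg.IsNonsplitDoubleCover K Cfsg.Spor.HS := by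
  rw [← lift_range h.rels]
  have hker : ∀ k ∈ psi.ker, (lift h.rels).rangeRestrict k ∈ Subgroup.center (lift h.rels).range := fun k hk =>
    Subgroup.mem_center_iff.2 fun m => Subtype.ext (h.R_central ⟨k, hk, rfl⟩ m.2).symm.eq
  have hx : (lift h.rels).rangeRestrict (px * px) ≠ 1 := fun e => h.a_sq (by
    simpa [lift_px] using congrArg Subtype.val e)
  exact ⟨commutator _, inferInstance,
    double_cover _ (lift h.rels).rangeRestrict_surjective hker hx⟩

end CfsgLib.HNDouble
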