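import Cfsg.Agent.Lib.HNDouble.Data
import Mathlib.GroupTheory.Abelianization.Defs

/-!
Values of words in the three letters, and the consequences of the relators in the abelianisation and in a
quotient where the third letter is trivial.
-/

set_option autoImplicit false

namespace CfsgLib.HNDouble

/-- The letters made from three elements. -/
def lt {G : Type*} [Group G] (a b c : G) : ℕ → G
  | 0 => a
  | 1 => a⁻¹
  | 2 => b
  | 3 => b⁻¹
  | 4 => c
  | _ => 1

theorem map_lt {G H : Type*} [Group G] [Group H] (φ : G →* H) (a b c : G) (n : ℕ) :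
    φ (lt a b c n) = lt (φ a) (φ b) (φ c) n := by
  match n with
  | 0 => rfl
  | 1 => exact map_inv φ a
  | 2 => rfl
  | 3 => exact map_inv φ b
  | 4 => rfl
  | _ + 5 => exact map_one φ

/-- The value of a word. -/
def wv {G : Type*} [Group G] (a b c : G) (l : List ℕ) : G := (l.map (lt a b c)).prod

theorem map_wv {G H : Type*} [Group G] [Group H] (φ : G →* H) (a b c : G) (l : List ℕ) :
    φ (wv a b c l) = wv (φ a) (φ b) (φ c) l := by
  induction l with
  | nil => exact map_one φ
  | cons x l ih =>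
    simp only [wv, List.map_cons, List.prod_cons, map_mul] at ih ⊢
    rw [ih, map_lt]

/-- The relators hold. -/
def RelsHold {G : Type*} [Group G] (a b c : G) : Prop := ∀ l ∈ rels, wv a b c l = 1

theorem RelsHold.at {G : Type*} [Group G] {a b c : G} (h : RelsHold a b c) (i : ℕ) :
    wv a b c (rels.getD i []) = 1 := by
  rcases Nat.lt_or_ge i rels.length with hi | hi
  · rw [List.getD_eq_getElem _ _ hi]
    exact h _ (List.getElem_mem hi)
  · rw [List.getD_eq_default _ _ hi]
    rfl

theorem RelsHold.map {G H : Type*} [Group G] [Group H] {a b c : G} (h : RelsHold a b c) (φ : G →* H) :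
    RelsHold (φ a) (φ b) (φ c) := fun l hl => by
  rw [← map_wv, h l hl, map_one]

theorem c_sq {G : Type*} [Group G] {a b c : G} (h : RelsHold a b c) : c * c = 1 := by
  simpa [wv, lt, rels] using h.at 6

theorem conj_a {G : Type*} [Group G] {a b c : G} (h : RelsHold a b c) : c * a * c⁻¹ = a⁻¹ := by
  have h7 : c * a * c * a = 1 := by simpa [wv, lt, rels, mul_assoc] using h.at 7
  rw [inv_eq_of_mul_eq_one_right (c_sq h)]
  exact eq_inv_of_mul_eq_one_left h7

theorem conj_sq {G : Type*} [Group G] {a b c : G} (h : RelsHold a b c) :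
    b * (a * a) * b⁻¹ = (a * a)⁻¹ := by
  have h1 : a * a * (b * (a * a) * b⁻¹) = 1 := by simpa [wv, lt, rels, mul_assoc] using h.at 1
  exact (inv_eq_of_mul_eq_one_right h1).symm

/-- Exponent of a letter. -/
def expOf (t : List ℤ) (l : List ℕ) : ℤ := (l.map fun x => t.getD x 0).sum

theorem wv_comm {Q : Type*} [CommGroup Q] (A B C : Q) : ∀ l : List ℕ,
    wv A B C l = A ^ expOf [1, -1] l * B ^ expOf [0, 0, 1, -1] l * C ^ expOf [0, 0, 0, 0, 1] l
  | [] => by simp [wv, expOf]
  | x :: l => by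
    have ih := wv_comm A B C l
    have hx : lt A B C x = A ^ ([1, -1] : List ℤ).getD x 0 * B ^ ([0, 0, 1, -1] : List ℤ).getD x 0 *
        C ^ ([0, 0, 0, 0, 1] : List ℤ).getD x 0 := by
      match x with
      | 0 | 1 | 2 | 3 | 4 => simp [lt]
      | n + 5 => simp [lt]
    simp only [wv, expOf, List.map_cons, List.prod_cons, List.sum_cons, zpow_add] at ih ⊢
    rw [ih, hx]
    ac_rfl

theorem exps : (([0, 3, 4, 6, 7, 9] : List ℕ).map fun i =>
    [expOf [1, -1] (rels.getD i []), expOf [0, 0, 1, -1] (rels.getD i []),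
      expOf [0, 0, 0, 0, 1] (rels.getD i [])]) =
    [[0, 6, 0], [0, 15, 0], [8, 8, 0], [0, 0, 2], [2, 0, 2], [3, 0, 4]] := by
  decide +kernel

theorem small_orders {Q : Type*} [Group Q] {B : Q} (h6 : B ^ 6 = 1) (h15 : B ^ 15 = 1) (h8 : B ^ 8 = 1) :
    B = 1 := by
  have h3 : B ^ 3 = 1 := by
    calc B ^ 3 = (B ^ 6) ^ 2 * B ^ 3 := by rw [h6, one_pow, one_mul]
      _ = B ^ 15 := by rw [← pow_mul, ← pow_add]
      _ = 1 := h15
  have h2 : B ^ 2 = 1 := by
    calc B ^ 2 = B ^ 6 * B ^ 2 := by rw [h6, one_mul]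
      _ = B ^ 8 := by rw [← pow_add]
      _ = 1 := h8
  calc B = B ^ 2 * B := by rw [h2, one_mul]
    _ = B ^ 3 := (pow_succ B 2).symm
    _ = 1 := h3

/-- In an abelian image the first two letters are trivial. -/
theorem abelian_image {Q : Type*} [CommGroup Q] {A B C : Q} (h : RelsHold A B C) : A = 1 ∧ B = 1 := by
  have e := exps
  simp only [List.map_cons, List.map_nil, List.cons.injEq, and_true] at e
  obtain ⟨⟨a0, b0, c0⟩, ⟨a3, b3, c3⟩, ⟨a4, b4, c4⟩, ⟨a6, b6, c6⟩, ⟨a7, b7, c7⟩, a9, b9, c9⟩ := e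
  have r0 := h.at 0
  have r3 := h.at 3
  have r4 := h.at 4
  have r6 := h.at 6
  have r7 := h.at 7
  have r9 := h.at 9
  rw [wv_comm, a0, b0, c0] at r0
  rw [wv_comm, a3, b3, c3] at r3
  rw [wv_comm, a4, b4, c4] at r4
  rw [wv_comm, a6, b6, c6] at r6
  rw [wv_comm, a7, b7, c7] at r7
  rw [wv_comm, a9, b9, c9] at r9
  simp only [zpow_ofNat, pow_zero, one_mul, mul_one] at r0 r3 r4 r6 r7 r9
  have hA2 : A ^ 2 = 1 := by simpa [r6] using r7
  have hC4 : C ^ 4 = 1 := by rw [show 4 = 2 * 2 from rfl, pow_mul, r6, one_pow]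
  have hA : A = 1 := by
    simpa [show 3 = 2 + 1 from rfl, pow_succ, hC4, hA2] using r9
  subst hA
  exact ⟨rfl, small_orders r0 r3 (by simpa using r4)⟩

/-- A quotient with the third letter trivial is trivial. -/
theorem trivial_image {Q : Type*} [Group Q] {A B : Q} (h : RelsHold A B 1) : A = 1 ∧ B = 1 := by
  have hA2 : A * A = 1 := by simpa [wv, lt, rels] using h.at 7
  have hA : A = 1 := by
    have r9 : A * (A * A) = 1 := by simpa [wv, lt, rels, mul_assoc] using h.at 9
    rwa [hA2, mul_one] at r9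
  subst hA
  refine ⟨rfl, small_orders ?_ ?_ ?_⟩
  · simpa [wv, lt, rels, pow_succ, mul_assoc] using h.at 0
  · simpa [wv, lt, rels, pow_succ, mul_assoc] using h.at 3
  · simpa [wv, lt, rels, pow_succ, mul_assoc] using h.at 4

/-- The first two letters lie in the commutator subgroup. -/
theorem mem_commutator {G : Type*} [Group G] {a b c : G} (h : RelsHold a b c) :
    a ∈ commutator G ∧ b ∈ commutator G := by
  rw [← Abelianization.ker_of]
  exact abelian_image (h.map Abelianization.of)

end CfsgLib.HNDouble
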