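import Cfsg.Agent.Lib.CosetEnum.Index
import Cfsg.Agent.Lib.HNDouble.Cert
import Cfsg.Agent.Lib.HNDouble.CertFour
import Cfsg.Agent.Lib.HNDouble.Words
import Mathlib.GroupTheory.PresentedGroup
import Mathlib.Tactic.IntervalCases

/-!
The group presented by the relators on three letters: the first generator has fourth power one and the
subgroup of the three sign words has index at most 704.
-/

set_option autoImplicit false
set_option maxRecDepth 100000

namespace CfsgLib.HNDouble

open CfsgLib.CosetEnum

/-- The relators in the free group. -/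
def Rel : Set (FreeGroup (Fin 3)) :=
  {w | w ∈ rels.map (wv (FreeGroup.of 0) (FreeGroup.of 1) (FreeGroup.of 2))}

/-- The presented group. -/
abbrev P0 : Type := PresentedGroup Rel

/-- The first generator. -/
def px : P0 := PresentedGroup.of 0

/-- The second generator. -/
def py : P0 := PresentedGroup.of 1

/-- The third generator. -/
def pz : P0 := PresentedGroup.of 2

theorem rels_pre : RelsHold px py pz := fun l hl => by
  have h := map_wv (PresentedGroup.mk Rel) (FreeGroup.of 0) (FreeGroup.of 1) (FreeGroup.of 2) l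
  rw [show PresentedGroup.mk Rel (wv (FreeGroup.of 0) (FreeGroup.of 1) (FreeGroup.of 2) l) = 1 from
    PresentedGroup.one_of_mem (List.mem_map.2 ⟨l, hl, rfl⟩)] at h
  exact h.symm

/-- The map of the presented group given by three elements satisfying the relators. -/
def lift {G : Type*} [Group G] {a b c : G} (h : RelsHold a b c) : P0 →* G :=
  PresentedGroup.toGroup (f := ![a, b, c]) fun r hr => by
    obtain ⟨l, hl, rfl⟩ := List.mem_map.1 hr
    rw [map_wv, FreeGroup.lift_apply_of, FreeGroup.lift_apply_of, FreeGroup.lift_apply_of]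
    exact h l hl

theorem lift_px {G : Type*} [Group G] {a b c : G} (h : RelsHold a b c) : lift h px = a :=
  PresentedGroup.toGroup.of _

theorem lift_py {G : Type*} [Group G] {a b c : G} (h : RelsHold a b c) : lift h py = b :=
  PresentedGroup.toGroup.of _

theorem lift_pz {G : Type*} [Group G] {a b c : G} (h : RelsHold a b c) : lift h pz = c :=
  PresentedGroup.toGroup.of _

theorem pre_closure : Subgroup.closure ({px, py, pz} : Set P0) = ⊤ := by
  rw [eq_top_iff, ← PresentedGroup.closure_range_of Rel, Subgroup.closure_le]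
  rintro _ ⟨i, rfl⟩
  fin_cases i
  · exact Subgroup.subset_closure (Or.inl rfl)
  · exact Subgroup.subset_closure (Or.inr (Or.inl rfl))
  · exact Subgroup.subset_closure (Or.inr (Or.inr rfl))

theorem lift_range {G : Type*} [Group G] {a b c : G} (h : RelsHold a b c) :
    (lift h).range = Subgroup.closure ({a, b, c} : Set G) := by
  rw [MonoidHom.range_eq_map, ← pre_closure, MonoidHom.map_closure, Set.image_insert_eq,
    Set.image_insert_eq, Set.image_singleton, lift_px, lift_py, lift_pz]

/-- The letters in the presented group. -/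
def g : ℕ → P0 := lt px py pz

theorem g_ip : ∀ x < 16,
    linv ip x = [1, 0, 3, 2, 4, 5, 6, 7, 8, 9, 10, 11, 12, 13, 14, 15].getD x 0 := by
  decide +kernel

theorem g_inv : ∀ x < 16, g (linv ip x) = (g x)⁻¹ := by
  intro x hx
  rw [g_ip x hx]
  interval_cases x <;> simp [g, lt, inv_eq_of_mul_eq_one_right (c_sq rels_pre)]

theorem g_high : ∀ x < 16, x < 5 ∨ g x = 1 := fun x _ => by
  rcases Nat.lt_or_ge x 5 with h | h
  · exact Or.inl h
  · obtain ⟨k, rfl⟩ : ∃ k, x = k + 5 := ⟨x - 5, by omega⟩
    exact Or.inr rfl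

theorem letters_lt : (rels4 ++ subWords).all (fun l => l.all fun x => Nat.blt x 16) = true := by
  decide +kernel

theorem word_lt {l : List ℕ} (hl : l ∈ rels4 ++ subWords) : ∀ x ∈ l, x < 16 := fun x hx => by
  simpa [Nat.blt_eq] using List.all_eq_true.1 (List.all_eq_true.1 letters_lt l hl) x hx

theorem px_four : px * px * px * px = 1 :=
  four_of_check (g := g) rfl g_inv
    (fun l hl => ⟨word_lt (List.mem_append_left _ (List.mem_append_left _ hl)), rels_pre l hl⟩) Four.check

theorem rels4_pre {l : List ℕ} (hl : l ∈ rels4) : (∀ x ∈ l, x < 16) ∧ (l.map g).prod = 1 := by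
  refine ⟨word_lt (List.mem_append_left _ hl), ?_⟩
  rcases List.mem_append.1 hl with hl | hl
  · exact rels_pre l hl
  · rw [List.mem_singleton.1 hl]
    simpa [g, lt, mul_assoc] using px_four

/-- The subgroup of the sign words. -/
def subA : Subgroup P0 := Subgroup.closure {z | ∃ c ∈ subWords, z = (c.map g).prod}

theorem subA_covers : CoversCosets ⊤ subA 704 := by
  have h := Cert.fits_ok
  simp only [Bool.and_eq_true] at h
  obtain ⟨⟨⟨⟨hWf, hWe⟩, hSf⟩, hSe⟩, hL⟩ := h
  refine coversCosets_of_cert (g := g) (ip := ip) rfl g_inv 5 (by norm_num) g_high ⊤ subA ?_ rels4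
    (fun l hl => rels4_pre hl) subWords
    (fun l hl => ⟨word_lt (List.mem_append_right _ hl), Subgroup.subset_closure ⟨l, hl, rfl⟩⟩)
    _ _ _ _ _ Cert.table _ 16 16 _ _ _ rfl (by norm_num) hWf hWe hSf hSe Cert.facts_ok hL Cert.rows_ok
  rw [← pre_closure, Subgroup.closure_le]
  rintro z (rfl | rfl | rfl)
  · exact Subgroup.subset_closure ⟨0, by norm_num, rfl⟩
  · exact Subgroup.subset_closure ⟨2, by norm_num, rfl⟩
  · exact Subgroup.subset_closure ⟨4, by norm_num, rfl⟩

theorem subA_index : subA.FiniteIndex ∧ subA.index ≤ 704 := by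
  obtain ⟨u, hu⟩ := subA_covers
  have hsurj : Function.Surjective (fun k : Fin 704 => (((u k)⁻¹ : P0) : P0 ⧸ subA)) := by
    intro q
    induction q using QuotientGroup.induction_on with
    | H z =>
      obtain ⟨k, hk, hmem⟩ := hu z⁻¹ trivial
      exact ⟨⟨k, hk⟩, QuotientGroup.eq.mpr (by simpa using subA.inv_mem hmem)⟩
  have : Finite (P0 ⧸ subA) := Finite.of_surjective _ hsurj
  refine ⟨Subgroup.finiteIndex_of_finite_quotient, ?_⟩
  simpa [Subgroup.index] using Nat.card_le_card_of_surjective _ hsurj

theorem subA_eq : subA = Subgroup.closure {py, px⁻¹ * (py * px), px * px} := by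
  unfold subA
  congr 1
  ext z
  simp [subWords, g, lt, mul_assoc]

end CfsgLib.HNDouble
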